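import Mathlib
import Groth.Prelude.Def_W4c1hilbpnTgt

/-!
# Monomial ideals
-/

set_option autoImplicit false

universe u v

open MvPolynomial W4c1hilbpn

noncomputable section

namespace Groth.Agent.HilbPnLib

variable {σ : Type v} {k : Type u} [Field k]

theorem exps_up {I : Ideal (MvPolynomial σ k)} {β γ : σ →₀ ℕ} (h : β ∈ exps I) (hle : β ≤ γ) : γ ∈ exps I := by
  show monomial γ (1 : k) ∈ I
  rw [← tsub_add_cancel_of_le hle, show monomial (γ - β + β) (1 : k) = monomial (γ - β) 1 * monomial β 1 by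
    rw [monomial_mul, mul_one]]
  exact I.mul_mem_left _ h

theorem mem_of_support {I : Ideal (MvPolynomial σ k)} {p : MvPolynomial σ k} (h : ∀ d ∈ p.support, d ∈ exps I) :
    p ∈ I := by
  rw [p.as_sum]
  refine Ideal.sum_mem I fun d hd => ?_
  rw [show monomial d (p.coeff d) = C (p.coeff d) * monomial d 1 by rw [C_mul_monomial, mul_one]]
  exact I.mul_mem_left _ (h d hd)

theorem exists_single_mem {I : Ideal (MvPolynomial σ k)} (hI : IsMonomial I)
    [Module.Finite k (MvPolynomial σ k ⧸ I)] (i : σ) : ∃ N : ℕ, Finsupp.single i N ∈ exps I := by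
  classical
  obtain ⟨P, hP, hP0⟩ := Algebra.IsIntegral.isIntegral (R := k) (Ideal.Quotient.mk I (X i))
  rw [← Polynomial.aeval_def, show Ideal.Quotient.mk I (X i) = Ideal.Quotient.mkₐ k I (X i) from rfl,
    Polynomial.aeval_algHom_apply] at hP0
  refine ⟨P.natDegree, hI _ (Ideal.Quotient.eq_zero_iff_mem.1 hP0) _ (mem_support_iff.2 ?_)⟩
  rw [Polynomial.aeval_eq_sum_range, coeff_sum, Finset.sum_eq_single P.natDegree]
  · rw [coeff_smul, coeff_X_pow, if_pos rfl, smul_eq_mul, mul_one, hP.coeff_natDegree]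
    exact one_ne_zero
  · intro j _ hj
    rw [coeff_smul, coeff_X_pow, if_neg (fun h => hj (Finsupp.single_injective i h)), smul_zero]
  · intro h; exact absurd (Finset.mem_range.2 (Nat.lt_succ_self _)) h

theorem e3_apply (a b c : ℕ) : (e3 a b c) 0 = a ∧ (e3 a b c) 1 = b ∧ (e3 a b c) 2 = c := by simp [e3]

theorem eq_e3 (d : Fin 3 →₀ ℕ) : d = e3 (d 0) (d 1) (d 2) := by
  ext i; fin_cases i <;> simp [e3, Matrix.vecHead, Matrix.vecTail, Finsupp.single_apply]

theorem e3_le {a b c a' b' c' : ℕ} (h0 : a ≤ a') (h1 : b ≤ b') (h2 : c ≤ c') : e3 a b c ≤ e3 a' b' c' := by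
  intro i; fin_cases i <;> simpa [e3]

variable {I : Ideal (MvPolynomial (Fin 3) k)}

theorem finite_stairZ (hI : IsMonomial I) [Module.Finite k (MvPolynomial (Fin 3) k ⧸ I)] (a b : ℕ) :
    Finite {c : ℕ // e3 a b c ∉ exps I} := by
  obtain ⟨N, hN⟩ := exists_single_mem hI 2
  refine Set.Finite.to_subtype ((Set.finite_Iio N).subset fun c hc => ?_)
  by_contra h
  refine hc (exps_up hN ?_)
  intro i; fin_cases i <;> simp_all [e3]

theorem finite_stairY (hI : IsMonomial I) [Module.Finite k (MvPolynomial (Fin 3) k ⧸ I)] (a c : ℕ) :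
    Finite {b : ℕ // e3 a b c ∉ exps I} := by
  obtain ⟨N, hN⟩ := exists_single_mem hI 1
  refine Set.Finite.to_subtype ((Set.finite_Iio N).subset fun b hb => ?_)
  by_contra h
  refine hb (exps_up hN ?_)
  intro i; fin_cases i <;> simp_all [e3]

theorem step_yx (hI : IsStronglyStable I) {a b c : ℕ} (h : e3 a (b + 1) c ∈ exps I) : e3 (a + 1) b c ∈ exps I := by
  convert hI.2 _ h 0 1 (by decide) (by simp [e3]) using 1
  ext i; fin_cases i <;> simp [e3, Matrix.vecHead, Matrix.vecTail, Finsupp.single_apply]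

theorem step_zx (hI : IsStronglyStable I) {a b c : ℕ} (h : e3 a b (c + 1) ∈ exps I) : e3 (a + 1) b c ∈ exps I := by
  convert hI.2 _ h 0 2 (by decide) (by simp [e3]) using 1
  ext i; fin_cases i <;> simp [e3, Matrix.vecHead, Matrix.vecTail, Finsupp.single_apply]

theorem step_zy (hI : IsStronglyStable I) {a b c : ℕ} (h : e3 a b (c + 1) ∈ exps I) : e3 a (b + 1) c ∈ exps I := by
  convert hI.2 _ h 1 2 (by decide) (by simp [e3]) using 1
  ext i; fin_cases i <;> simp [e3, Matrix.vecHead, Matrix.vecTail, Finsupp.single_apply]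

theorem mapDomain_succ_add (a : ℕ) (γ : Fin 2 →₀ ℕ) :
    Finsupp.mapDomain Fin.succ γ + Finsupp.single 0 a = e3 a (γ 0) (γ 1) := by
  ext i
  fin_cases i
  · simp [e3, Finsupp.mapDomain_of_notMem_range]
  · show (Finsupp.mapDomain Fin.succ γ + Finsupp.single 0 a : Fin 3 →₀ ℕ) (Fin.succ 0) = _
    rw [Finsupp.add_apply, Finsupp.mapDomain_apply (Fin.succ_injective 2)]
    simp [e3]
  · show (Finsupp.mapDomain Fin.succ γ + Finsupp.single 0 a : Fin 3 →₀ ℕ) (Fin.succ 1) = _
    rw [Finsupp.add_apply, Finsupp.mapDomain_apply (Fin.succ_injective 2)]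
    simp [e3]

theorem mem_sliceX {a : ℕ} {f : MvPolynomial (Fin 2) k} :
    f ∈ sliceX I a ↔ rename Fin.succ f * X 0 ^ a ∈ I := by
  rw [sliceX, Ideal.mem_comap, Submodule.mem_colon_singleton]
  rfl

theorem mem_exps_sliceX {a : ℕ} {γ : Fin 2 →₀ ℕ} :
    γ ∈ exps (sliceX I a) ↔ e3 a (γ 0) (γ 1) ∈ exps I := by
  show monomial γ 1 ∈ sliceX I a ↔ monomial _ 1 ∈ I
  rw [mem_sliceX, rename_monomial, X_pow_eq_monomial, monomial_mul, mul_one, mapDomain_succ_add]

theorem isMonomial_sliceX (hI : IsMonomial I) (a : ℕ) : IsMonomial (sliceX I a) := by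
  intro p hp β hβ
  show β ∈ exps (sliceX I a)
  rw [mem_exps_sliceX]
  refine hI _ (mem_sliceX.1 hp) _ (mem_support_iff.2 ?_)
  rw [X_pow_eq_monomial, ← mapDomain_succ_add, coeff_mul_monomial, coeff_rename_mapDomain _ (Fin.succ_injective 2), mul_one]
  exact mem_support_iff.1 hβ

end Groth.Agent.HilbPnLib
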