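import Groth.Agent.HilbPnLib.Tgt

/-!
# Tangent pieces and bounded components
-/

set_option autoImplicit false

universe u

open MvPolynomial W4c1hilbpn

noncomputable section

namespace Groth.Agent.HilbPnLib

variable {n : ℕ} {k : Type u} [Field k] {I : Ideal (MvPolynomial (Fin n) k)} {α : Fin n → ℤ}

/-- Truncation of an integer vector. -/
def tn (γ : Fin n → ℤ) : Fin n →₀ ℕ := Finsupp.equivFunOnFinite.symm fun i => (γ i).toNat

theorem tn_apply (γ : Fin n → ℤ) (i : Fin n) : tn γ i = (γ i).toNat := rfl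

/-- The integer vector of an exponent shifted. -/
def sv (α : Fin n → ℤ) (β : Fin n →₀ ℕ) : Fin n → ℤ := fun i => (β i : ℤ) + α i

theorem tn_sv (β : Fin n →₀ ℕ) : tn (sv α β) = shift β α := rfl

theorem mem_region {γ : Fin n → ℤ} : γ ∈ region I α ↔
    (∃ β ∈ exps I, γ = sv α β) ∧ ¬ ((∀ i, 0 ≤ γ i) ∧ tn γ ∈ exps I) := Iff.rfl

theorem adj_iff {a b : Fin n → ℤ} :
    (stepGraph (Fin n)).Adj a b ↔ ∃ i, b = a + Pi.single i 1 ∨ a = b + Pi.single i 1 := by
  classical
  constructor
  · intro h
    obtain ⟨hne, h⟩ := (SimpleGraph.fromRel_adj _ _ _).1 h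
    have h1 : ∑ i, |a i - b i| = 1 := by
      rcases h with h | h
      · exact h
      · rw [← h]; exact Finset.sum_congr rfl fun i _ => abs_sub_comm _ _
    obtain ⟨i, hi⟩ := Function.ne_iff.1 hne
    refine ⟨i, ?_⟩
    rw [← Finset.add_sum_erase _ _ (Finset.mem_univ i)] at h1
    have h2 : 0 < |a i - b i| := abs_pos.2 (sub_ne_zero.2 hi)
    have h3 : 0 ≤ ∑ x ∈ Finset.univ.erase i, |a x - b x| := Finset.sum_nonneg fun x _ => abs_nonneg _
    have h4 : ∀ l, l ≠ i → a l = b l := fun l hl => by
      have := (Finset.sum_eq_zero_iff_of_nonneg fun x _ => abs_nonneg (a x - b x)).1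
        (show ∑ x ∈ Finset.univ.erase i, |a x - b x| = 0 by omega) l (Finset.mem_erase.2 ⟨hl, Finset.mem_univ _⟩)
      exact sub_eq_zero.1 (abs_eq_zero.1 this)
    rcases (abs_eq zero_le_one).1 (show |a i - b i| = 1 by omega) with h5 | h5
    · right
      ext l
      rcases eq_or_ne l i with rfl | hl
      · simp; omega
      · simp [hl, h4 l hl]
    · left
      ext l
      rcases eq_or_ne l i with rfl | hl
      · simp; omega
      · simp [hl, h4 l hl]
  · rintro ⟨i, rfl | rfl⟩
    · refine (SimpleGraph.fromRel_adj _ _ _).2 ⟨fun h => by simpa using congrFun h i, Or.inr ?_⟩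
      rw [Finset.sum_eq_single i (fun l _ hl => by simp [hl]) (by simp)]
      simp
    · refine (SimpleGraph.fromRel_adj _ _ _).2 ⟨fun h => by simpa using congrFun h i, Or.inl ?_⟩
      rw [Finset.sum_eq_single i (fun l _ hl => by simp [hl]) (by simp)]
      simp

variable (I α) in
/-- The graph on the region. -/
abbrev regGraph : SimpleGraph (region I α) := (stepGraph (Fin n)).induce (region I α)

variable (I α) in
/-- The bounded components. -/
abbrev BddComp : Type := {c : (regGraph I α).ConnectedComponent // c.supp.Finite}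

theorem reachable_up {δ : Fin n →₀ ℕ} : ∀ {β : Fin n →₀ ℕ}, β ∈ exps I →
    ∀ (h : sv α β ∈ region I α) (h' : sv α (δ + β) ∈ region I α),
    (regGraph I α).Reachable ⟨_, h⟩ ⟨_, h'⟩ := by
  classical
  suffices hh : ∀ (m : ℕ) (δ : Fin n →₀ ℕ), δ.degree = m → ∀ {β : Fin n →₀ ℕ}, β ∈ exps I →
      ∀ (h : sv α β ∈ region I α) (h' : sv α (δ + β) ∈ region I α), (regGraph I α).Reachable ⟨_, h⟩ ⟨_, h'⟩ from fun {β} hβ => hh _ δ rfl hβ
  intro m
  induction m with
  | zero =>
    intro δ hδ β _ h h'
    rw [Finsupp.degree_eq_zero_iff] at hδ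
    subst hδ
    exact SimpleGraph.Reachable.refl _ |>.trans (by rw [show (⟨sv α (0 + β), h'⟩ : region I α) = ⟨sv α β, h⟩ from Subtype.ext (congrArg (sv α) (zero_add β))])
  | succ m ih =>
    intro δ hδ β hβ h h'
    obtain ⟨i, hi⟩ : ∃ i, δ i ≠ 0 := by
      by_contra hc
      push Not at hc
      rw [show δ = 0 from Finsupp.ext hc, map_zero] at hδ
      omega
    obtain ⟨δ', rfl⟩ := le_iff_exists_add.1 (Finsupp.single_le_iff.2 (show 1 ≤ δ i by omega))
    rw [map_add, Finsupp.degree_single] at hδ
    have hm : sv α (δ' + β) ∈ region I α := by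
      refine mem_region.2 ⟨⟨_, exps_up hβ le_add_self, rfl⟩, fun hc => (mem_region.1 h').2 ⟨fun l => ?_, exps_up hc.2 fun l => ?_⟩⟩
      · have := hc.1 l
        simp only [sv, Finsupp.add_apply] at *
        omega
      · simp only [tn_apply, sv, Finsupp.add_apply]
        omega
    refine (ih δ' (by omega) hβ h hm).trans (SimpleGraph.Adj.reachable ?_)
    refine adj_iff.2 ⟨i, Or.inl (funext fun l => ?_)⟩
    show sv α _ l = sv α _ l + (Pi.single i 1 : Fin n → ℤ) l
    simp only [sv, Finsupp.add_apply]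
    rcases eq_or_ne i l with rfl | hl
    · simp; omega
    · simp [Finsupp.single_eq_of_ne hl.symm, Pi.single_eq_of_ne hl.symm]

theorem up_mem {γ : Fin n → ℤ} (hγ : γ ∈ region I α) {j : Fin n} (hj : γ j < 0) {i : Fin n} (hij : i ≠ j) (t : ℕ) :
    γ + Pi.single i (t : ℤ) ∈ region I α := by
  obtain ⟨⟨β, hβ, rfl⟩, -⟩ := mem_region.1 hγ
  refine mem_region.2 ⟨⟨Finsupp.single i t + β, exps_up hβ le_add_self, funext fun l => ?_⟩, fun hc => ?_⟩
  · simp only [sv, Finsupp.add_apply, Pi.add_apply]
    rcases eq_or_ne i l with rfl | hl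
    · simp; ring
    · simp [Finsupp.single_eq_of_ne hl.symm, Pi.single_eq_of_ne hl.symm]
  · have := hc.1 j
    rw [Pi.add_apply, Pi.single_eq_of_ne hij.symm] at this
    omega

theorem nonneg_of_finite (hn : 2 ≤ n) {γ : region I α}
    (hf : ((regGraph I α).connectedComponentMk γ).supp.Finite) : ∀ i, 0 ≤ γ.1 i := by
  haveI : Nontrivial (Fin n) := Fin.nontrivial_iff_two_le.2 hn
  intro j
  by_contra hj
  push Not at hj
  obtain ⟨i, hij⟩ := exists_ne j
  let f : ℕ → region I α := fun t => ⟨γ.1 + Pi.single i (t : ℤ), up_mem γ.2 hj hij t⟩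
  have hr : ∀ t, (regGraph I α).Reachable γ (f t) := by
    intro t
    induction t with
    | zero => rw [show f 0 = γ from Subtype.ext (by simp [f])]
    | succ t ih =>
      refine ih.trans (SimpleGraph.Adj.reachable (adj_iff.2 ⟨i, Or.inl ?_⟩))
      show γ.1 + Pi.single i ((t + 1 : ℕ) : ℤ) = γ.1 + Pi.single i (t : ℤ) + Pi.single i 1
      rw [add_assoc, ← Pi.single_add]; push_cast; rfl
  refine Set.infinite_range_of_injective (f := f) (fun a b h => ?_) (hf.subset ?_)
  · have := congrFun (congrArg Subtype.val h) i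
    simpa [f] using this
  · rintro _ ⟨t, rfl⟩
    exact SimpleGraph.ConnectedComponent.sound (hr t).symm

theorem exists_neg_of_infinite (hI : IsMonomial I) [Module.Finite k (MvPolynomial (Fin n) k ⧸ I)]
    {c : (regGraph I α).ConnectedComponent} (hc : ¬ c.supp.Finite) : ∃ γ ∈ c.supp, ∃ i, γ.1 i < 0 := by
  by_contra h
  push Not at h
  refine hc (Set.Finite.of_finite_image (f := fun γ : region I α => tn γ.1) ((finite_compl_exps hI).subset ?_) ?_)
  · rintro _ ⟨γ, hγ, rfl⟩ hm
    exact (mem_region.1 γ.2).2 ⟨h γ hγ, hm⟩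
  · intro a ha b hb he
    refine Subtype.ext (funext fun i => ?_)
    have := congrArg (fun f : Fin n →₀ ℕ => f i) he
    simp only [tn_apply] at this
    have := h a ha i
    have := h b hb i
    omega

theorem mem_exps_back {γ : Fin n → ℤ} (h : γ ∈ region I α) : tn (γ - α) ∈ exps I := by
  obtain ⟨⟨β, hβ, rfl⟩, -⟩ := mem_region.1 h
  convert hβ using 1
  ext i; simp [tn_apply, sv]

theorem sv_back {γ : Fin n → ℤ} (h : γ ∈ region I α) : sv α (tn (γ - α)) = γ := by
  obtain ⟨⟨β, hβ, rfl⟩, -⟩ := mem_region.1 h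
  ext i; simp [tn_apply, sv]

theorem sv_mem_region {β : Fin n →₀ ℕ} (hβ : β ∈ exps I) (h : ∀ i, 0 ≤ (β i : ℤ) + α i)
    (he : shift β α ∉ exps I) : sv α β ∈ region I α :=
  mem_region.2 ⟨⟨β, hβ, rfl⟩, fun hc => he hc.2⟩

open Classical in
/-- The value of a homomorphism at a point of the region. -/
def regVal (hI : IsMonomial I) (φ : Tgt I) (γ : region I α) : k :=
  if ∀ i, 0 ≤ γ.1 i then cf hI (tn γ.1) (φ (gen (tn (γ.1 - α)) (mem_exps_back γ.2))) else 0

theorem regVal_eq_of_step (hI : IsMonomial I) {φ : Tgt I} (hφ : φ ∈ tPiece I α) {γ γ' : region I α} {i : Fin n}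
    (h : γ'.1 = γ.1 + Pi.single i 1) : regVal hI φ γ = regVal hI φ γ' := by
  classical
  have hb : tn (γ'.1 - α) = Finsupp.single i 1 + tn (γ.1 - α) := by
    obtain ⟨⟨β, -, hβ⟩, -⟩ := mem_region.1 γ.2
    ext l
    rw [h, hβ, Finsupp.add_apply]
    simp only [tn_apply, Pi.sub_apply, Pi.add_apply, sv]
    rcases eq_or_ne i l with rfl | hl
    · simp; omega
    · simp [Finsupp.single_eq_of_ne hl.symm, Pi.single_eq_of_ne hl.symm]
  have hg : φ (gen (tn (γ'.1 - α)) (mem_exps_back γ'.2)) = monomial (Finsupp.single i 1) (1 : k) • φ (gen (tn (γ.1 - α)) (mem_exps_back γ.2)) := by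
    rw [← map_gen_add φ (Finsupp.single i 1) (mem_exps_back γ.2)]
    exact congrArg φ (Subtype.ext (by simp only [gen]; rw [hb]))
  by_cases hn : ∀ l, 0 ≤ γ.1 l
  · have hn' : ∀ l, 0 ≤ γ'.1 l := fun l => by
      rw [h, Pi.add_apply]
      have := hn l
      rcases eq_or_ne l i with rfl | hl
      · rw [Pi.single_eq_same]; omega
      · rw [Pi.single_eq_of_ne hl]; omega
    have ht : tn γ'.1 = Finsupp.single i 1 + tn γ.1 := by
      ext l
      rw [h, Finsupp.add_apply]
      simp only [tn_apply, Pi.add_apply]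
      rcases eq_or_ne i l with rfl | hl
      · have := hn i; simp; omega
      · simp [Finsupp.single_eq_of_ne hl.symm, Pi.single_eq_of_ne hl.symm]
    rw [regVal, if_pos hn, regVal, if_pos hn', hg, ht, cf_smul hI]
    exact fun hc => (mem_region.1 γ'.2).2 ⟨hn', ht ▸ hc⟩
  · rw [regVal, if_neg hn, regVal]
    push Not at hn
    obtain ⟨l, hl⟩ := hn
    rw [hg, apply_gen_eq_zero hφ _ (i := l), smul_zero, map_zero, ite_self]
    exact lt_of_eq_of_lt (congrFun (sv_back γ.2) l) hl

theorem regVal_eq_of_reachable (hI : IsMonomial I) {φ : Tgt I} (hφ : φ ∈ tPiece I α) {γ γ' : region I α}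
    (h : (regGraph I α).Reachable γ γ') : regVal hI φ γ = regVal hI φ γ' := by
  obtain ⟨w⟩ := h
  induction w with
  | nil => rfl
  | cons ha _ ih =>
    refine Eq.trans ?_ ih
    obtain ⟨i, h | h⟩ := adj_iff.1 ha
    · exact regVal_eq_of_step hI hφ h
    · exact (regVal_eq_of_step hI hφ h).symm

theorem finite_bddComp (hn : 2 ≤ n) (hI : IsMonomial I) [Module.Finite k (MvPolynomial (Fin n) k ⧸ I)] :
    Finite (BddComp I α) := by
  haveI := (finite_compl_exps hI).to_subtype
  have hnn : ∀ c : BddComp I α, ∀ i, 0 ≤ (c.1.out : region I α).1 i := fun c =>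
    nonneg_of_finite hn (by rw [show (regGraph I α).connectedComponentMk c.1.out = c.1 from Quot.out_eq _]; exact c.2)
  refine Finite.of_injective (fun c : BddComp I α =>
    (⟨tn (c.1.out : region I α).1, fun h => (mem_region.1 c.1.out.2).2 ⟨hnn c, h⟩⟩ : {γ : Fin n →₀ ℕ | γ ∉ exps I})) ?_
  intro a b h
  refine Subtype.ext ?_
  rw [← Quot.out_eq a.1, ← Quot.out_eq b.1]
  refine congrArg _ (Subtype.ext (funext fun i => ?_))
  have := congrArg (fun f => (f.1 : Fin n →₀ ℕ) i) h
  simp only [tn_apply] at this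
  have := hnn a i
  have := hnn b i
  omega

theorem finrank_tPiece_eq_nBddComp (hn : 2 ≤ n) (hI : IsMonomial I) [Module.Finite k (MvPolynomial (Fin n) k ⧸ I)] :
    Module.finrank k ↥(tPiece I α) = nBddComp I α := by
  classical
  haveI := finite_bddComp (α := α) hn hI
  haveI : Fintype (BddComp I α) := Fintype.ofFinite _
  let T : ↥(tPiece I α) →ₗ[k] (BddComp I α → k) :=
    { toFun := fun φ c => regVal hI φ.1 c.1.out
      map_add' := fun φ ψ => _root_.funext fun c => by
        simp only [regVal, Submodule.coe_add, LinearMap.add_apply, map_add, Pi.add_apply]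
        split_ifs <;> simp
      map_smul' := fun a φ => _root_.funext fun c => by
        simp only [regVal, Submodule.coe_smul, LinearMap.smul_apply, map_smul, Pi.smul_apply, RingHom.id_apply]
        split_ifs <;> simp }
  have hinj : Function.Injective T := by
    rw [injective_iff_map_eq_zero]
    intro φ hφ
    refine Subtype.ext (tgt_ext hI fun β hβ => ?_)
    refine (?_ : φ.1 (gen β hβ) = 0)
    by_cases hnn : ∀ i, 0 ≤ (β i : ℤ) + α i
    swap
    · push Not at hnn
      obtain ⟨i, hi⟩ := hnn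
      exact apply_gen_eq_zero φ.2 hβ hi
    by_cases he : shift β α ∈ exps I
    · exact apply_gen_eq_zero_of_shift φ.2 hβ fun _ => he
    let γ : region I α := ⟨sv α β, sv_mem_region hβ hnn he⟩
    have hv : regVal hI φ.1 γ = 0 := by
      by_cases hf : ((regGraph I α).connectedComponentMk γ).supp.Finite
      · refine Eq.trans (regVal_eq_of_reachable hI φ.2 (SimpleGraph.ConnectedComponent.exact (Quot.out_eq _).symm))
          (congrFun hφ ⟨_, hf⟩)
      · obtain ⟨γ', hγ', i, hi⟩ := exists_neg_of_infinite hI hf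
        rw [regVal_eq_of_reachable hI φ.2 (SimpleGraph.ConnectedComponent.exact hγ').symm, regVal,
          if_neg fun h => absurd (h i) (by omega)]
    rw [regVal, if_pos (show ∀ i, 0 ≤ γ.1 i from hnn)] at hv
    rw [apply_gen_of_mem hI φ.2 hβ hnn]
    have hb : tn (sv α β - α) = β := by ext i; simp [tn_apply, sv]
    have : cf hI (shift β α) (φ.1 (gen β hβ)) = 0 := by
      refine Eq.trans ?_ hv
      exact congrArg (fun g => cf hI (shift β α) (φ.1 g)) (Subtype.ext (by simp only [gen]; rw [hb]))
    rw [this, zero_smul]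
  have hsurj : Function.Surjective T := by
    intro v
    let w : region I α → k := fun γ =>
      if h : ((regGraph I α).connectedComponentMk γ).supp.Finite then v ⟨_, h⟩ else 0
    let F : (Fin n →₀ ℕ) → MvPolynomial (Fin n) k ⧸ I := fun β =>
      if h : sv α β ∈ region I α then w ⟨_, h⟩ • mono I (shift β α) else 0
    have hw : ∀ γ : region I α, w γ ≠ 0 → ∀ i, 0 ≤ γ.1 i := fun γ hγ => by
      by_cases hf : ((regGraph I α).connectedComponentMk γ).supp.Finite
      · exact nonneg_of_finite hn hf
      · exact absurd (dif_neg hf) hγ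
    have hw' : ∀ γ γ' : region I α, (regGraph I α).Reachable γ γ' → w γ = w γ' := fun γ γ' h => by
      have e := SimpleGraph.ConnectedComponent.sound h
      simp only [w]
      by_cases hf : ((regGraph I α).connectedComponentMk γ).supp.Finite
      · rw [dif_pos hf, dif_pos (by rwa [← e])]
        exact congrArg v (Subtype.ext e)
      · rw [dif_neg hf, dif_neg (by rwa [← e])]
    have hF : ∀ β ∈ exps I, ∀ δ : Fin n →₀ ℕ, F (δ + β) = monomial δ (1 : k) • F β := by
      intro β hβ δ
      simp only [F]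
      by_cases h : sv α β ∈ region I α
      · rw [dif_pos h, smul_comm, smul_mono]
        by_cases hz : w ⟨_, h⟩ = 0
        · rw [hz, zero_smul]
          split_ifs with h'
          · rw [← hw' _ _ (reachable_up hβ h h'), hz, zero_smul]
          · rfl
        · rw [← shift_add (hw _ hz) δ]
          split_ifs with h'
          · rw [hw' _ _ (reachable_up hβ h h')]
          · rw [mono_eq_zero, smul_zero]
            by_contra hc
            exact h' (sv_mem_region (exps_up hβ le_add_self)
              (fun i => by have := hw _ hz i; simp only [sv] at this; simp only [Finsupp.add_apply]; omega) hc)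
      · rw [dif_neg h, smul_zero]
        split_ifs with h'
        · refine absurd (mem_region.2 ⟨⟨β, hβ, rfl⟩, fun hc => (mem_region.1 h').2 ⟨fun i => ?_, exps_up hc.2 fun i => ?_⟩⟩) h
          · have := hc.1 i
            simp only [sv, Finsupp.add_apply] at *
            omega
          · simp only [tn_apply, sv, Finsupp.add_apply]; omega
        · rfl
    let φ : Tgt I := mkHom hI F hF
    have hφ : φ ∈ tPiece I α := by
      refine mem_tPiece (fun β hβ _ => ?_) (fun β hβ i hi => ?_)
      · simp only [φ, mkHom_gen, F]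
        split_ifs
        · exact Submodule.smul_mem _ _ (Submodule.mem_span_singleton_self _)
        · exact Submodule.zero_mem _
      · simp only [φ, mkHom_gen, F]
        split_ifs with h
        · rw [show w ⟨_, h⟩ = 0 from by_contra fun hz => absurd (hw _ hz i) (by simp only [sv]; omega), zero_smul]
        · rfl
    refine ⟨⟨φ, hφ⟩, _root_.funext fun c => ?_⟩
    show regVal hI φ c.1.out = v c
    have hc : (regGraph I α).connectedComponentMk c.1.out = c.1 := Quot.out_eq _
    have hnn := nonneg_of_finite hn (γ := c.1.out) (by rw [hc]; exact c.2)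
    have hs : sv α (tn (c.1.out.1 - α)) = c.1.out.1 := sv_back c.1.out.2
    rw [regVal, if_pos hnn]
    simp only [φ, mkHom_gen, F]
    rw [dif_pos (by rw [hs]; exact c.1.out.2), show shift (tn (c.1.out.1 - α)) α = tn c.1.out.1 by rw [← tn_sv, hs],
      map_smul, cf_mono_self hI fun h => (mem_region.1 c.1.out.2).2 ⟨hnn, h⟩, smul_eq_mul, mul_one]
    rw [show (⟨sv α (tn (c.1.out.1 - α)), _⟩ : region I α) = c.1.out from Subtype.ext hs]
    simp only [w]
    rw [dif_pos (by rw [hc]; exact c.2)]
    exact congrArg v (Subtype.ext hc)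
  rw [(LinearEquiv.ofBijective T ⟨hinj, hsurj⟩).finrank_eq, Module.finrank_pi, nBddComp, Nat.card_eq_fintype_card]

end Groth.Agent.HilbPnLib
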