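import Groth.Agent.HilbPnLib.Span

/-!
# Degree zero homomorphisms of a monomial ideal: pivots
-/

set_option autoImplicit false

universe u v w

open MvPolynomial W4c1hilbpn

noncomputable section

namespace Groth.Agent.HilbPnLib

variable {σ : Type v} {k : Type u} [Field k] {I : Ideal (MvPolynomial σ k)}

open Classical in
/-- Substitution of the monomial `g` by the monomial `γ`. -/
def substHom (hI : IsMonomial I) (g γ : σ →₀ ℕ)
    (H : ∀ β ∈ exps I, ¬ g ≤ β → ∀ β', β ≤ β' → g ≤ β' → β' - g + γ ∈ exps I) : Tgt I :=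
  mkHom hI (fun β => if g ≤ β then mono I (β - g + γ) else 0) (fun β hβ δ => by
    by_cases hb : g ≤ β
    · rw [if_pos hb, if_pos (hb.trans le_add_self), smul_mono, ← add_assoc, add_tsub_assoc_of_le hb]
    · rw [if_neg hb, smul_zero]
      split_ifs with h
      · exact mono_eq_zero (H β hβ hb _ le_add_self h)
      · rfl)

theorem substHom_gen (hI : IsMonomial I) {g γ : σ →₀ ℕ}
    (H : ∀ β ∈ exps I, ¬ g ≤ β → ∀ β', β ≤ β' → g ≤ β' → β' - g + γ ∈ exps I) {β : σ →₀ ℕ} (hβ : β ∈ exps I)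
    [Decidable (g ≤ β)] :
    substHom hI g γ H (gen β hβ) = if g ≤ β then mono I (β - g + γ) else 0 := by
  classical
  rw [substHom, mkHom_gen]
  congr

theorem substHom_mem [Fintype σ] (hI : IsMonomial I) {g γ : σ →₀ ℕ}
    (H : ∀ β ∈ exps I, ¬ g ≤ β → ∀ β', β ≤ β' → g ≤ β' → β' - g + γ ∈ exps I) (hdeg : γ.degree = g.degree) :
    substHom hI g γ H ∈ ⨆ α : {α : σ → ℤ // ∑ i, α i = 0}, tPiece I α.1 := by
  classical
  refine le_iSup (fun α : {α : σ → ℤ // ∑ i, α i = 0} => tPiece I α.1) ⟨fun i => (γ i : ℤ) - g i, ?_⟩ ?_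
  · rw [Finset.sum_sub_distrib, sub_eq_zero]
    exact_mod_cast (Finsupp.degree_eq_sum γ).symm.trans (hdeg.trans (Finsupp.degree_eq_sum g))
  · refine mem_tPiece (fun β hβ _ => ?_) (fun β hβ i hi => ?_)
    · rw [substHom_gen]
      split_ifs with hg
      · rw [show shift β (fun i => (γ i : ℤ) - g i) = β - g + γ from shift_eq fun i => by
          have := hg i
          simp only [Finsupp.add_apply, Finsupp.tsub_apply]
          omega]
        exact Submodule.mem_span_singleton_self _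
      · exact Submodule.zero_mem _
    · rw [substHom_gen, if_neg]
      intro hg
      have := hg i
      dsimp only at hi
      omega

/-- A coefficient of a homomorphism. -/
def cfAt (hI : IsMonomial I) {g : σ →₀ ℕ} (hg : g ∈ exps I) (γ : σ →₀ ℕ) : Tgt I →ₗ[k] k where
  toFun φ := cf hI γ (φ (gen g hg))
  map_add' _ _ := by simp
  map_smul' _ _ := by simp

theorem cfAt_substHom (hI : IsMonomial I) {g γ : σ →₀ ℕ}
    (H : ∀ β ∈ exps I, ¬ g ≤ β → ∀ β', β ≤ β' → g ≤ β' → β' - g + γ ∈ exps I) {g' : σ →₀ ℕ} (hg' : g' ∈ exps I)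
    {γ' : σ →₀ ℕ} (hγ' : γ' ∉ exps I) [Decidable (g ≤ g' ∧ g' - g + γ = γ')] :
    cfAt hI hg' γ' (substHom hI g γ H) = if g ≤ g' ∧ g' - g + γ = γ' then 1 else 0 := by
  classical
  show cf hI γ' (substHom hI g γ H (gen g' hg')) = _
  rw [substHom_gen]
  by_cases h : g ≤ g'
  · rw [if_pos h]
    by_cases h2 : g' - g + γ = γ'
    · rw [if_pos ⟨h, h2⟩, h2, cf_mono_self hI hγ']
    · rw [if_neg fun hc => h2 hc.2, cf_mono_ne hI h2]
  · rw [if_neg h, map_zero, if_neg fun hc => h hc.1]

theorem cfAt_eq_zero_of_degree_ne [Fintype σ] (hI : IsMonomial I) {φ : Tgt I}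
    (hφ : φ ∈ ⨆ α : {α : σ → ℤ // ∑ i, α i = 0}, tPiece I α.1) {g : σ →₀ ℕ} (hg : g ∈ exps I) {γ : σ →₀ ℕ}
    (h : γ.degree ≠ g.degree) : cfAt hI hg γ φ = 0 := by
  refine Submodule.iSup_induction _ (motive := fun ψ => cfAt hI hg γ ψ = 0) hφ (fun a ψ hψ => ?_) (map_zero _)
    (fun x y hx hy => by rw [map_add, hx, hy, add_zero])
  by_cases hn : ∀ i, 0 ≤ (g i : ℤ) + a.1 i
  · show cf hI γ (ψ (gen g hg)) = 0
    rw [apply_gen_of_mem hI hψ hg hn, map_smul, cf_mono_ne hI (fun he => h (by rw [← he, degree_shift hn a.2])), smul_zero]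
  · push Not at hn
    obtain ⟨i, hi⟩ := hn
    show cf hI γ (ψ (gen g hg)) = 0
    rw [apply_gen_eq_zero hψ hg hi, map_zero]

theorem cfAt_rel (hI : IsMonomial I) (φ : Tgt I) {g g' δ δ' γ γ' : σ →₀ ℕ} (hg : g ∈ exps I) (hg' : g' ∈ exps I)
    (he : δ + g = δ' + g') (hτ : δ + γ ∉ exps I) (hd : δ + γ = δ' + γ') : cfAt hI hg γ φ = cfAt hI hg' γ' φ := by
  have e1 := map_gen_add φ δ hg
  have e2 := map_gen_add φ δ' hg'
  rw [show gen (δ' + g') _ = gen (δ + g) (exps_up hg le_add_self) from Subtype.ext (by simp only [gen]; rw [he]), e1] at e2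
  have := congrArg (cf hI (δ + γ)) e2
  rw [cf_smul hI hτ, hd, cf_smul hI (hd ▸ hτ)] at this
  exact this

theorem cfAt_rel_zero (hI : IsMonomial I) (φ : Tgt I) {g g' δ δ' γ : σ →₀ ℕ} (hg : g ∈ exps I) (hg' : g' ∈ exps I)
    (he : δ + g = δ' + g') (hτ : δ + γ ∉ exps I) (hd : ¬ δ' ≤ δ + γ) : cfAt hI hg γ φ = 0 := by
  have e1 := map_gen_add φ δ hg
  have e2 := map_gen_add φ δ' hg'
  rw [show gen (δ' + g') _ = gen (δ + g) (exps_up hg le_add_self) from Subtype.ext (by simp only [gen]; rw [he]), e1] at e2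
  have := congrArg (cf hI (δ + γ)) e2
  rw [cf_smul hI hτ, cf_smul_not_le hI hd] at this
  exact this

theorem finrank_of_triangular {V : Type*} [AddCommGroup V] [Module k V] {P : Type w} [Finite P] (M : Submodule k V)
    (e : P → V) (he : ∀ p, e p ∈ M) (C : P → V →ₗ[k] k) (rk : P → ℕ) (h1 : ∀ p, C p (e p) = 1)
    (h0 : ∀ p q, p ≠ q → rk p ≤ rk q → C p (e q) = 0)
    (hinj : ∀ φ ∈ M, (∀ p, C p φ = 0) → φ = 0) : Module.finrank k ↥M = Nat.card P := by
  classical
  haveI : Fintype P := Fintype.ofFinite P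
  let T : ↥M →ₗ[k] (P → k) := LinearMap.pi fun p => (C p).comp M.subtype
  have hT : Function.Injective T := (injective_iff_map_eq_zero T).2 fun φ hφ => Subtype.ext (hinj φ.1 φ.2 fun p =>
    (congrFun hφ p :))
  haveI : Module.Finite k ↥M := Module.Finite.of_injective T hT
  have hli : LinearIndependent k (fun p => (⟨e p, he p⟩ : ↥M)) := by
    rw [Fintype.linearIndependent_iff]
    intro g hg
    suffices h : ∀ m p, rk p < m → g p = 0 from fun p => h (rk p + 1) p (by omega)
    intro m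
    induction m with
    | zero => intros; omega
    | succ m ih =>
      intro p hp
      have := congrArg (fun x : ↥M => C p x.1) hg
      simp only [Submodule.coe_sum, Submodule.coe_smul, map_sum, map_smul, smul_eq_mul, Submodule.coe_zero, map_zero] at this
      rw [Finset.sum_eq_single p] at this
      · rwa [h1, mul_one] at this
      · intro q _ hq
        by_cases hr : rk p ≤ rk q
        · rw [h0 p q hq.symm hr, mul_zero]
        · rw [ih q (by omega), zero_mul]
      · exact fun h => absurd (Finset.mem_univ p) h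
  refine le_antisymm ?_ ?_
  · exact (LinearMap.finrank_le_finrank_of_injective hT).trans_eq (by rw [Module.finrank_pi, Nat.card_eq_fintype_card])
  · rw [Nat.card_eq_fintype_card]
    exact hli.fintype_card_le_finrank

theorem finrank_of_pivots {V : Type*} [AddCommGroup V] [Module k V] {P : Type w} [Finite P] (M : Submodule k V)
    (e : P → V) (he : ∀ p, e p ∈ M) (C : P → V →ₗ[k] k) (h1 : ∀ p, C p (e p) = 1) (h0 : ∀ p q, p ≠ q → C p (e q) = 0)
    (hinj : ∀ φ ∈ M, (∀ p, C p φ = 0) → φ = 0) : Module.finrank k ↥M = Nat.card P := by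
  classical
  haveI : Fintype P := Fintype.ofFinite P
  let T : ↥M →ₗ[k] (P → k) := LinearMap.pi fun p => (C p).comp M.subtype
  have hT : ∀ φ p, T φ p = C p φ.1 := fun φ p => rfl
  have hb : Function.Bijective T := by
    refine ⟨(injective_iff_map_eq_zero T).2 fun φ hφ => Subtype.ext (hinj φ.1 φ.2 fun p => ?_), fun v => ?_⟩
    · rw [← hT, hφ]; rfl
    · refine ⟨∑ p, v p • (⟨e p, he p⟩ : ↥M), _root_.funext fun p => ?_⟩
      rw [hT, Submodule.coe_sum, map_sum, Finset.sum_eq_single p]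
      · rw [Submodule.coe_smul, map_smul, h1, smul_eq_mul, mul_one]
      · intro q _ hq
        rw [Submodule.coe_smul, map_smul, h0 p q hq.symm, smul_zero]
      · exact fun h => absurd (Finset.mem_univ p) h
  rw [(LinearEquiv.ofBijective T hb).finrank_eq, Module.finrank_pi, Nat.card_eq_fintype_card]

end Groth.Agent.HilbPnLib
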