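import Groth.Agent.HilbPnLib.Tgt

/-!
# Monomial ideals given by generators, shift homomorphisms, spans of pieces
-/

set_option autoImplicit false

universe u v

open MvPolynomial W4c1hilbpn

noncomputable section

namespace Groth.Agent.HilbPnLib

variable {σ : Type v} {k : Type u} [Field k]

theorem mem_exps_span {G : Set (σ →₀ ℕ)} {β : σ →₀ ℕ} :
    β ∈ exps (Ideal.span ((fun g => monomial g (1 : k)) '' G)) ↔ ∃ g ∈ G, g ≤ β := by
  classical
  refine mem_ideal_span_monomial_image.trans ⟨fun h => h β (by simp), fun h x hx => ?_⟩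
  rw [support_monomial, if_neg one_ne_zero, Finset.mem_singleton] at hx
  exact hx ▸ h

theorem isMonomial_span (G : Set (σ →₀ ℕ)) : IsMonomial (Ideal.span ((fun g => monomial g (1 : k)) '' G)) :=
  fun _ hp β hβ => mem_exps_span.2 (mem_ideal_span_monomial_image.1 hp β hβ)

variable {I : Ideal (MvPolynomial σ k)}

/-- The homomorphism replacing one factor `x_b` by `x_l`. -/
def shiftHom (hI : IsMonomial I) (b l : σ) : Tgt I :=
  mkHom hI (fun β => if β b = 0 then 0 else mono I (β - Finsupp.single b 1 + Finsupp.single l 1)) (fun β hβ δ => by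
    classical
    by_cases hb : β b = 0
    · rw [if_pos hb, smul_zero]
      split_ifs with h
      · rfl
      · refine mono_eq_zero (exps_up hβ fun m => ?_)
        simp only [Finsupp.add_apply, Finsupp.tsub_apply]
        rcases eq_or_ne b m with rfl | hm
        · omega
        · rw [Finsupp.single_eq_of_ne hm.symm]; omega
    · rw [if_neg hb, if_neg (by rw [Finsupp.add_apply]; omega), smul_mono, ← add_assoc,
        add_tsub_assoc_of_le (Finsupp.single_le_iff.2 (by omega))])

/-- The multidegree of `shiftHom`. -/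
def shiftDeg [DecidableEq σ] (b l : σ) : σ → ℤ := fun m => (if m = l then 1 else 0) - (if m = b then 1 else 0)

theorem shiftHom_mem [Finite σ] [DecidableEq σ] (hI : IsMonomial I) {b l : σ} (h : b ≠ l) :
    shiftHom hI b l ∈ tPiece I (shiftDeg b l) := by
  refine mem_tPiece (fun β hβ _ => ?_) (fun β hβ m hm => ?_)
  · rw [shiftHom, mkHom_gen]
    split_ifs with hb
    · exact Submodule.zero_mem _
    · rw [show shift β (shiftDeg b l) = β - Finsupp.single b 1 + Finsupp.single l 1 from shift_eq fun m => by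
        simp only [shiftDeg, Finsupp.add_apply, Finsupp.tsub_apply]
        rcases eq_or_ne m b with rfl | h1
        · rw [Finsupp.single_eq_same, Finsupp.single_eq_of_ne h, if_pos rfl, if_neg h]; omega
        · rw [Finsupp.single_eq_of_ne h1, if_neg h1]
          rcases eq_or_ne m l with rfl | h2
          · rw [Finsupp.single_eq_same, if_pos rfl]; omega
          · rw [Finsupp.single_eq_of_ne h2, if_neg h2]; omega]
      exact Submodule.mem_span_singleton_self _
  · rw [shiftHom, mkHom_gen, if_pos]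
    simp only [shiftDeg] at hm
    rcases eq_or_ne m b with rfl | h1
    · split_ifs at hm with h2 <;> omega
    · rw [if_neg h1] at hm
      split_ifs at hm <;> omega

theorem finrank_iSup_of_family [Finite σ] (hI : IsMonomial I) {P : Type*} [Finite P] (A : Set (σ → ℤ)) (e : P → Tgt I)
    (a : P → σ → ℤ) (ha : Function.Injective a) (haA : ∀ p, a p ∈ A) (he : ∀ p, e p ∈ tPiece I (a p)) (he0 : ∀ p, e p ≠ 0)
    (hspan : ∀ α ∈ A, ∀ φ ∈ tPiece I α, φ ≠ 0 → ∃ p, a p = α ∧ φ ∈ Submodule.span k {e p}) :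
    Module.finrank k ↥(⨆ α : A, tPiece I α.1) = Nat.card P := by
  classical
  haveI : Fintype P := Fintype.ofFinite P
  have hli : LinearIndependent k e := by
    rw [linearIndependent_iff']
    intro s g hg i hi
    let C : Tgt I → Tgt I := comp hI (a i)
    have hadd : ∀ x y : Tgt I, C (x + y) = C x + C y := fun x y => by
      refine tgt_ext hI fun β hβ => ?_
      simp only [C, comp, LinearMap.add_apply, mkHom_gen, compFun, dif_pos hβ]
      split_ifs
      · rw [map_add, add_smul]
      · rw [add_zero]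
    have hsm : ∀ (c : k) (x : Tgt I), C (c • x) = c • C x := fun c x => by
      refine tgt_ext hI fun β hβ => ?_
      simp only [C, comp, LinearMap.smul_apply, mkHom_gen, compFun, dif_pos hβ]
      split_ifs
      · rw [map_smul, smul_eq_mul, mul_smul]
      · rw [smul_zero]
    let CL : Tgt I →ₗ[k] Tgt I := { toFun := C, map_add' := hadd, map_smul' := hsm }
    have := congrArg CL hg
    rw [map_sum, map_zero, Finset.sum_eq_single i] at this
    · rw [map_smul, show CL (e i) = e i from comp_self hI (he i)] at this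
      exact (smul_eq_zero.1 this).resolve_right (he0 i)
    · intro j _ hj
      rw [map_smul, show CL (e j) = 0 from comp_of_ne hI (fun h => hj (ha h).symm) (he j), smul_zero]
    · exact fun h => absurd hi h
  have h : (⨆ α : A, tPiece I α.1) = Submodule.span k (Set.range e) := by
    refine le_antisymm (iSup_le fun α φ hφ => ?_) (Submodule.span_le.2 ?_)
    · by_cases h0 : φ = 0
      · rw [h0]; exact Submodule.zero_mem _
      · obtain ⟨p, -, hp⟩ := hspan α.1 α.2 φ hφ h0
        exact Submodule.span_mono (Set.singleton_subset_iff.2 (Set.mem_range_self p)) hp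
    · rintro _ ⟨p, rfl⟩
      exact le_iSup (fun α : A => tPiece I α.1) ⟨a p, haA p⟩ (he p)
  rw [h, finrank_span_eq_card hli, Nat.card_eq_fintype_card]

theorem exists_gen_ne_zero [Finite σ] {G : Set (σ →₀ ℕ)} {φ : Tgt (Ideal.span ((fun g => monomial g (1 : k)) '' G))}
    (h : φ ≠ 0) : ∃ g, ∃ hg : g ∈ G, φ (gen g (mem_exps_span.2 ⟨g, hg, le_rfl⟩)) ≠ 0 := by
  by_contra hc
  push Not at hc
  refine h (tgt_ext (isMonomial_span G) fun β hβ => ?_)
  obtain ⟨g, hg, hle⟩ := mem_exps_span.1 hβ
  rw [map_gen_of_le φ hle (mem_exps_span.2 ⟨g, hg, le_rfl⟩) hβ, hc g hg, smul_zero, LinearMap.zero_apply]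

theorem tgt_ext_span {G : Set (σ →₀ ℕ)} {φ ψ : Tgt (Ideal.span ((fun g => monomial g (1 : k)) '' G))}
    (h : ∀ g, ∀ hg : g ∈ G, φ (gen g (mem_exps_span.2 ⟨g, hg, le_rfl⟩)) = ψ (gen g (mem_exps_span.2 ⟨g, hg, le_rfl⟩))) :
    φ = ψ := by
  refine tgt_ext (isMonomial_span G) fun β hβ => ?_
  obtain ⟨g, hg, hle⟩ := mem_exps_span.1 hβ
  rw [map_gen_of_le φ hle (mem_exps_span.2 ⟨g, hg, le_rfl⟩) hβ, map_gen_of_le ψ hle (mem_exps_span.2 ⟨g, hg, le_rfl⟩) hβ,
    h g hg]

theorem eq_single_of_degree_eq_one {γ : σ →₀ ℕ} (h : γ.degree = 1) : ∃ l, γ = Finsupp.single l 1 := by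
  classical
  obtain ⟨l, hl⟩ : ∃ l, γ l ≠ 0 := by
    by_contra hc
    push Not at hc
    rw [show γ = 0 from Finsupp.ext hc, map_zero] at h
    omega
  obtain ⟨r, rfl⟩ := le_iff_exists_add.1 (Finsupp.single_le_iff.2 (show 1 ≤ γ l by omega))
  rw [map_add, Finsupp.degree_single] at h
  exact ⟨l, by rw [(Finsupp.degree_eq_zero_iff r).1 (by omega), add_zero]⟩

theorem degree_shift [Fintype σ] {β : σ →₀ ℕ} {α : σ → ℤ} (h : ∀ i, 0 ≤ (β i : ℤ) + α i) (hs : ∑ i, α i = 0) :
    (shift β α).degree = β.degree := by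
  have : ((shift β α).degree : ℤ) = β.degree := by
    rw [Finsupp.degree_eq_sum, Finsupp.degree_eq_sum]
    push_cast
    rw [Finset.sum_congr rfl fun i _ => shift_cast h i, Finset.sum_add_distrib, hs, add_zero]
  exact_mod_cast this

theorem piece_nonzero_data [Finite σ] (hI : IsMonomial I) {α : σ → ℤ} {φ : Tgt I} (hφ : φ ∈ tPiece I α) {β : σ →₀ ℕ}
    (hβ : β ∈ exps I) (hne : φ (gen β hβ) ≠ 0) :
    (∀ i, 0 ≤ (β i : ℤ) + α i) ∧ shift β α ∉ exps I ∧ cf hI (shift β α) (φ (gen β hβ)) ≠ 0 := by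
  have hn : ∀ i, 0 ≤ (β i : ℤ) + α i := by
    by_contra hc
    push Not at hc
    obtain ⟨i, hi⟩ := hc
    exact hne (apply_gen_eq_zero hφ hβ hi)
  refine ⟨hn, fun he => hne (apply_gen_eq_zero_of_shift hφ hβ fun _ => he), fun h => hne ?_⟩
  rw [apply_gen_of_mem hI hφ hβ hn, h, zero_smul]

end Groth.Agent.HilbPnLib
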