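import Groth.Agent.HilbPnLib.Tgt

/-!
# Staircases of strongly stable ideals in three variables: size of the slices
-/

set_option autoImplicit false

universe u v

open MvPolynomial W4c1hilbpn

noncomputable section

namespace Groth.Agent.HilbPnLib

theorem card_compl_exps {σ : Type v} [Finite σ] {k : Type u} [Field k] {I : Ideal (MvPolynomial σ k)} (hI : IsMonomial I)
    [Module.Finite k (MvPolynomial σ k ⧸ I)] :
    (finite_compl_exps hI).toFinset.card = Module.finrank k (MvPolynomial σ k ⧸ I) := by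
  classical
  haveI : Fintype {γ : σ →₀ ℕ // γ ∉ exps I} := (finite_compl_exps hI).fintype
  let e : (MvPolynomial σ k ⧸ I) →ₗ[k] ({γ : σ →₀ ℕ // γ ∉ exps I} → k) := LinearMap.pi fun γ => cf hI γ.1
  have hb : Function.Bijective e := by
    refine ⟨fun a b h => eq_of_cf hI fun γ hγ => congrFun h ⟨γ, hγ⟩, fun v => ⟨∑ γ, v γ • mono I γ.1, ?_⟩⟩
    funext δ
    show cf hI δ.1 _ = _
    rw [map_sum, Finset.sum_eq_single δ]
    · rw [map_smul, cf_mono_self hI δ.2, smul_eq_mul, mul_one]
    · intro γ _ hne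
      rw [map_smul, cf_mono_ne hI fun h => hne (Subtype.ext h), smul_zero]
    · exact fun h => absurd (Finset.mem_univ _) h
  rw [(LinearEquiv.ofBijective e hb).finrank_eq, Module.finrank_fintype_fun_eq_card]
  rw [← Nat.card_eq_fintype_card]
  exact (Nat.card_eq_card_finite_toFinset (finite_compl_exps hI)).symm

namespace Stair

/-- Two-dimensional staircase, stable under moving a unit from the first to the second coordinate. -/
structure Stair2 (S : Finset (ℕ × ℕ)) : Prop where
  down : ∀ {B C : ℕ}, (B, C + 1) ∈ S → (B, C) ∈ S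
  step : ∀ {B C : ℕ}, (B + 1, C) ∈ S → (B, C + 1) ∈ S

def up2 (p : ℕ × ℕ) : ℕ × ℕ := (p.1 + 1, p.2)

theorem up2_inj : Function.Injective up2 := fun p q h => by simp [up2, Prod.ext_iff] at h ⊢; exact h

/-- Remove the first column and shift. -/
def sh2 (S : Finset (ℕ × ℕ)) : Finset (ℕ × ℕ) := S.preimage up2 up2_inj.injOn

theorem mem_sh2 {S : Finset (ℕ × ℕ)} {B C : ℕ} : (B, C) ∈ sh2 S ↔ (B + 1, C) ∈ S := by simp [sh2, up2]

/-- The size of the first column. -/
def col0 (S : Finset (ℕ × ℕ)) : ℕ := (S.filter (·.1 = 0)).card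

theorem card2 (S : Finset (ℕ × ℕ)) : S.card = col0 S + (sh2 S).card := by
  classical
  rw [sh2, Finset.card_preimage, col0, ← Finset.card_filter_add_card_filter_not (s := S) (fun p : ℕ × ℕ => p.1 = 0)]
  congr 2
  refine Finset.filter_congr fun p _ => ⟨fun h => ⟨(p.1 - 1, p.2), ?_⟩, ?_⟩
  · simp [up2, Prod.ext_iff]; omega
  · rintro ⟨q, rfl⟩; simp [up2]

/-- The first moment of the first coordinate. -/
def wt2 (S : Finset (ℕ × ℕ)) : ℕ := ∑ p ∈ S, p.1

theorem wt2_eq (S : Finset (ℕ × ℕ)) : wt2 S = (sh2 S).card + wt2 (sh2 S) := by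
  classical
  rw [wt2, ← Finset.sum_preimage up2 S up2_inj.injOn (fun p => p.1), wt2, Finset.card_eq_sum_ones,
    ← Finset.sum_add_distrib]
  · exact Finset.sum_congr rfl fun p _ => by simp [up2, add_comm]
  · intro p _ hp
    by_contra h
    exact hp ⟨(p.1 - 1, p.2), by simp [up2, Prod.ext_iff]; omega⟩

theorem wt2_empty : wt2 ∅ = 0 := rfl

theorem Stair2.sh {S : Finset (ℕ × ℕ)} (h : Stair2 S) : Stair2 (sh2 S) :=
  ⟨fun {B C} hp => mem_sh2.2 (h.down (mem_sh2.1 hp)), fun {B C} hp => mem_sh2.2 (h.step (mem_sh2.1 hp))⟩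

theorem Stair2.mem_col {S : Finset (ℕ × ℕ)} (h : Stair2 S) {C : ℕ} (hp : (0, C) ∈ S) : C < col0 S := by
  have hd : ∀ d, d ≤ C → (0, C - d) ∈ S := by
    intro d
    induction d with
    | zero => exact fun _ => hp
    | succ d ih =>
      intro hd
      apply h.down
      rw [show C - (d + 1) + 1 = C - d by omega]
      exact ih (by omega)
  refine lt_of_lt_of_le (b := (Finset.range (C + 1)).card) (by simp) (Finset.card_le_card_of_injOn (fun d => (0, d)) ?_ ?_)
  · intro d hd'
    rw [Finset.mem_coe, Finset.mem_range] at hd'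
    simp only [Finset.coe_filter, Set.mem_setOf_eq, and_true]
    simpa [show C - (C - d) = d by omega] using hd (C - d) (by omega)
  · intro a _ b _ hab; simpa using hab

theorem Stair2.col_lt {S : Finset (ℕ × ℕ)} (h : Stair2 S) (hne : 0 < (sh2 S).card) :
    col0 (sh2 S) < col0 S := by
  have hpos : 0 < col0 S := by
    obtain ⟨⟨B, C⟩, hp⟩ := Finset.card_pos.1 hne
    have hz : ∀ B C, (B, C) ∈ S → (0, B + C) ∈ S := by
      intro B
      induction B with
      | zero => intro C hC; rwa [zero_add]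
      | succ B ih => intro C hC; rw [show B + 1 + C = B + (C + 1) by omega]; exact ih _ (h.step hC)
    exact lt_of_le_of_lt (Nat.zero_le _) (h.mem_col (hz _ _ (mem_sh2.1 hp)))
  rcases Nat.eq_zero_or_pos (col0 (sh2 S)) with h0 | h0
  · omega
  by_contra hle
  have hsub : ∀ p ∈ (sh2 S).filter (·.1 = 0), p.2 + 1 < col0 S := fun p hp => by
    obtain ⟨hp, hp0⟩ := Finset.mem_filter.1 hp
    have : (0 + 1, p.2) ∈ S := by rw [← hp0]; exact mem_sh2.1 hp
    exact h.mem_col (h.step this)
  have hc : col0 (sh2 S) ≤ (Finset.range (col0 S - 1)).card := by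
    refine Finset.card_le_card_of_injOn (fun p => p.2) (fun p hp => ?_) fun p hp q hq hpq => ?_
    · have := hsub p hp
      simp only [Finset.coe_range, Set.mem_Iio]
      omega
    · exact Prod.ext (((Finset.mem_filter.1 hp).2).trans ((Finset.mem_filter.1 hq).2).symm) hpq
  rw [Finset.card_range] at hc
  omega

theorem choose_two_succ (n : ℕ) : (n + 1).choose 2 = n + n.choose 2 := by
  rw [Nat.choose_succ_succ' n 1, Nat.choose_one_right]

theorem Stair2.card_le {S : Finset (ℕ × ℕ)} (h : Stair2 S) : S.card ≤ (col0 S + 1).choose 2 := by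
  induction hn : S.card using Nat.strong_induction_on generalizing S with
  | _ n ih =>
    subst hn
    have e := card2 S
    have c2 := choose_two_succ (col0 S)
    rcases Nat.eq_zero_or_pos (sh2 S).card with h0 | h0
    · omega
    · have hl := h.col_lt h0
      have := ih _ (by omega) h.sh rfl
      have := Nat.choose_le_choose 2 (show col0 (sh2 S) + 1 ≤ col0 S by omega)
      omega

theorem Stair2.sh_card_le {S : Finset (ℕ × ℕ)} (h : Stair2 S) {r : ℕ} (hc : S.card ≤ (r + 1).choose 2) :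
    (sh2 S).card ≤ r.choose 2 := by
  by_contra hlt
  have e := card2 S
  have c1 := choose_two_succ r
  rcases Nat.eq_zero_or_pos (sh2 S).card with h0 | h0
  · omega
  have hl := h.col_lt h0
  have h1 : (sh2 S).card ≤ (col0 S).choose 2 :=
    h.sh.card_le.trans (Nat.choose_le_choose 2 (show col0 (sh2 S) + 1 ≤ col0 S by omega))
  have : r < col0 S := by
    by_contra hr
    have := Nat.choose_le_choose 2 (not_lt.1 hr)
    omega
  omega

theorem Stair2.wt_le (r : ℕ) : ∀ {S : Finset (ℕ × ℕ)}, Stair2 S → S.card ≤ (r + 1).choose 2 →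
    wt2 S ≤ (r + 1).choose 3 ∧ (wt2 S = (r + 1).choose 3 → ∀ p ∈ S, p.1 + p.2 < r) := by
  induction r with
  | zero =>
    intro S _ hc
    have : S = ∅ := Finset.card_eq_zero.1 (by simpa using hc)
    subst this
    simp [wt2_empty]
  | succ r ih =>
    intro S h hc
    have h1 := h.sh_card_le hc
    obtain ⟨hw, heq⟩ := ih h.sh h1
    have e := wt2_eq S
    have c3 : (r + 1 + 1).choose 3 = (r + 1).choose 2 + (r + 1).choose 3 := Nat.choose_succ_succ' (r + 1) 2
    refine ⟨by omega, fun he => ?_⟩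
    have hm := heq (by omega)
    have ec := card2 S
    have hcol : col0 S ≤ r + 1 := by
      have := choose_two_succ (r + 1)
      omega
    rintro ⟨B, C⟩ hp
    cases B with
    | zero => have := h.mem_col hp; simp only; omega
    | succ B => have := hm (B, C) (mem_sh2.2 hp); simp only at this ⊢; omega

/-- Three-dimensional staircase of a strongly stable ideal. -/
structure Stair3 (D : Finset (ℕ × ℕ × ℕ)) : Prop where
  down : ∀ {a b c : ℕ}, (a, b, c + 1) ∈ D → (a, b, c) ∈ D
  xy : ∀ {a b c : ℕ}, (a + 1, b, c) ∈ D → (a, b + 1, c) ∈ D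
  yz : ∀ {a b c : ℕ}, (a, b + 1, c) ∈ D → (a, b, c + 1) ∈ D

def up3 (p : ℕ × ℕ × ℕ) : ℕ × ℕ × ℕ := (p.1 + 1, p.2)

theorem up3_inj : Function.Injective up3 := fun p q h => by simp [up3, Prod.ext_iff] at h ⊢; exact h

theorem in0_inj : Function.Injective (fun p : ℕ × ℕ => ((0 : ℕ), p)) := fun p q h => by simpa using h

/-- Remove the first slice and shift. -/
def sh3 (D : Finset (ℕ × ℕ × ℕ)) : Finset (ℕ × ℕ × ℕ) := D.preimage up3 up3_inj.injOn

/-- The first slice. -/
def sl (D : Finset (ℕ × ℕ × ℕ)) : Finset (ℕ × ℕ) := D.preimage (fun p => (0, p)) in0_inj.injOn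

theorem mem_sh3 {D : Finset (ℕ × ℕ × ℕ)} {a b c : ℕ} : (a, b, c) ∈ sh3 D ↔ (a + 1, b, c) ∈ D := by simp [sh3, up3]

theorem mem_sl {D : Finset (ℕ × ℕ × ℕ)} {b c : ℕ} : (b, c) ∈ sl D ↔ (0, b, c) ∈ D := by simp [sl]

theorem card3 (D : Finset (ℕ × ℕ × ℕ)) : D.card = (sl D).card + (sh3 D).card := by
  classical
  rw [sh3, sl, Finset.card_preimage, Finset.card_preimage,
    ← Finset.card_filter_add_card_filter_not (s := D) (fun p : ℕ × ℕ × ℕ => p.1 = 0)]
  congr 2
  · refine Finset.filter_congr fun p _ => ⟨fun h => ⟨p.2, ?_⟩, ?_⟩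
    · simp [Prod.ext_iff, h]
    · rintro ⟨q, rfl⟩; rfl
  · refine Finset.filter_congr fun p _ => ⟨fun h => ⟨(p.1 - 1, p.2), ?_⟩, ?_⟩
    · simp [up3, Prod.ext_iff]; omega
    · rintro ⟨q, rfl⟩; simp [up3]

/-- The first moment of the first coordinate. -/
def wt3 (D : Finset (ℕ × ℕ × ℕ)) : ℕ := ∑ p ∈ D, p.1

theorem wt3_eq (D : Finset (ℕ × ℕ × ℕ)) : wt3 D = (sh3 D).card + wt3 (sh3 D) := by
  classical
  rw [wt3, ← Finset.sum_preimage up3 D up3_inj.injOn (fun p => p.1), wt3, Finset.card_eq_sum_ones,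
    ← Finset.sum_add_distrib]
  · exact Finset.sum_congr rfl fun p _ => by simp [up3, add_comm]
  · intro p _ hp
    by_contra h
    exact hp ⟨(p.1 - 1, p.2), by simp [up3, Prod.ext_iff]; omega⟩

theorem Stair3.sh {D : Finset (ℕ × ℕ × ℕ)} (h : Stair3 D) : Stair3 (sh3 D) :=
  ⟨fun {a b c} hp => mem_sh3.2 (h.down (mem_sh3.1 hp)), fun {a b c} hp => mem_sh3.2 (h.xy (mem_sh3.1 hp)),
    fun {a b c} hp => mem_sh3.2 (h.yz (mem_sh3.1 hp))⟩

theorem Stair3.slice {D : Finset (ℕ × ℕ × ℕ)} (h : Stair3 D) : Stair2 (sl D) :=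
  ⟨fun {B C} hp => mem_sl.2 (h.down (mem_sl.1 hp)), fun {B C} hp => mem_sl.2 (h.yz (mem_sl.1 hp))⟩

theorem Stair3.proj {D : Finset (ℕ × ℕ × ℕ)} (h : Stair3 D) : ∀ a b c, (a, b, c) ∈ D → (a + b, c) ∈ sl D := by
  intro a
  induction a with
  | zero => intro b c hp; rw [zero_add]; exact mem_sl.2 hp
  | succ a ih => intro b c hp; rw [show a + 1 + b = a + (b + 1) by omega]; exact ih _ _ (h.xy hp)

theorem Stair3.sh_card_le_wt {D : Finset (ℕ × ℕ × ℕ)} (h : Stair3 D) : (sh3 D).card ≤ wt2 (sl D) := by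
  classical
  have hs : ((sl D).sigma fun p => Finset.range p.1).card = wt2 (sl D) := by
    simp [Finset.card_sigma, wt2]
  rw [← hs]
  refine Finset.card_le_card_of_injOn (fun p => ⟨(p.1 + 1 + p.2.1, p.2.2), p.1⟩) (fun p hp => ?_) ?_
  · obtain ⟨a, b, c⟩ := p
    simp only [Finset.mem_coe, Finset.mem_sigma, Finset.mem_range]
    exact ⟨h.proj _ _ _ (mem_sh3.1 hp), by omega⟩
  · rintro ⟨a, b, c⟩ _ ⟨a', b', c'⟩ _ he
    simp only [Sigma.mk.injEq, Prod.mk.injEq, heq_eq_eq] at he
    obtain ⟨⟨h1, h2⟩, h3⟩ := he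
    simp only [Prod.mk.injEq]
    omega

theorem Stair3.sh_card_le {D : Finset (ℕ × ℕ × ℕ)} (h : Stair3 D) {r : ℕ} (hc : D.card ≤ (r + 2).choose 3) :
    (sh3 D).card ≤ (r + 1).choose 3 ∧
      ((sh3 D).card = (r + 1).choose 3 → ∀ p ∈ D, p.1 + p.2.1 + p.2.2 < r) := by
  have e := card3 D
  have c3 : (r + 2).choose 3 = (r + 1).choose 2 + (r + 1).choose 3 := Nat.choose_succ_succ' (r + 1) 2
  by_cases hS : (sl D).card ≤ (r + 1).choose 2
  · obtain ⟨hw, heq⟩ := h.slice.wt_le r hS
    have hle := h.sh_card_le_wt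
    refine ⟨by omega, fun he => ?_⟩
    rintro ⟨a, b, c⟩ hp
    exact heq (by omega) _ (h.proj _ _ _ hp)
  · exact ⟨by omega, fun he => by omega⟩

theorem Stair3.wt_le (r : ℕ) : ∀ {D : Finset (ℕ × ℕ × ℕ)}, Stair3 D → D.card ≤ (r + 2).choose 3 →
    wt3 D ≤ (r + 2).choose 4 ∧ (wt3 D = (r + 2).choose 4 → ∀ p ∈ D, p.1 + p.2.1 + p.2.2 < r) := by
  induction r with
  | zero =>
    intro D _ hc
    have : D = ∅ := Finset.card_eq_zero.1 (by simpa [Nat.choose] using hc)
    subst this
    simp [wt3, Nat.choose]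
  | succ r ih =>
    intro D h hc
    obtain ⟨h1, h2⟩ := h.sh_card_le hc
    replace h1 : (sh3 D).card ≤ (r + 2).choose 3 := h1
    have hw := (ih h.sh h1).1
    have e := wt3_eq D
    have c4 : (r + 1 + 2).choose 4 = (r + 2).choose 3 + (r + 2).choose 4 := Nat.choose_succ_succ' (r + 2) 3
    exact ⟨by omega, fun he => h2 (show _ = (r + 2).choose 3 by omega)⟩

theorem simplex2_le (r : ℕ) : ∀ S : Finset (ℕ × ℕ), (∀ p ∈ S, p.1 + p.2 < r) → S.card ≤ (r + 1).choose 2 := by
  induction r with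
  | zero => intro S h; rw [show S = ∅ from Finset.eq_empty_of_forall_notMem fun p hp => by have := h p hp; omega]; simp
  | succ r ih =>
    intro S h
    have h1 := ih (sh2 S) fun p hp => by have := h (p.1 + 1, p.2) (mem_sh2.1 hp); simp only at this; omega
    have h2 : col0 S ≤ r + 1 := by
      refine le_of_le_of_eq (Finset.card_le_card_of_injOn (t := Finset.range (r + 1)) (fun p => p.2) (fun p hp => ?_)
        fun p hp q hq hpq => ?_) (Finset.card_range _)
      · have := h p (Finset.mem_filter.1 hp).1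
        simp only [Finset.coe_range, Set.mem_Iio]; omega
      · exact Prod.ext (((Finset.mem_filter.1 hp).2).trans ((Finset.mem_filter.1 hq).2).symm) hpq
    have := card2 S
    have := choose_two_succ (r + 1)
    omega

theorem simplex3_le (r : ℕ) : ∀ D : Finset (ℕ × ℕ × ℕ), (∀ p ∈ D, p.1 + p.2.1 + p.2.2 < r) → D.card ≤ (r + 2).choose 3 := by
  induction r with
  | zero => intro D h; rw [show D = ∅ from Finset.eq_empty_of_forall_notMem fun p hp => by have := h p hp; omega]; simp
  | succ r ih =>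
    intro D h
    have h1 := ih (sh3 D) fun p hp => by have := h (p.1 + 1, p.2) (mem_sh3.1 hp); simp only at this; omega
    have h2 := simplex2_le (r + 1) (sl D) fun p hp => by have := h (0, p) (mem_sl.1 hp); simp only at this; omega
    have := card3 D
    have c3 : (r + 1 + 2).choose 3 = (r + 1 + 1).choose 2 + (r + 1 + 1).choose 3 := Nat.choose_succ_succ' (r + 2) 2
    simp only [add_assoc, Nat.reduceAdd] at h1 h2 c3 ⊢
    omega

theorem simplex3_eq {r : ℕ} {D : Finset (ℕ × ℕ × ℕ)} (h : ∀ p ∈ D, p.1 + p.2.1 + p.2.2 < r)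
    (hc : D.card = (r + 2).choose 3) {p : ℕ × ℕ × ℕ} (hp : p.1 + p.2.1 + p.2.2 < r) : p ∈ D := by
  classical
  by_contra hn
  have := simplex3_le r (insert p D) fun q hq => by
    rcases Finset.mem_insert.1 hq with rfl | hq
    · exact hp
    · exact h q hq
  rw [Finset.card_insert_of_notMem hn] at this
  omega

theorem mem_iterate {D : Finset (ℕ × ℕ × ℕ)} (i : ℕ) : ∀ {a b c : ℕ}, (a, b, c) ∈ sh3^[i] D ↔ (a + i, b, c) ∈ D := by
  induction i with
  | zero => simp
  | succ i ih => intro a b c; rw [Function.iterate_succ_apply', mem_sh3, ih, show a + 1 + i = a + (i + 1) by omega]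

theorem Stair3.iterate {D : Finset (ℕ × ℕ × ℕ)} (h : Stair3 D) (i : ℕ) : Stair3 (sh3^[i] D) := by
  induction i with
  | zero => exact h
  | succ i ih => rw [Function.iterate_succ_apply']; exact ih.sh

theorem Stair3.iterate_card_le {D : Finset (ℕ × ℕ × ℕ)} (h : Stair3 D) {r : ℕ} (hc : D.card ≤ (r + 2).choose 3) (j : ℕ) :
    (sh3^[j] D).card ≤ (r - j + 2).choose 3 := by
  induction j with
  | zero => simpa using hc
  | succ j ih =>
    rw [Function.iterate_succ_apply']
    refine ((h.iterate j).sh_card_le ih).1.trans (Nat.choose_le_choose 3 ?_)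
    omega

theorem Stair3.sum_slices {D : Finset (ℕ × ℕ × ℕ)} (h : Stair3 D) {r : ℕ} (hc : D.card ≤ (r + 2).choose 3) :
    ∀ d j, d + j = r → ∑ i ∈ Finset.Ico j r, (sl (sh3^[i] D)).card = (sh3^[j] D).card ∧
      ∑ i ∈ Finset.Ico j r, (r - i + 1).choose 2 = (r - j + 2).choose 3 := by
  intro d
  induction d with
  | zero =>
    intro j hj
    have := h.iterate_card_le hc j
    simp only [show r - j = 0 by omega, zero_add] at this
    rw [Finset.Ico_eq_empty (by omega), Finset.sum_empty, Finset.sum_empty, show r - j + 2 = 2 by omega]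
    exact ⟨by simp at this; simp [this], rfl⟩
  | succ d ih =>
    intro j hj
    obtain ⟨i1, i2⟩ := ih (j + 1) (by omega)
    have hlt : j < r := by omega
    rw [Finset.sum_eq_sum_Ico_succ_bot hlt (fun i => (sl (sh3^[i] D)).card),
      Finset.sum_eq_sum_Ico_succ_bot hlt (fun i => (r - i + 1).choose 2), i1, i2,
      Function.iterate_succ_apply', ← card3, show r - (j + 1) + 2 = r - j + 1 by omega]
    exact ⟨rfl, (Nat.choose_succ_succ' (r - j + 1) 2).symm⟩

end Stair

section ideal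

variable {k : Type u} [Field k] {I : Ideal (MvPolynomial (Fin 3) k)}
  [Module.Finite k (MvPolynomial (Fin 3) k ⧸ I)]

/-- The exponents outside a monomial ideal, as triples. -/
def triples (hI : IsMonomial I) : Finset (ℕ × ℕ × ℕ) :=
  (finite_compl_exps hI).toFinset.image fun g => (g 0, g 1, g 2)

theorem mem_triples (hI : IsMonomial I) {a b c : ℕ} : (a, b, c) ∈ triples hI ↔ e3 a b c ∉ exps I := by
  simp only [triples, Finset.mem_image, Set.Finite.mem_toFinset, Prod.mk.injEq]
  refine ⟨fun ⟨g, hg, h0, h1, h2⟩ => ?_, fun h => ⟨_, h, by simp [e3]⟩⟩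
  subst h0 h1 h2
  rwa [show e3 (g 0) (g 1) (g 2) = g by ext i; fin_cases i <;> simp [e3]]

theorem card_triples (hI : IsMonomial I) : (triples hI).card = Module.finrank k (MvPolynomial (Fin 3) k ⧸ I) := by
  rw [triples, Finset.card_image_of_injective, card_compl_exps hI]
  intro f g h
  simp only [Prod.mk.injEq] at h
  ext i; fin_cases i <;> simp [h]

theorem le_e3_self {a b c a' b' c' : ℕ} (h0 : a ≤ a') (h1 : b ≤ b') (h2 : c ≤ c') : e3 a b c ≤ e3 a' b' c' := by
  intro i; fin_cases i <;> simpa [e3]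

end ideal

end Groth.Agent.HilbPnLib

namespace Groth.Agent.HilbPnLib

variable {k : Type u} [Field k] {I : Ideal (MvPolynomial (Fin 3) k)}
  [Module.Finite k (MvPolynomial (Fin 3) k ⧸ I)]

theorem stair3_triples (hI : IsStronglyStable I) : Stair.Stair3 (triples hI.1) where
  down h := (mem_triples hI.1).2 fun hh => (mem_triples hI.1).1 h (exps_up hh (e3_le le_rfl le_rfl (Nat.le_succ _)))
  xy h := (mem_triples hI.1).2 fun hh => (mem_triples hI.1).1 h (step_yx hI hh)
  yz h := (mem_triples hI.1).2 fun hh => (mem_triples hI.1).1 h (step_zy hI hh)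

theorem eq_powVars_of_deg_lt (hI : IsMonomial I) {r : ℕ}
    (h : ∀ p ∈ triples hI, p.1 + p.2.1 + p.2.2 < r) (hc : (triples hI).card = (r + 2).choose 3) :
    I = (Ideal.span (Set.range (MvPolynomial.X : Fin 3 → MvPolynomial (Fin 3) k))) ^ r := by
  have key : ∀ β : Fin 3 →₀ ℕ, β ∈ exps I ↔ r ≤ β.degree := fun β => by
    have hd : β.degree = β 0 + β 1 + β 2 := by rw [Finsupp.degree_eq_sum, Fin.sum_univ_three]
    rw [eq_e3 β, ← not_iff_not, ← mem_triples hI, ← eq_e3 β, not_le, hd]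
    exact ⟨fun hp => h _ hp, fun hp => Stair.simplex3_eq h hc (p := (β 0, β 1, β 2)) hp⟩
  ext p
  constructor
  · intro hp
    exact (mem_pow_idealOfVars_iff r p).2 fun β hβ => (key β).1 (hI p hp β hβ)
  · intro hp
    exact mem_of_support fun β hβ => (key β).2 ((mem_pow_idealOfVars_iff r p).1 hp β hβ)

end Groth.Agent.HilbPnLib
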