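import Groth.Agent.HilbPnLib.DualityCor
import Groth.Agent.HilbPnLib.Span
import Groth.Agent.HilbPnLib.Stair

/-!
# `dim Hom(I, S/I) ≤ dim Hom(in I, S/in I)`
-/

set_option autoImplicit false

universe u

open MvPolynomial W4c1hilbpn

noncomputable section

namespace Groth.Agent.HilbPnLib.Degen

variable {k : Type u} [Field k] (o : MonomialOrder (Fin 3)) (I : Ideal (MvPolynomial (Fin 3) k))

local notation "S₃" => MvPolynomial (Fin 3) k

/-- Leading exponents. -/
def lead : Set (Fin 3 →₀ ℕ) := {β | ∃ f ∈ I, f ≠ 0 ∧ o.degree f = β}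

/-- The initial ideal. -/
abbrev ini : Ideal S₃ := Ideal.span ((fun g => monomial g (1 : k)) '' lead o I)

theorem lead_up {β γ : Fin 3 →₀ ℕ} (h : β ∈ lead o I) (hle : β ≤ γ) : γ ∈ lead o I := by
  classical
  obtain ⟨f, hf, hf0, rfl⟩ := h
  obtain ⟨δ, rfl⟩ := le_iff_exists_add.1 hle
  have hm : (monomial δ (1 : k)) ≠ 0 := by simp
  refine ⟨monomial δ 1 * f, I.mul_mem_left _ hf, mul_ne_zero hm hf0, ?_⟩
  rw [o.degree_mul hm hf0, o.degree_monomial, if_neg one_ne_zero, add_comm]

theorem mem_exps_ini {β : Fin 3 →₀ ℕ} : β ∈ exps (ini o I) ↔ β ∈ lead o I :=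
  mem_exps_span.trans ⟨fun ⟨_, hg, hle⟩ => lead_up o I hg hle, fun h => ⟨β, h, le_rfl⟩⟩

theorem isMonomial_ini : IsMonomial (ini o I) := isMonomial_span _

theorem exists_monic {β : Fin 3 →₀ ℕ} (h : β ∈ lead o I) :
    ∃ f : I, (f : S₃).coeff β = 1 ∧ ∀ d ∈ (f : S₃).support, o.toSyn d ≤ o.toSyn β := by
  obtain ⟨f, hf, hf0, rfl⟩ := h
  have hc : f.coeff (o.degree f) ≠ 0 := o.coeff_degree_ne_zero_iff.2 hf0
  refine ⟨⟨C (f.coeff (o.degree f))⁻¹ * f, I.mul_mem_left _ hf⟩, ?_, fun d hd => o.le_degree ?_⟩
  · show (C (f.coeff (o.degree f))⁻¹ * f).coeff _ = 1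
    rw [coeff_C_mul, inv_mul_cancel₀ hc]
  · rw [mem_support_iff] at hd ⊢
    rw [coeff_C_mul] at hd
    exact fun h => hd (by rw [h, mul_zero])

open Classical in
/-- A monic element of `I` with leading exponent `β`. -/
def mon (β : Fin 3 →₀ ℕ) : I := if h : β ∈ lead o I then (exists_monic o I h).choose else 0

theorem mon_coeff {β : Fin 3 →₀ ℕ} (h : β ∈ lead o I) : (mon o I β : S₃).coeff β = 1 := by
  rw [mon, dif_pos h]; exact (exists_monic o I h).choose_spec.1

theorem mon_support {β d : Fin 3 →₀ ℕ} (h : β ∈ lead o I) (hd : d ∈ (mon o I β : S₃).support) :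
    o.toSyn d ≤ o.toSyn β := by
  rw [mon, dif_pos h] at hd; exact (exists_monic o I h).choose_spec.2 d hd

theorem linearIndependent_std :
    LinearIndependent k (fun s : Std (ini o I) => Ideal.Quotient.mk I (monomial s.1 (1 : k))) := by
  classical
  rw [linearIndependent_iff']
  intro S l hl i hi
  by_contra hne
  let f : S₃ := ∑ s ∈ S, monomial s.1 (l s)
  have hf : f ∈ I := by
    rw [← Ideal.Quotient.eq_zero_iff_mem, map_sum, ← hl]
    refine Finset.sum_congr rfl fun s _ => ?_
    rw [← Ideal.Quotient.mkₐ_eq_mk k, ← map_smul, smul_monomial, smul_eq_mul, mul_one]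
  have hcoeff : ∀ d, f.coeff d = ∑ s ∈ S, if s.1 = d then l s else 0 := fun d => by
    simp only [f, coeff_sum, coeff_monomial]
  have hf0 : f ≠ 0 := fun h => hne (by
    have := hcoeff i.1
    rw [h, coeff_zero, Finset.sum_eq_single i] at this
    · rwa [if_pos rfl, eq_comm] at this
    · exact fun s _ hs => if_neg fun e => hs (Subtype.ext e)
    · exact fun h => absurd hi h)
  obtain ⟨s, -, hs⟩ : ∃ s ∈ S, s.1 = o.degree f := by
    by_contra hc
    push Not at hc
    refine o.coeff_degree_ne_zero_iff.2 hf0 ?_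
    rw [hcoeff]
    exact Finset.sum_eq_zero fun s hs => if_neg (hc s hs)
  exact s.2 ((mem_exps_ini o I).2 ⟨f, hf, hf0, hs.symm⟩)

theorem mk_monomial_mem (γ : Fin 3 →₀ ℕ) :
    Ideal.Quotient.mk I (monomial γ (1 : k)) ∈ Submodule.span k
      ((fun s : Std (ini o I) => Ideal.Quotient.mk I (monomial s.1 (1 : k))) '' {s | o.toSyn s.1 ≤ o.toSyn γ}) := by
  classical
  induction h : o.toSyn γ using WellFoundedLT.induction generalizing γ with
  | _ x ih =>
    subst h
    by_cases hγ : γ ∈ exps (ini o I)
    swap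
    · exact Submodule.subset_span ⟨⟨γ, hγ⟩, le_rfl, rfl⟩
    have hl := (mem_exps_ini o I).1 hγ
    set f : S₃ := monomial γ 1 - (mon o I γ : S₃) with hf
    have e : Ideal.Quotient.mk I (monomial γ (1 : k)) = Ideal.Quotient.mk I f := by
      rw [hf, map_sub, Ideal.Quotient.eq_zero_iff_mem.2 (mon o I γ).2, sub_zero]
    rw [e, f.as_sum, map_sum]
    refine Submodule.sum_mem _ fun d hd => ?_
    have hne : d ≠ γ := fun h => by
      rw [mem_support_iff, h, hf, coeff_sub, coeff_monomial, if_pos rfl, mon_coeff o I hl, sub_self] at hd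
      exact hd rfl
    have hd' : d ∈ (mon o I γ : S₃).support := by
      rw [mem_support_iff] at hd ⊢
      rwa [hf, coeff_sub, coeff_monomial, if_neg (Ne.symm hne), zero_sub, neg_ne_zero] at hd
    have hlt : o.toSyn d < o.toSyn γ := lt_of_le_of_ne (mon_support o I hl hd') fun h => hne (o.toSyn.injective h)
    rw [show Ideal.Quotient.mk I (monomial d (f.coeff d)) = f.coeff d • Ideal.Quotient.mk I (monomial d (1 : k)) by
      rw [← Ideal.Quotient.mkₐ_eq_mk k, ← map_smul, smul_monomial, smul_eq_mul, mul_one]]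
    exact Submodule.smul_mem _ _ (Submodule.span_mono (Set.image_mono (fun s hs => le_trans (α := o.syn) hs hlt.le : {s : Std (ini o I) | o.toSyn s.1 ≤ o.toSyn d} ⊆ {s : Std (ini o I) | o.toSyn s.1 ≤ o.toSyn γ})) (ih _ hlt d rfl))

/-- The basis of standard monomials. -/
def basis : Module.Basis (Std (ini o I)) k (S₃ ⧸ I) :=
  Module.Basis.mk (linearIndependent_std o I) (fun m _ => by
    obtain ⟨p, rfl⟩ := Ideal.Quotient.mk_surjective m
    rw [p.as_sum, map_sum]
    refine Submodule.sum_mem _ fun d _ => ?_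
    rw [show Ideal.Quotient.mk I (monomial d (p.coeff d)) = p.coeff d • Ideal.Quotient.mk I (monomial d (1 : k)) by
      rw [← Ideal.Quotient.mkₐ_eq_mk k, ← map_smul, smul_monomial, smul_eq_mul, mul_one]]
    exact Submodule.smul_mem _ _ (Submodule.span_mono (Set.image_subset_range _ _) (mk_monomial_mem o I d)))

theorem basis_apply (t : Std (ini o I)) : basis o I t = Ideal.Quotient.mk I (monomial t.1 (1 : k)) := by
  rw [basis, Module.Basis.mk_apply]

variable [Module.Finite k (MvPolynomial (Fin 3) k ⧸ I)]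

theorem finite_std : Finite (Std (ini o I)) := Module.Finite.finite_basis (basis o I)

theorem finite_ini : Module.Finite k (S₃ ⧸ ini o I) := by
  classical
  haveI := finite_std o I
  refine ⟨Submodule.fg_def.2 ⟨Set.range fun s : Std (ini o I) => mono (ini o I) s.1, Set.finite_range _, ?_⟩⟩
  refine eq_top_iff.2 fun m _ => ?_
  obtain ⟨p, rfl⟩ := Ideal.Quotient.mk_surjective m
  rw [p.as_sum, map_sum]
  refine Submodule.sum_mem _ fun d _ => ?_
  rw [show Ideal.Quotient.mk (ini o I) (monomial d (p.coeff d)) = p.coeff d • mono (ini o I) d by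
    rw [mono, ← Ideal.Quotient.mkₐ_eq_mk k, ← map_smul, smul_monomial, smul_eq_mul, mul_one]]
  refine Submodule.smul_mem _ _ ?_
  by_cases hd : d ∈ exps (ini o I)
  · rw [mono_eq_zero hd]; exact Submodule.zero_mem _
  · exact Submodule.subset_span ⟨⟨d, hd⟩, rfl⟩

theorem finrank_ini : Module.finrank k (S₃ ⧸ ini o I) = Module.finrank k (S₃ ⧸ I) := by
  haveI := finite_ini o I
  haveI := finite_std o I
  rw [← card_compl_exps (isMonomial_ini o I), Module.finrank_eq_nat_card_basis (basis o I)]
  exact (Nat.card_eq_card_finite_toFinset _).symm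

open Classical in
/-- Coordinate at an exponent (zero if not standard). -/
def co (s : Fin 3 →₀ ℕ) : (S₃ ⧸ I) →ₗ[k] k :=
  if h : s ∈ exps (ini o I) then 0 else (basis o I).coord ⟨s, h⟩

theorem co_monomial_ne {s γ : Fin 3 →₀ ℕ} (h : co o I s (Ideal.Quotient.mk I (monomial γ 1)) ≠ 0) :
    o.toSyn s ≤ o.toSyn γ := by
  unfold co at h
  split_ifs at h with hs
  · exact absurd rfl h
  have hm := mk_monomial_mem o I γ
  rw [show (fun s : Std (ini o I) => Ideal.Quotient.mk I (monomial s.1 (1 : k))) = basis o I from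
    (Module.Basis.coe_mk _ _).symm, Module.Basis.mem_span_image] at hm
  exact hm (Finsupp.mem_support_iff.2 h)

theorem co_monomial_self {s : Fin 3 →₀ ℕ} (hs : s ∉ exps (ini o I)) :
    co o I s (Ideal.Quotient.mk I (monomial s 1)) = 1 := by
  rw [co, dif_neg hs, ← basis_apply o I ⟨s, hs⟩, Module.Basis.coord_apply, Module.Basis.repr_self, Finsupp.single_eq_same]

theorem co_smul (s δ : Fin 3 →₀ ℕ) (c : k) (x : S₃ ⧸ I) [Fintype (Std (ini o I))] :
    co o I s (monomial δ c • x) =
      ∑ t : Std (ini o I), c * co o I t.1 x * co o I s (Ideal.Quotient.mk I (monomial (δ + t.1) 1)) := by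
  conv_lhs => rw [← (basis o I).sum_repr x, Finset.smul_sum, map_sum]
  refine Finset.sum_congr rfl fun t _ => ?_
  rw [show co o I t.1 x = (basis o I).repr x t by rw [co, dif_neg t.2]; rfl,
    basis_apply o I t]
  rw [show monomial δ c • ((basis o I).repr x t • Ideal.Quotient.mk I (monomial t.1 (1 : k))) =
      (c * (basis o I).repr x t) • Ideal.Quotient.mk I (monomial (δ + t.1) (1 : k)) by
    rw [smul_comm, show monomial δ c • Ideal.Quotient.mk I (monomial t.1 (1 : k)) =
      Ideal.Quotient.mk I (monomial δ c * monomial t.1 1) from rfl, monomial_mul, mul_one, mul_comm c,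
      ← smul_smul]
    congr 1
    rw [← Ideal.Quotient.mkₐ_eq_mk k, ← map_smul, smul_monomial, smul_eq_mul, mul_one], map_smul, smul_eq_mul]

/-- A finite set of minimal leading exponents. -/
def gens : Finset (Fin 3 →₀ ℕ) := (exists_gen_finset (isMonomial_ini o I)).choose

theorem gens_mem {g : Fin 3 →₀ ℕ} (h : g ∈ gens o I) : g ∈ lead o I :=
  (mem_exps_ini o I).1 ((exists_gen_finset (isMonomial_ini o I)).choose_spec.1 g h)

theorem exists_gens_le {β : Fin 3 →₀ ℕ} (h : β ∈ lead o I) : ∃ g ∈ gens o I, g ≤ β :=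
  (exists_gen_finset (isMonomial_ini o I)).choose_spec.2 β ((mem_exps_ini o I).2 h)

theorem ideal_induction {motive : I → Prop} (zero : motive 0)
    (step : ∀ (f f' : I) (g δ : Fin 3 →₀ ℕ) (c : k), g ∈ gens o I → (f : S₃) ≠ 0 → o.degree (f : S₃) = δ + g →
      ((f' : S₃) = 0 ∨ o.toSyn (o.degree (f' : S₃)) < o.toSyn (δ + g)) → f = monomial δ c • mon o I g + f' →
      motive f' → motive f) (f : I) : motive f := by
  classical
  induction h : o.toSyn (o.degree (f : S₃)) using WellFoundedLT.induction generalizing f with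
  | _ x ih =>
    subst h
    rcases eq_or_ne (f : S₃) 0 with h0 | h0
    · rw [show f = 0 from Subtype.ext h0]; exact zero
    obtain ⟨g, hg, hle⟩ := exists_gens_le o I (⟨f, f.2, h0, rfl⟩ : o.degree (f : S₃) ∈ lead o I)
    set b := o.degree (f : S₃) with hb
    have hδ : b - g + g = b := tsub_add_cancel_of_le hle
    set c := (f : S₃).coeff b with hc
    set f' : I := f - monomial (b - g) c • mon o I g with hf'
    have hcoe : (f' : S₃) = (f : S₃) - monomial (b - g) c * (mon o I g : S₃) := rfl
    have hsupp : ∀ d ∈ (f' : S₃).support, o.toSyn d < o.toSyn b := fun d hd => by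
      rw [mem_support_iff, hcoe, coeff_sub] at hd
      have hne : d ≠ b := fun h => by
        have e : (monomial (b - g) c * (mon o I g : S₃)).coeff (b - g + g) = c := by
          rw [coeff_monomial_mul, mon_coeff o I (gens_mem o I hg), mul_one]
        rw [hδ] at e
        rw [h, e, ← hc, sub_self] at hd
        exact hd rfl
      refine lt_of_le_of_ne ?_ fun h => hne (o.toSyn.injective h)
      by_cases h1 : (f : S₃).coeff d = 0
      · rw [h1, zero_sub, neg_ne_zero, coeff_monomial_mul'] at hd
        split_ifs at hd with hle'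
        · obtain ⟨e, rfl⟩ := le_iff_exists_add.1 hle'
          rw [add_tsub_cancel_left] at hd
          have hb2 : o.toSyn (b - g + e) ≤ o.toSyn (b - g + g) := by
            rw [map_add, map_add]
            exact add_le_add le_rfl (mon_support o I (gens_mem o I hg) (mem_support_iff.2 (right_ne_zero_of_mul hd)))
          rwa [hδ] at hb2
        · exact absurd rfl hd
      · exact o.le_degree (mem_support_iff.2 h1)
    have hlow : (f' : S₃) = 0 ∨ o.toSyn (o.degree (f' : S₃)) < o.toSyn b := by
      rcases eq_or_ne (f' : S₃) 0 with h | h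
      · exact Or.inl h
      · exact Or.inr (hsupp _ (o.degree_mem_support h))
    refine step f f' g (b - g) c hg h0 hδ.symm (by rw [hδ]; exact hlow) (by rw [hf']; abel) ?_
    rcases hlow with h | h
    · rw [show f' = 0 from Subtype.ext h]; exact zero
    · exact ih _ h f' rfl

/-- A common bound for the generators. -/
def top : Fin 3 →₀ ℕ := (gens o I).sup id

theorem le_top {g : Fin 3 →₀ ℕ} (hg : g ∈ gens o I) : g ≤ top o I := Finset.le_sup (f := id) hg

/-- The filtration by shifts. -/
def Fil (Q : Set (Fin 3 →₀ ℕ)) : Submodule k (Tgt I) where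
  carrier := {φ | ∀ g ∈ gens o I, ∀ s, s + (top o I - g) ∉ Q → co o I s (φ (mon o I g)) = 0}
  zero_mem' := fun g _ s _ => by simp
  add_mem' := fun ha hb g hg s hs => by simp [ha g hg s hs, hb g hg s hs]
  smul_mem' := fun c φ h g hg s hs => by simp [h g hg s hs]

theorem eq_zero_of_mem_Fil_empty {φ : Tgt I} (h : φ ∈ Fil o I ∅) : φ = 0 := by
  refine LinearMap.ext fun f => ?_
  rw [LinearMap.zero_apply]
  induction f using ideal_induction o I with
  | zero => exact map_zero φ
  | step f f' g δ c hg _ _ _ he ih =>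
    have hg0 : φ (mon o I g) = 0 := (basis o I).forall_coord_eq_zero_iff.1 fun s => by
      have := h g hg s.1 (Set.notMem_empty _)
      rwa [co, dif_neg s.2] at this
    rw [he, map_add, ih, map_smul, hg0, smul_zero, add_zero]

variable {Q : Finset (Fin 3 →₀ ℕ)} {q : Fin 3 →₀ ℕ}

theorem bound (hq : ∀ x ∈ Q, o.toSyn x ≤ o.toSyn q) {φ : Tgt I} (hφ : φ ∈ Fil o I (insert q (Q : Set _))) (f : I) :
    ∀ s b : Fin 3 →₀ ℕ, o.toSyn (o.degree (f : S₃)) ≤ o.toSyn b → co o I s (φ f) ≠ 0 →
      o.toSyn (s + top o I) ≤ o.toSyn (q + b) := by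
  classical
  haveI := finite_std o I
  haveI := Fintype.ofFinite (Std (ini o I))
  induction f using ideal_induction o I with
  | zero => intro s b _ h; exact absurd (by rw [map_zero, map_zero]) h
  | step f f' g δ c hg hf0 hdeg hlow he ih =>
    intro s b hb h
    rw [he, map_add, map_add] at h
    rw [hdeg] at hb
    by_cases h1 : co o I s (φ f') = 0
    · rw [h1, add_zero, map_smul, co_smul] at h
      obtain ⟨t, -, ht⟩ := Finset.exists_ne_zero_of_sum_ne_zero h
      have ht1 : co o I t.1 (φ (mon o I g)) ≠ 0 := fun h0 => ht (by rw [h0, mul_zero, zero_mul])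
      have ht2 := co_monomial_ne o I fun h0 => ht (by rw [h0, mul_zero])
      have hmem : t.1 + (top o I - g) = q ∨ t.1 + (top o I - g) ∈ Q := by
        by_contra hc
        exact ht1 (hφ g hg t.1 fun hm => hc (by simpa using hm))
      have htq : o.toSyn (t.1 + (top o I - g)) ≤ o.toSyn q := by
        rcases hmem with e | e
        · rw [e]
        · exact hq _ e
      have e2 : t.1 + (top o I - g) + (δ + g) = δ + t.1 + top o I := by
        ext i
        have := le_top o I hg i
        simp only [Finsupp.add_apply, Finsupp.tsub_apply]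
        omega
      calc o.toSyn (s + top o I) ≤ o.toSyn (δ + t.1 + top o I) := by
            rw [map_add, map_add o.toSyn (δ + t.1)]; exact add_le_add ht2 le_rfl
        _ = o.toSyn (t.1 + (top o I - g) + (δ + g)) := by rw [e2]
        _ ≤ o.toSyn (q + b) := by
          rw [map_add, map_add o.toSyn q]; exact add_le_add htq hb
    · rcases hlow with hz | hlt
      · exact absurd (by rw [show f' = 0 from Subtype.ext hz, map_zero, map_zero]) h1
      · exact ih s b (hlt.le.trans hb) h1

theorem co_low (hq : ∀ x ∈ Q, o.toSyn x ≤ o.toSyn q) {φ : Tgt I} (hφ : φ ∈ Fil o I (insert q (Q : Set _))) (f : I)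
    {s b : Fin 3 →₀ ℕ} (hs : s + top o I = q + b) (hsupp : ∀ d ∈ (f : S₃).support, o.toSyn d < o.toSyn b) :
    co o I s (φ f) = 0 := by
  rcases eq_or_ne (f : S₃) 0 with h0 | h0
  · rw [show f = 0 from Subtype.ext h0, map_zero, map_zero]
  by_contra hne
  have := bound o I hq hφ f s (o.degree (f : S₃)) le_rfl hne
  rw [hs, map_add, map_add] at this
  exact absurd (le_of_add_le_add_left this) (not_le.2 (hsupp _ (o.degree_mem_support h0)))

open Classical in
/-- The value of the associated graded homomorphism. -/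
def grFun (q : Fin 3 →₀ ℕ) (φ : Tgt I) (β : Fin 3 →₀ ℕ) : S₃ ⧸ ini o I :=
  if top o I ≤ q + β then co o I (q + β - top o I) (φ (mon o I β)) • mono (ini o I) (q + β - top o I) else 0

theorem grFun_compat (hq : ∀ x ∈ Q, o.toSyn x ≤ o.toSyn q) {φ : Tgt I} (hφ : φ ∈ Fil o I (insert q (Q : Set _)))
    {β : Fin 3 →₀ ℕ} (hβ : β ∈ exps (ini o I)) (δ : Fin 3 →₀ ℕ) :
    grFun o I q φ (δ + β) = monomial δ (1 : k) • grFun o I q φ β := by
  classical
  haveI := finite_std o I
  haveI := Fintype.ofFinite (Std (ini o I))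
  have hl := (mem_exps_ini o I).1 hβ
  have hl' := lead_up o I hl (le_add_self : β ≤ δ + β)
  have hsm : ∀ (a : k) t, monomial δ (1 : k) • (a • mono (ini o I) t) = a • mono (ini o I) (δ + t) := fun a t => by
    rw [smul_comm, smul_mono]
  unfold grFun
  by_cases hK : top o I ≤ q + (δ + β)
  swap
  · rw [if_neg hK, if_neg fun h => hK (h.trans (by rw [add_left_comm]; exact le_add_self)), smul_zero]
  rw [if_pos hK]
  set s := q + (δ + β) - top o I with hs
  have hsK : s + top o I = q + (δ + β) := tsub_add_cancel_of_le hK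
  by_cases hstd : s ∈ exps (ini o I)
  · rw [mono_eq_zero hstd, smul_zero]
    split_ifs with h
    · rw [hsm, mono_eq_zero, smul_zero]
      rwa [show δ + (q + β - top o I) = s by rw [hs, ← add_tsub_assoc_of_le h, add_left_comm]]
    · rw [smul_zero]
  have hdiff : co o I s (φ (mon o I (δ + β))) = co o I s (monomial δ (1 : k) • φ (mon o I β)) := by
    rw [← sub_eq_zero, ← map_smul φ, ← map_sub, ← map_sub]
    refine co_low o I hq hφ _ hsK fun d hd => ?_
    rw [mem_support_iff] at hd
    change ((mon o I (δ + β) : S₃) - monomial δ 1 * (mon o I β : S₃)).coeff d ≠ 0 at hd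
    rw [coeff_sub] at hd
    have hne : d ≠ δ + β := fun h => by
      subst h
      rw [coeff_monomial_mul, mon_coeff o I hl, mon_coeff o I hl', mul_one, sub_self] at hd
      exact hd rfl
    refine lt_of_le_of_ne ?_ fun h => hne (o.toSyn.injective h)
    by_cases h1 : (mon o I (δ + β) : S₃).coeff d = 0
    · rw [h1, zero_sub, neg_ne_zero, coeff_monomial_mul'] at hd
      split_ifs at hd with hle'
      · obtain ⟨e, rfl⟩ := le_iff_exists_add.1 hle'
        rw [add_tsub_cancel_left] at hd
        rw [map_add, map_add]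
        exact add_le_add le_rfl (mon_support o I hl (mem_support_iff.2 (right_ne_zero_of_mul hd)))
      · exact absurd rfl hd
    · exact mon_support o I hl' (mem_support_iff.2 h1)
  rw [hdiff, co_smul]
  have honly : ∀ t : Std (ini o I), 1 * co o I t.1 (φ (mon o I β)) * co o I s (Ideal.Quotient.mk I (monomial (δ + t.1) 1)) ≠ 0 →
      t.1 + top o I = q + β := fun t ht => by
    have ht1 : co o I t.1 (φ (mon o I β)) ≠ 0 := fun h0 => ht (by rw [h0, mul_zero, zero_mul])
    have ht2 := co_monomial_ne o I fun h0 => ht (by rw [h0, mul_zero])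
    have hb := bound o I hq hφ (mon o I β) t.1 β (o.degree_le_iff.2 fun d hd => mon_support o I hl hd) ht1
    refine o.toSyn.injective (le_antisymm hb ?_)
    have h3 : o.toSyn (s + top o I) ≤ o.toSyn (δ + t.1 + top o I) := by
      rw [map_add, map_add o.toSyn (δ + t.1)]; exact add_le_add ht2 le_rfl
    rw [hsK, show q + (δ + β) = δ + (q + β) by abel, add_assoc, map_add, map_add o.toSyn δ] at h3
    exact le_of_add_le_add_left h3
  by_cases h : top o I ≤ q + β
  · rw [if_pos h, hsm]
    have hst : δ + (q + β - top o I) = s := by rw [hs, ← add_tsub_assoc_of_le h, add_left_comm]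
    rw [hst]
    congr 1
    have ht : q + β - top o I ∉ exps (ini o I) := fun hh => hstd (hst ▸ exps_up hh le_add_self)
    rw [Finset.sum_eq_single ⟨q + β - top o I, ht⟩]
    · rw [one_mul, hst, co_monomial_self o I hstd, mul_one]
    · intro t _ hne
      by_contra hc
      exact hne (Subtype.ext (show t.1 = q + β - top o I by rw [← honly t hc, add_tsub_cancel_right]))
    · exact fun hh => absurd (Finset.mem_univ _) hh
  · rw [if_neg h, smul_zero, Finset.sum_eq_zero, zero_smul]
    intro t _
    by_contra hc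
    exact h (honly t hc ▸ le_add_self)

/-- The associated graded map. -/
def gr (Q : Finset (Fin 3 →₀ ℕ)) (q : Fin 3 →₀ ℕ) (hq : ∀ x ∈ Q, o.toSyn x ≤ o.toSyn q) :
    Fil o I (insert q (Q : Set _)) →ₗ[k] Tgt (ini o I) where
  toFun φ := mkHom (isMonomial_ini o I) (grFun o I q φ.1) fun _ hβ δ => grFun_compat o I hq φ.2 hβ δ
  map_add' φ ψ := tgt_ext (isMonomial_ini o I) fun β hβ => by
    rw [LinearMap.add_apply, mkHom_gen, mkHom_gen, mkHom_gen]
    simp only [grFun, Submodule.coe_add, LinearMap.add_apply, map_add, add_smul]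
    split_ifs <;> simp
  map_smul' c φ := tgt_ext (isMonomial_ini o I) fun β hβ => by
    rw [RingHom.id_apply, LinearMap.smul_apply, mkHom_gen, mkHom_gen]
    simp only [grFun, SetLike.val_smul, LinearMap.smul_apply, map_smul, smul_eq_mul, mul_smul]
    split_ifs <;> simp

theorem finite_finrank_le {V T : Type*} [AddCommGroup V] [Module k V] [AddCommGroup T] [Module k T]
    [Module.Finite k T] (A B : Submodule k V) (f : A →ₗ[k] T) (R : Submodule k T) (hr : ∀ a, f a ∈ R)
    (hk : ∀ a, f a = 0 → (a : V) ∈ B) (hB : Module.Finite k B) :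
    Module.Finite k A ∧ Module.finrank k A ≤ Module.finrank k R + Module.finrank k B := by
  let emb : LinearMap.ker f →ₗ[k] B :=
    { toFun := fun a => ⟨a.1.1, hk a.1 a.2⟩
      map_add' := fun _ _ => rfl
      map_smul' := fun _ _ => rfl }
  have hemb : Function.Injective emb := fun a b h => Subtype.ext (Subtype.ext (congrArg Subtype.val h :))
  haveI : Module.Finite k (LinearMap.ker f) := Module.Finite.of_injective emb hemb
  haveI : Module.Finite k (A ⧸ LinearMap.ker f) := Module.Finite.equiv f.quotKerEquivRange.symm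
  haveI : Module.Finite k A := Module.Finite.of_submodule_quotient (LinearMap.ker f)
  refine ⟨inferInstance, ?_⟩
  have h1 := f.finrank_range_add_finrank_ker
  have h2 := LinearMap.finrank_le_finrank_of_injective hemb
  have h3 := Submodule.finrank_mono (show LinearMap.range f ≤ R by rintro _ ⟨a, rfl⟩; exact hr a)
  omega

/-- The multidegree of a shift. -/
def deg (q : Fin 3 →₀ ℕ) : Fin 3 → ℤ := fun i => (q i : ℤ) - top o I i

theorem deg_injective : Function.Injective (deg o I) := fun p q h => Finsupp.ext fun i => by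
  have := congrFun h i
  simp only [deg] at this
  omega

set_option synthInstance.maxHeartbeats 400000 in
set_option maxHeartbeats 1000000 in
theorem finrank_Fil_le (Q : Finset (Fin 3 →₀ ℕ)) :
    Module.Finite k (Fil o I (Q : Set _)) ∧
      Module.finrank k (Fil o I (Q : Set _)) ≤
        Module.finrank k (TP (isMonomial_ini o I) (deg o I '' (Q : Set _))) := by
  classical
  haveI := finite_ini o I
  haveI := finite_tgt (isMonomial_ini o I)
  induction Q using Finset.induction_on_max_value o.toSyn with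
  | empty =>
    have h : Fil o I ((∅ : Finset (Fin 3 →₀ ℕ)) : Set _) = ⊥ :=
      (Submodule.eq_bot_iff _).2 fun φ hφ => eq_zero_of_mem_Fil_empty o I (by simpa using hφ)
    rw [h, finrank_bot]
    exact ⟨inferInstance, Nat.zero_le _⟩
  | insert q Q hqQ hmax ih =>
    obtain ⟨hfin, hle⟩ := ih
    rw [Finset.coe_insert, Set.image_insert_eq, Set.insert_eq (deg o I q)]
    rw [finrank_TP_union (isMonomial_ini o I) (Set.disjoint_singleton_left.2 (fun h => by obtain ⟨x, hx, hxq⟩ := h; exact hqQ (deg_injective o I hxq ▸ hx)))]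
    have hker : ∀ φ ∈ LinearMap.ker (gr o I Q q hmax), φ.1 ∈ Fil o I (Q : Set _) := fun φ hφ g hg s hs => by
      by_cases hm : s + (top o I - g) = q
      swap
      · exact φ.2 g hg s (by simp [hm, hs])
      have h := LinearMap.congr_fun (LinearMap.mem_ker.1 hφ) (gen g ((mem_exps_ini o I).2 (gens_mem o I hg)))
      replace h : mkHom (isMonomial_ini o I) (grFun o I q φ.1) (fun _ hβ δ => grFun_compat o I hmax φ.2 hβ δ)
          (gen g ((mem_exps_ini o I).2 (gens_mem o I hg))) = 0 := h
      have e : q + g = s + top o I := by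
        rw [← hm, add_assoc, tsub_add_cancel_of_le (le_top o I hg)]
      rw [mkHom_gen, grFun, if_pos (e ▸ le_add_self), e, add_tsub_cancel_right] at h
      by_cases hstd : s ∈ exps (ini o I)
      · simp [co, hstd]
      · have := congrArg (cf (isMonomial_ini o I) s) h
        rwa [map_smul, cf_mono_self _ hstd, map_zero, smul_eq_mul, mul_one] at this
    have hrange : LinearMap.range (gr o I Q q hmax) ≤ TP (isMonomial_ini o I) {deg o I q} := by
      rintro _ ⟨φ, rfl⟩ γ hγ β hβ hd
      show cf _ β (mkHom (isMonomial_ini o I) (grFun o I q φ.1) (fun _ hβ δ => grFun_compat o I hmax φ.2 hβ δ)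
          (gen γ hγ)) = 0
      rw [mkHom_gen, grFun]
      split_ifs with hK
      · rw [map_smul, cf_mono_ne, smul_zero]
        rintro rfl
        refine hd (funext fun i => ?_)
        have := hK i
        simp only [cst, Pi.sub_apply, deg, Finsupp.tsub_apply, Finsupp.add_apply] at this ⊢
        omega
      · rw [map_zero]
    haveI := finite_tgt (isMonomial_ini o I)
    obtain ⟨h1, h2⟩ := finite_finrank_le (Fil o I (insert q (Q : Set _))) (Fil o I (Q : Set _)) (gr o I Q q hmax)
      (TP (isMonomial_ini o I) {deg o I q}) (fun a => hrange ⟨a, rfl⟩) (fun a ha => hker a ha) hfin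
    exact ⟨h1, by omega⟩

set_option synthInstance.maxHeartbeats 400000 in
theorem finrank_tgt_le : Module.Finite k (Tgt I) ∧ Module.finrank k (Tgt I) ≤ Module.finrank k (Tgt (ini o I)) := by
  classical
  haveI := finite_ini o I
  haveI := finite_std o I
  haveI := Fintype.ofFinite (Std (ini o I))
  haveI := finite_tgt (isMonomial_ini o I)
  let Q : Finset (Fin 3 →₀ ℕ) := (gens o I ×ˢ (Finset.univ : Finset (Std (ini o I)))).image fun p => p.2.1 + (top o I - p.1)
  have htop : Fil o I (Q : Set _) = ⊤ := eq_top_iff.2 fun φ _ g hg s hs => by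
    by_cases hstd : s ∈ exps (ini o I)
    · simp [co, hstd]
    · refine absurd (Finset.mem_coe.2 ?_) hs
      exact Finset.mem_image.2 ⟨(g, ⟨s, hstd⟩), by simp [hg], rfl⟩
  obtain ⟨hfin, hle⟩ := finrank_Fil_le o I Q
  rw [htop] at hfin hle
  rw [finrank_top] at hle
  haveI := hfin
  exact ⟨Module.Finite.equiv (LinearEquiv.ofTop ⊤ rfl), hle.trans (Submodule.finrank_le _)⟩

end Groth.Agent.HilbPnLib.Degen
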