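import Groth.Agent.HilbPnLib.Tgt

/-!
# Duality of the multigraded pieces of `Hom(I, S/I)` in three variables

`V = S/I` has the standard monomials as basis, the variables act by commuting matrices `xm`.
Derivations of `S` into `End V` modulo inner ones give `Hom(I, S/I)`; the trace pairing is a
duality on the Koszul complex of commutators.
-/

set_option autoImplicit false

universe u

open MvPolynomial W4c1hilbpn Matrix

noncomputable section

namespace Groth.Agent.HilbPnLib

variable {k : Type u} [Field k] {I : Ideal (MvPolynomial (Fin 3) k)}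

/-- A standard monomial. -/
abbrev Std (I : Ideal (MvPolynomial (Fin 3) k)) : Type := {γ : Fin 3 →₀ ℕ // γ ∉ exps I}

/-- The unit exponent. -/
abbrev ev (a : Fin 3) : Fin 3 →₀ ℕ := Finsupp.single a 1

/-- The exponent as an integer vector. -/
def cst (β : Fin 3 →₀ ℕ) : Fin 3 → ℤ := fun i => β i

theorem cst_add (β γ : Fin 3 →₀ ℕ) : cst (β + γ) = cst β + cst γ := by funext i; simp [cst]

theorem cst_sub {β γ : Fin 3 →₀ ℕ} (h : γ ≤ β) : cst (β - γ) = cst β - cst γ := by
  funext i; simp [cst, Nat.cast_sub (h i)]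

theorem cst_zero : cst 0 = 0 := by funext i; simp [cst]

theorem exponent_induction {motive : (Fin 3 →₀ ℕ) → Prop} (zero : motive 0)
    (step : ∀ δ a, motive δ → motive (δ + ev a)) (δ : Fin 3 →₀ ℕ) : motive δ := by
  induction h : δ.degree using Nat.strong_induction_on generalizing δ with
  | _ n ih =>
    rcases eq_or_ne δ 0 with rfl | hne
    · exact zero
    obtain ⟨a, ha⟩ := Finsupp.ne_iff.1 hne
    have hle : ev a ≤ δ := Finsupp.single_le_iff.2 (Nat.one_le_iff_ne_zero.2 (by simpa using ha))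
    have hd : (δ - ev a).degree + 1 = δ.degree := by
      conv_rhs => rw [← tsub_add_cancel_of_le hle]
      simp [map_add, ev]
    rw [← tsub_add_cancel_of_le hle]
    exact step _ a (ih _ (by omega) _ rfl)

theorem notMem_of_le {β γ : Fin 3 →₀ ℕ} (h : γ ≤ β) (hβ : β ∉ exps I) : γ ∉ exps I :=
  fun hc => hβ (exps_up hc h)

open Classical in
/-- The matrix of multiplication by a variable. -/
def xm (I : Ideal (MvPolynomial (Fin 3) k)) (a : Fin 3) : Matrix (Std I) (Std I) k :=
  fun β γ => if β.1 = γ.1 + ev a then 1 else 0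

variable [Fintype (Std I)]

open Classical in
theorem xm_mul_apply (a : Fin 3) (A : Matrix (Std I) (Std I) k) (β γ : Std I) :
    (xm I a * A) β γ = if h : ev a ≤ β.1 then A ⟨β.1 - ev a, notMem_of_le tsub_le_self β.2⟩ γ else 0 := by
  rw [Matrix.mul_apply]
  split_ifs with h
  · rw [Finset.sum_eq_single ⟨β.1 - ev a, notMem_of_le tsub_le_self β.2⟩]
    · simp only [xm]; rw [if_pos (tsub_add_cancel_of_le h).symm, one_mul]
    · intro δ _ hne
      simp only [xm]
      rw [if_neg (fun (he : β.1 = δ.1 + ev a) => hne (Subtype.ext (by simp [he]))), zero_mul]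
    · exact fun h' => absurd (Finset.mem_univ _) h'
  · refine Finset.sum_eq_zero fun δ _ => ?_
    simp only [xm]
    rw [if_neg (fun (he : β.1 = δ.1 + ev a) => h (he ▸ le_add_self)), zero_mul]

open Classical in
theorem mul_xm_apply (a : Fin 3) (A : Matrix (Std I) (Std I) k) (β γ : Std I) :
    (A * xm I a) β γ = if h : γ.1 + ev a ∉ exps I then A β ⟨γ.1 + ev a, h⟩ else 0 := by
  rw [Matrix.mul_apply]
  split_ifs with h
  · refine Finset.sum_eq_zero fun δ _ => ?_
    simp only [xm]
    rw [if_neg (fun (he : δ.1 = γ.1 + ev a) => δ.2 (he ▸ h)), mul_zero]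
  · rw [Finset.sum_eq_single ⟨γ.1 + ev a, h⟩]
    · simp [xm]
    · intro δ _ hne
      simp only [xm]
      rw [if_neg (fun he => hne (Subtype.ext he)), mul_zero]
    · exact fun h' => absurd (Finset.mem_univ _) h'

theorem xm_comm (a b : Fin 3) : xm I a * xm I b = xm I b * xm I a := by
  classical
  ext β γ
  simp only [xm_mul_apply]
  simp only [xm]
  have key : ∀ a b : Fin 3, (if h : ev a ≤ β.1 then (if β.1 - ev a = γ.1 + ev b then (1 : k) else 0) else 0) =
      if β.1 = γ.1 + ev b + ev a then 1 else 0 := fun a b => by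
    split_ifs with h1 h2 h3 h4 <;> first | rfl | exfalso
    · exact h3 (by rw [← h2, tsub_add_cancel_of_le h1])
    · exact h2 (by rw [h4]; simp)
    · exact h1 (by rw [‹β.1 = _›]; exact le_add_self)
  rw [key, key, add_right_comm γ.1 (ev b) (ev a)]

/-- The space of matrices whose entries have degrees in `Q`. -/
def sup (I : Ideal (MvPolynomial (Fin 3) k)) (Q : Set (Fin 3 → ℤ)) : Submodule k (Matrix (Std I) (Std I) k) where
  carrier := {A | ∀ β γ, cst β.1 - cst γ.1 ∉ Q → A β γ = 0}
  zero_mem' := fun _ _ _ => rfl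
  add_mem' hA hB β γ h := by simp [hA β γ h, hB β γ h]
  smul_mem' c A hA β γ h := by simp [hA β γ h]

/-- The degree set shifted by `ε`. -/
def shf (Q : Set (Fin 3 → ℤ)) (ε : Fin 3 → ℤ) : Set (Fin 3 → ℤ) := {d | d - ε ∈ Q}

theorem xm_mul_mem {Q : Set (Fin 3 → ℤ)} (a : Fin 3) {A : Matrix (Std I) (Std I) k} (hA : A ∈ sup I Q) :
    xm I a * A ∈ sup I (shf Q (cst (ev a))) := by
  intro β γ h
  rw [xm_mul_apply]
  split_ifs with h1
  · refine hA _ _ fun hc => h ?_
    rw [shf, Set.mem_setOf_eq]
    convert hc using 1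
    rw [cst_sub h1]; abel
  · rfl

theorem mul_xm_mem {Q : Set (Fin 3 → ℤ)} (a : Fin 3) {A : Matrix (Std I) (Std I) k} (hA : A ∈ sup I Q) :
    A * xm I a ∈ sup I (shf Q (cst (ev a))) := by
  intro β γ h
  rw [mul_xm_apply]
  split_ifs with h1
  · rfl
  · refine hA _ _ fun hc => h ?_
    rw [shf, Set.mem_setOf_eq]
    convert hc using 1
    rw [cst_add]; abel

/-- Commutators with the variables. -/
def d0 (I : Ideal (MvPolynomial (Fin 3) k)) [Fintype (Std I)] :
    Matrix (Std I) (Std I) k →ₗ[k] (Fin 3 → Matrix (Std I) (Std I) k) where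
  toFun H := fun a => xm I a * H - H * xm I a
  map_add' H G := by funext a; simp only [Pi.add_apply]; noncomm_ring
  map_smul' c H := by funext a; simp [Matrix.mul_smul, Matrix.smul_mul, smul_sub]

/-- The curl. -/
def d1 (I : Ideal (MvPolynomial (Fin 3) k)) [Fintype (Std I)] :
    (Fin 3 → Matrix (Std I) (Std I) k) →ₗ[k] (Fin 3 → Matrix (Std I) (Std I) k) where
  toFun u := fun a => (xm I (a + 1) * u (a + 2) - u (a + 2) * xm I (a + 1)) -
    (xm I (a + 2) * u (a + 1) - u (a + 1) * xm I (a + 2))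
  map_add' H G := by funext a; simp only [Pi.add_apply]; noncomm_ring
  map_smul' c H := by funext a; simp [Matrix.mul_smul, Matrix.smul_mul, smul_sub]

theorem d1_comp_d0 (H : Matrix (Std I) (Std I) k) : d1 I (d0 I H) = 0 := by
  funext a
  have h := xm_comm (I := I) (a + 1) (a + 2)
  simp only [d1, d0, LinearMap.coe_mk, AddHom.coe_mk, Pi.zero_apply]
  calc _ = (xm I (a + 1) * xm I (a + 2) - xm I (a + 2) * xm I (a + 1)) * H -
        H * (xm I (a + 1) * xm I (a + 2) - xm I (a + 2) * xm I (a + 1)) := by noncomm_ring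
    _ = 0 := by rw [h]; simp

/-- Degree-one cochains. -/
def C1 (I : Ideal (MvPolynomial (Fin 3) k)) (P : Set (Fin 3 → ℤ)) :
    Submodule k (Fin 3 → Matrix (Std I) (Std I) k) :=
  Submodule.pi Set.univ fun a => sup I (shf P (cst (ev a)))

/-- Degree-two cochains. -/
def C2 (I : Ideal (MvPolynomial (Fin 3) k)) (P : Set (Fin 3 → ℤ)) :
    Submodule k (Fin 3 → Matrix (Std I) (Std I) k) :=
  Submodule.pi Set.univ fun a => sup I (shf P (cst (ev (a + 1)) + cst (ev (a + 2))))

theorem d0_mem {P : Set (Fin 3 → ℤ)} {H : Matrix (Std I) (Std I) k} (h : H ∈ sup I P) : d0 I H ∈ C1 I P :=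
  fun a _ => Submodule.sub_mem _ (xm_mul_mem a h) (mul_xm_mem a h)

theorem shf_shf (Q : Set (Fin 3 → ℤ)) (ε ζ : Fin 3 → ℤ) : shf (shf Q ε) ζ = shf Q (ε + ζ) := by
  ext d; simp only [shf, Set.mem_setOf_eq]; rw [show d - ζ - ε = d - (ε + ζ) by abel]

theorem d1_mem {P : Set (Fin 3 → ℤ)} {u : Fin 3 → Matrix (Std I) (Std I) k} (h : u ∈ C1 I P) :
    d1 I u ∈ C2 I P := by
  intro a _
  show _ ∈ sup I (shf P (cst (ev (a + 1)) + cst (ev (a + 2))))
  refine Submodule.sub_mem _ ?_ ?_
  · rw [add_comm, ← shf_shf]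
    exact Submodule.sub_mem _ (xm_mul_mem _ (h _ trivial)) (mul_xm_mem _ (h _ trivial))
  · rw [← shf_shf]
    exact Submodule.sub_mem _ (xm_mul_mem _ (h _ trivial)) (mul_xm_mem _ (h _ trivial))

/-! ## Dimensions -/

/-- The number of pairs of standard monomials with degree in `Q`. -/
def npair (I : Ideal (MvPolynomial (Fin 3) k)) (Q : Set (Fin 3 → ℤ)) : ℕ :=
  Nat.card {p : Std I × Std I // cst p.1.1 - cst p.2.1 ∈ Q}

theorem finrank_sup (Q : Set (Fin 3 → ℤ)) : Module.finrank k (sup I Q) = npair I Q := by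
  classical
  let e : sup I Q ≃ₗ[k] ({p : Std I × Std I // cst p.1.1 - cst p.2.1 ∈ Q} → k) :=
    { toFun := fun A p => A.1 p.1.1 p.1.2
      map_add' := fun _ _ => rfl
      map_smul' := fun _ _ => rfl
      invFun := fun f => ⟨fun β γ => if h : cst β.1 - cst γ.1 ∈ Q then f ⟨(β, γ), h⟩ else 0,
        fun β γ h => dif_neg h⟩
      left_inv := fun A => by
        refine Subtype.ext (funext fun β => funext fun γ => ?_)
        simp only
        split_ifs with h
        · rfl
        · exact (A.2 β γ h).symm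
      right_inv := fun f => by
        funext ⟨p, hp⟩
        simp [hp] }
  rw [e.finrank_eq, Module.finrank_fintype_fun_eq_card, npair, Nat.card_eq_fintype_card]

theorem finrank_piSub (S : Fin 3 → Set (Fin 3 → ℤ)) :
    Module.finrank k ↥(Submodule.pi Set.univ fun a => sup I (S a)) = ∑ a, npair I (S a) := by
  let e : ↥(Submodule.pi Set.univ fun a => sup I (S a)) ≃ₗ[k] ((a : Fin 3) → sup I (S a)) :=
    { toFun := fun u a => ⟨u.1 a, u.2 a trivial⟩
      map_add' := fun _ _ => rfl
      map_smul' := fun _ _ => rfl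
      invFun := fun f => ⟨fun a => (f a).1, fun a _ => (f a).2⟩
      left_inv := fun _ => rfl
      right_inv := fun _ => rfl }
  rw [e.finrank_eq, Module.finrank_pi_fintype]
  exact Finset.sum_congr rfl fun a _ => finrank_sup _

/-- The reflected degree set. -/
def refl' (P : Set (Fin 3 → ℤ)) : Set (Fin 3 → ℤ) := {α | -α - 1 ∈ P}

theorem refl'_refl' (P : Set (Fin 3 → ℤ)) : refl' (refl' P) = P := by
  ext α; simp only [refl', Set.mem_setOf_eq]; rw [show -(-α - 1) - 1 = α by abel]

theorem npair_neg (Q : Set (Fin 3 → ℤ)) : npair I {d | -d ∈ Q} = npair I Q := by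
  refine Nat.card_congr ((Equiv.prodComm _ _).subtypeEquiv fun p => ?_)
  simp

theorem cst_ev_sum : cst (ev 0) + cst (ev 1) + cst (ev 2) = 1 := by
  funext i; fin_cases i <;> simp [cst, ev]

theorem shf_refl' (P : Set (Fin 3 → ℤ)) (a : Fin 3) :
    shf (refl' P) (cst (ev a)) = {d | -d ∈ shf P (cst (ev (a + 1)) + cst (ev (a + 2)))} := by
  ext d
  have h1 : cst (ev a) + (cst (ev (a + 1)) + cst (ev (a + 2))) = 1 := by
    fin_cases a <;> simp only [← cst_ev_sum] <;>
      (first | (rw [← add_assoc]; rfl) | (show cst (ev 1) + (cst (ev 2) + cst (ev 0)) = _; abel) |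
        (show cst (ev 2) + (cst (ev 0) + cst (ev 1)) = _; abel))
  simp only [shf, refl', Set.mem_setOf_eq]
  rw [show -(d - cst (ev a)) - 1 = -d - (cst (ev (a + 1)) + cst (ev (a + 2))) by rw [← h1]; abel]

theorem finrank_C1_refl (P : Set (Fin 3 → ℤ)) : Module.finrank k (C1 I (refl' P)) = Module.finrank k (C2 I P) := by
  rw [C1, C2, finrank_piSub, finrank_piSub]
  exact Finset.sum_congr rfl fun a _ => by rw [shf_refl', npair_neg]

theorem npair_shf_refl (P : Set (Fin 3 → ℤ)) : npair I (refl' P) = npair I (shf P 1) := by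
  rw [← npair_neg (shf P 1)]
  congr 1

theorem shf_add_of_period {P : Set (Fin 3 → ℤ)} {ε : Fin 3 → ℤ} (hε : shf P ε = P) (ζ : Fin 3 → ℤ) :
    shf P (ε + ζ) = shf P ζ := by
  rw [← shf_shf, hε]

/-- The Euler characteristic of a degree set periodic in one coordinate vanishes. -/
theorem euler_zero {P : Set (Fin 3 → ℤ)} {c : Fin 3} (hc : shf P (cst (ev c)) = P) :
    Module.finrank k (sup I P) + Module.finrank k (C2 I P) =
      Module.finrank k (C1 I P) + Module.finrank k (sup I (refl' P)) := by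
  rw [C1, C2, finrank_piSub, finrank_piSub, finrank_sup, finrank_sup, npair_shf_refl, ← cst_ev_sum,
    Fin.sum_univ_three, Fin.sum_univ_three]
  show npair I P + (npair I (shf P (cst (ev 1) + cst (ev 2))) + npair I (shf P (cst (ev 2) + cst (ev 0))) +
    npair I (shf P (cst (ev 0) + cst (ev 1)))) = _
  have h := fun ζ => shf_add_of_period hc ζ
  have h' : ∀ ζ, shf P (ζ + cst (ev c)) = shf P ζ := fun ζ => by rw [add_comm, h]
  fin_cases c <;> simp only [Fin.isValue, Fin.zero_eta, Fin.mk_one, Fin.reduceFinMk, add_assoc] at h h' hc ⊢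
  · simp only [h, h', hc]; omega
  · simp only [h, h', hc, add_left_comm (cst (ev 0)) (cst (ev 1)), add_comm (cst (ev 2)) (cst (ev 0))]; omega
  · simp only [h, h', hc]; rw [← add_assoc (cst (ev 0)), h']; omega

/-! ## The trace pairing -/

/-- The trace pairing. -/
def pair (I : Ideal (MvPolynomial (Fin 3) k)) [Fintype (Std I)] :
    (Fin 3 → Matrix (Std I) (Std I) k) →ₗ[k] Module.Dual k (Fin 3 → Matrix (Std I) (Std I) k) :=
  LinearMap.mk₂ k (fun u w => ∑ a, Matrix.trace (u a * w a))
    (fun u v w => by simp [Matrix.add_mul, Finset.sum_add_distrib])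
    (fun c u w => by simp [Matrix.smul_mul, Finset.mul_sum])
    (fun u v w => by simp [Matrix.mul_add, Finset.sum_add_distrib])
    (fun c u w => by simp [Matrix.mul_smul, Finset.mul_sum])

theorem pair_apply (u w : Fin 3 → Matrix (Std I) (Std I) k) : pair I u w = ∑ a, Matrix.trace (u a * w a) := rfl

theorem pair_d1 (u w : Fin 3 → Matrix (Std I) (Std I) k) : pair I (d1 I u) w = pair I u (d1 I w) := by
  simp only [pair_apply, d1, LinearMap.coe_mk, AddHom.coe_mk, Fin.sum_univ_three, Matrix.sub_mul, Matrix.mul_sub,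
    Matrix.trace_sub]
  have c : ∀ (A B C : Matrix (Std I) (Std I) k), Matrix.trace (A * B * C) = Matrix.trace (B * (C * A)) := by
    intro A B C; rw [Matrix.trace_mul_comm, ← Matrix.mul_assoc, Matrix.trace_mul_comm, ← Matrix.mul_assoc]
  have c' : ∀ (A B C : Matrix (Std I) (Std I) k), Matrix.trace (B * A * C) = Matrix.trace (B * (A * C)) := by
    intro A B C; rw [Matrix.mul_assoc]
  simp only [c (xm I _), c' (xm I _), show (0 : Fin 3) + 1 = 1 from rfl, show (0 : Fin 3) + 2 = 2 from rfl,
    show (1 : Fin 3) + 1 = 2 from rfl, show (1 : Fin 3) + 2 = 0 from rfl, show (2 : Fin 3) + 1 = 0 from rfl,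
    show (2 : Fin 3) + 2 = 1 from rfl]
  ring

theorem exists_trace_ne_zero {Q : Set (Fin 3 → ℤ)} {A : Matrix (Std I) (Std I) k} (hA : A ∈ sup I Q) (h : A ≠ 0) :
    ∃ B ∈ sup I {d | -d ∈ Q}, Matrix.trace (A * B) ≠ 0 := by
  classical
  obtain ⟨β, γ, hne⟩ : ∃ β γ, A β γ ≠ 0 := by
    by_contra hc
    simp only [not_exists, not_not] at hc
    exact h (Matrix.ext hc)
  refine ⟨Matrix.single γ β 1, fun γ' β' h' => ?_, ?_⟩
  · rw [Matrix.single_apply]
    split_ifs with hh
    · exfalso
      obtain ⟨rfl, rfl⟩ := hh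
      refine hne (hA β γ fun hc => h' ?_)
      show -(cst γ.1 - cst β.1) ∈ Q
      rwa [neg_sub]
    · rfl
  · rw [Matrix.trace_mul_single]
    simpa using hne

/-- The pairing of degree-one cochains with reflected degree-two cochains. -/
def dualMap1 (I : Ideal (MvPolynomial (Fin 3) k)) [Fintype (Std I)] (P : Set (Fin 3 → ℤ)) :
    C1 I (refl' P) →ₗ[k] Module.Dual k (C2 I P) :=
  (C2 I P).subtype.dualMap ∘ₗ pair I ∘ₗ (C1 I (refl' P)).subtype

theorem dualMap1_bijective (P : Set (Fin 3 → ℤ)) : Function.Bijective (dualMap1 I P) := by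
  classical
  have hinj : Function.Injective (dualMap1 I P) := by
    refine LinearMap.ker_eq_bot.1 ((LinearMap.ker_eq_bot').2 fun u hu => ?_)
    by_contra hne
    obtain ⟨a, ha⟩ : ∃ a, u.1 a ≠ 0 := by
      by_contra hc
      simp only [not_exists, not_not] at hc
      exact hne (Subtype.ext (funext hc))
    obtain ⟨B, hB, hne'⟩ := exists_trace_ne_zero (u.2 a trivial) ha
    have hw : Pi.single a B ∈ C2 I P := by
      intro b _
      rcases eq_or_ne b a with rfl | hb
      · rw [Pi.single_eq_same]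
        show B ∈ sup I (shf P (cst (ev (b + 1)) + cst (ev (b + 2))))
        rw [shf_refl'] at hB
        convert hB using 2
        simp
      · rw [Pi.single_eq_of_ne hb]; exact Submodule.zero_mem _
    have := congrArg (fun f : Module.Dual k (C2 I P) => f ⟨_, hw⟩) hu
    simp only [dualMap1, LinearMap.comp_apply, LinearMap.dualMap_apply, Submodule.subtype_apply, pair_apply,
      LinearMap.zero_apply] at this
    rw [Finset.sum_eq_single a (fun b _ hb => by rw [Pi.single_eq_of_ne hb]; simp)
      (fun h => absurd (Finset.mem_univ a) h), Pi.single_eq_same] at this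
    exact hne' this
  refine ⟨hinj, (LinearMap.injective_iff_surjective_of_finrank_eq_finrank ?_).1 hinj⟩
  rw [Subspace.dual_finrank_eq, finrank_C1_refl]

theorem C1_refl_mem {P : Set (Fin 3 → ℤ)} {w : Fin 3 → Matrix (Std I) (Std I) k} (h : w ∈ C1 I P) :
    w ∈ C1 I (refl' (refl' P)) := by
  rwa [refl'_refl']

/-- The curl on cochains. -/
def d1P (I : Ideal (MvPolynomial (Fin 3) k)) [Fintype (Std I)] (P : Set (Fin 3 → ℤ)) :
    C1 I P →ₗ[k] C2 I P :=
  LinearMap.restrict (d1 I) (fun _ h => d1_mem h)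

theorem pair_symm (u w : Fin 3 → Matrix (Std I) (Std I) k) : pair I u w = pair I w u := by
  simp only [pair_apply]
  exact Finset.sum_congr rfl fun _ _ => Matrix.trace_mul_comm _ _

theorem finrank_range_d1P_refl (P : Set (Fin 3 → ℤ)) :
    Module.finrank k (LinearMap.range (d1P I (refl' P))) = Module.finrank k (LinearMap.range (d1P I P)) := by
  let e1 : C1 I (refl' P) ≃ₗ[k] Module.Dual k (C2 I P) := LinearEquiv.ofBijective _ (dualMap1_bijective P)
  let t : C2 I (refl' P) →ₗ[k] Module.Dual k (C1 I P) :=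
    (C1 I P).subtype.dualMap ∘ₗ pair I ∘ₗ (C2 I (refl' P)).subtype
  have ht : Function.Injective t := by
    intro x y hxy
    have hb := dualMap1_bijective (I := I) (refl' P)
    refine Subtype.ext ?_
    by_contra hne
    have hz : x - y ≠ 0 := fun h => hne (congrArg Subtype.val (sub_eq_zero.1 h))
    obtain ⟨f, hf⟩ := Module.Projective.exists_dual_ne_zero k hz
    obtain ⟨w, hw⟩ := hb.2 f
    refine hf ?_
    rw [← hw]
    show pair I w.1 (x.1 - y.1) = 0
    have hw' : w.1 ∈ C1 I P := by simpa only [refl'_refl'] using w.2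
    have := congrArg (fun g : Module.Dual k (C1 I P) => g ⟨w.1, hw'⟩) hxy
    rw [map_sub, sub_eq_zero, pair_symm w.1 x.1, pair_symm w.1 y.1]
    exact this
  have hcomm : t ∘ₗ d1P I (refl' P) = (d1P I P).dualMap ∘ₗ (e1 : C1 I (refl' P) →ₗ[k] _) := by
    refine LinearMap.ext fun u => LinearMap.ext fun w => ?_
    show pair I (d1 I u.1) w.1 = pair I u.1 (d1 I w.1)
    exact pair_d1 _ _
  rw [← LinearMap.finrank_range_dualMap_eq_finrank_range (d1P I P),
    ← LinearEquiv.range_comp e1 (d1P I P).dualMap, ← hcomm, LinearMap.range_comp]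
  exact (Submodule.equivMapOfInjective t ht _).finrank_eq

/-! ## Cycles modulo boundaries -/

/-- The commuting matrices. -/
def Z0 (I : Ideal (MvPolynomial (Fin 3) k)) [Fintype (Std I)] (P : Set (Fin 3 → ℤ)) :
    Submodule k (Matrix (Std I) (Std I) k) :=
  sup I P ⊓ LinearMap.ker (d0 I)

theorem finrank_cycles_add (P : Set (Fin 3 → ℤ)) (c : Fin 3) (hc : shf P (cst (ev c)) = P) :
    Module.finrank k (LinearMap.ker (d1P I P)) +
        Module.finrank k ↥((sup I (refl' P)).map (d0 I)) + Module.finrank k (Z0 I (refl' P)) =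
      Module.finrank k (LinearMap.ker (d1P I (refl' P))) +
        Module.finrank k ↥((sup I P).map (d0 I)) + Module.finrank k (Z0 I P) := by
  have h1 := LinearMap.finrank_range_add_finrank_ker (d1P I P)
  have h2 := LinearMap.finrank_range_add_finrank_ker (d1P I (refl' P))
  have split : ∀ Q, Module.finrank k ↥((sup I Q).map (d0 I)) + Module.finrank k (Z0 I Q) = Module.finrank k (sup I Q) := by
    intro Q
    rw [← LinearMap.range_domRestrict, ← LinearMap.finrank_range_add_finrank_ker ((d0 I).domRestrict (sup I Q))]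
    congr 1
    have he : LinearMap.ker ((d0 I).domRestrict (sup I Q)) = (Z0 I Q).comap (sup I Q).subtype := by
      ext x; simp [Z0]
    rw [he]
    exact (Submodule.comapSubtypeEquivOfLe (inf_le_left : Z0 I Q ≤ sup I Q)).finrank_eq.symm
  have h3 := finrank_range_d1P_refl (I := I) P
  have h4 := finrank_C1_refl (I := I) P
  have h5 := euler_zero (I := I) hc
  have h6 := split P
  have h7 := split (refl' P)
  omega

end Groth.Agent.HilbPnLib
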