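import Groth.Agent.HilbPnLib.DualityHom

/-!
# Consequences of the duality: sign patterns
-/

set_option autoImplicit false

universe u

open MvPolynomial W4c1hilbpn

noncomputable section

namespace Groth.Agent.HilbPnLib

variable {k : Type u} [Field k] {I : Ideal (MvPolynomial (Fin 3) k)}
  [Module.Finite k (MvPolynomial (Fin 3) k ⧸ I)]

theorem card_std (hI : IsMonomial I) :
    Nat.card (Std I) = Module.finrank k (MvPolynomial (Fin 3) k ⧸ I) := by
  classical
  haveI : Fintype (Std I) := (finite_compl_exps hI).fintype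
  let e : (Std I → k) →ₗ[k] MvPolynomial (Fin 3) k ⧸ I :=
    { toFun := fv
      map_add' := fun v w => eq_of_cf hI fun β hβ => by
        show cf hI (⟨β, hβ⟩ : Std I).1 _ = cf hI (⟨β, hβ⟩ : Std I).1 _
        rw [map_add, cf_fv, cf_fv, cf_fv]; rfl
      map_smul' := fun c v => eq_of_cf hI fun β hβ => by
        show cf hI (⟨β, hβ⟩ : Std I).1 _ = cf hI (⟨β, hβ⟩ : Std I).1 _
        rw [RingHom.id_apply, map_smul, cf_fv, cf_fv]; rfl }
  have hb : Function.Bijective e := by
    refine ⟨fun v w h => funext fun β => ?_, fun m => ⟨fun β => cf hI β.1 m, eq_of_cf hI fun β hβ => ?_⟩⟩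
    · rw [← cf_fv hI v β, ← cf_fv hI w β]; exact congrArg _ h
    · show cf hI (⟨β, hβ⟩ : Std I).1 _ = _
      exact cf_fv hI _ _
  rw [← (LinearEquiv.ofBijective e hb).finrank_eq, Module.finrank_fintype_fun_eq_card, Nat.card_eq_fintype_card]

theorem finite_tgt (hI : IsMonomial I) : Module.Finite k (Tgt I) := by
  classical
  obtain ⟨G, hG, hGle⟩ := exists_gen_finset hI
  let e : Tgt I →ₗ[k] (G → MvPolynomial (Fin 3) k ⧸ I) :=
    { toFun := fun φ g => φ (gen g.1 (hG g.1 g.2))
      map_add' := fun _ _ => rfl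
      map_smul' := fun _ _ => rfl }
  refine Module.Finite.of_injective e fun φ ψ h => tgt_ext hI fun β hβ => ?_
  obtain ⟨g, hg, hle⟩ := hGle β hβ
  rw [map_gen_of_le φ hle (hG g hg) hβ, map_gen_of_le ψ hle (hG g hg) hβ]
  exact congrArg _ (congrFun h ⟨g, hg⟩)

theorem TP_mono (hI : IsMonomial I) {A B : Set (Fin 3 → ℤ)} (h : A ⊆ B) : TP hI A ≤ TP hI B :=
  fun _ hφ γ hγ β hβ hd => hφ γ hγ β hβ fun hc => hd (h hc)

theorem finrank_TP_union (hI : IsMonomial I) {A B : Set (Fin 3 → ℤ)} (h : Disjoint A B) :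
    Module.finrank k (TP hI (A ∪ B)) = Module.finrank k (TP hI A) + Module.finrank k (TP hI B) := by
  haveI := finite_tgt hI
  have hsup : TP hI (A ∪ B) = TP hI A ⊔ TP hI B := by
    refine le_antisymm ?_ (sup_le (TP_mono hI Set.subset_union_left) (TP_mono hI Set.subset_union_right))
    conv_lhs => rw [← iSup_tPiece_eq_TP hI]
    refine iSup_le fun α => ?_
    rcases α.2 with hα | hα
    · exact le_sup_of_le_left (le_of_le_of_eq (le_iSup (fun a : A => tPiece I a.1) ⟨α.1, hα⟩) (iSup_tPiece_eq_TP hI A))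
    · exact le_sup_of_le_right (le_of_le_of_eq (le_iSup (fun a : B => tPiece I a.1) ⟨α.1, hα⟩) (iSup_tPiece_eq_TP hI B))
  have hinf : TP hI A ⊓ TP hI B = ⊥ := by
    refine (Submodule.eq_bot_iff _).2 fun φ ⟨hA, hB⟩ => tgt_ext hI fun γ hγ => eq_of_cf hI fun β hβ => ?_
    rw [LinearMap.zero_apply, map_zero]
    by_cases hc : cst β - cst γ ∈ A
    · exact hB γ hγ β hβ (Set.disjoint_left.1 h hc)
    · exact hA γ hγ β hβ hc
  have := Submodule.finrank_sup_add_finrank_inf_eq (TP hI A) (TP hI B)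
  rw [← hsup, hinf, finrank_bot] at this
  omega

/-- The degrees of a sign pattern. -/
def sigSet (N : Set (Fin 3)) : Set (Fin 3 → ℤ) := {α | ∀ l, α l < 0 ↔ l ∈ N}

theorem sigPiece_eq (hI : IsMonomial I) (N : Set (Fin 3)) : sigPiece I N = TP hI (sigSet N) :=
  iSup_tPiece_eq_TP hI (sigSet N)

theorem TP_sigSet_univ (hI : IsMonomial I) : TP hI (sigSet Set.univ) = ⊥ := by
  rw [← iSup_tPiece_eq_TP hI]
  refine eq_bot_iff.2 (iSup_le fun α => le_of_eq ?_)
  exact tPiece_eq_bot_of_two_neg hI (fun l => ((α.2 l).2 trivial).le) (by decide : (0 : Fin 3) ≠ 1)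
    ((α.2 0).2 trivial) ((α.2 1).2 trivial)

theorem TP_sigSet_empty (hI : IsMonomial I) : TP hI (sigSet ∅) = ⊥ := by
  rw [← iSup_tPiece_eq_TP hI]
  exact eq_bot_iff.2 (iSup_le fun α => le_of_eq (tPiece_eq_bot_of_nonneg hI fun l => not_lt.1 fun h => (α.2 l).1 h))

theorem disjoint_sigSet {N M : Set (Fin 3)} (h : N ≠ M) : Disjoint (sigSet N) (sigSet M) :=
  Set.disjoint_left.2 fun _ hN hM => h (Set.ext fun l => (hN l).symm.trans (hM l))

/-- The sign pattern negative exactly at `i` against the complementary one. -/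
theorem finrank_sigPiece_singleton (hI : IsMonomial I) (i : Fin 3) :
    Module.finrank k ↥(sigPiece I {i}) =
      Module.finrank k ↥(sigPiece I ({i}ᶜ : Set (Fin 3))) + Module.finrank k (MvPolynomial (Fin 3) k ⧸ I) := by
  let P : Set (Fin 3 → ℤ) := {α | ∀ l, l ≠ i → 0 ≤ α l}
  have hP : P = sigSet {i} ∪ sigSet ∅ := by
    ext α
    simp only [P, sigSet, Set.mem_union, Set.mem_setOf_eq, Set.mem_singleton_iff, Set.mem_empty_iff_false, iff_false, not_lt]
    constructor
    · intro h
      rcases lt_or_ge (α i) 0 with hi | hi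
      · exact .inl fun l => ⟨fun hl => by_contra fun hne => absurd (h l hne) (not_le.2 hl), fun hl => hl ▸ hi⟩
      · exact .inr fun l => if hl : l = i then hl ▸ hi else h l hl
    · rintro (h | h) l hl
      · exact not_lt.1 fun hc => hl ((h l).1 hc)
      · exact h l
  have hP' : refl' P = sigSet ({i}ᶜ) ∪ sigSet Set.univ := by
    ext α
    simp only [P, refl', sigSet, Set.mem_union, Set.mem_setOf_eq, Set.mem_compl_iff, Set.mem_singleton_iff,
      Set.mem_univ, iff_true, Pi.sub_apply, Pi.neg_apply, Pi.one_apply]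
    constructor
    · intro h
      have h' : ∀ l, l ≠ i → α l < 0 := fun l hl => by have := h l hl; omega
      rcases lt_or_ge (α i) 0 with hi | hi
      · exact .inr fun l => if hl : l = i then hl ▸ hi else h' l hl
      · exact .inl fun l => ⟨fun hl hc => absurd (hc ▸ hl) (not_lt.2 hi), h' l⟩
    · rintro (h | h) l hl
      · have := (h l).2 hl; omega
      · have := h l; omega
  have hper : shf P (cst (ev i)) = P := by
    ext α
    simp only [P, shf, Set.mem_setOf_eq]
    refine forall₂_congr fun l hl => ?_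
    simp [cst, ev, Finsupp.single_eq_of_ne hl]
  have h := finrank_iSup_tPiece_refl i hper hI
  rw [iSup_tPiece_eq_TP hI, iSup_tPiece_eq_TP hI] at h
  have hne1 : ({i} : Set (Fin 3)) ≠ ∅ := Set.singleton_ne_empty i
  have hne2 : ({i}ᶜ : Set (Fin 3)) ≠ Set.univ := fun hu => absurd ((Set.ext_iff.1 hu i).2 trivial) (by simp)
  have h1 : Module.finrank k (TP hI P) = Module.finrank k (TP hI (sigSet {i})) := by
    rw [hP, finrank_TP_union hI (disjoint_sigSet hne1), TP_sigSet_empty hI, finrank_bot, add_zero]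
  have h2 : Module.finrank k (TP hI (refl' P)) = Module.finrank k (TP hI (sigSet {i}ᶜ)) := by
    rw [hP', finrank_TP_union hI (disjoint_sigSet hne2), TP_sigSet_univ hI, finrank_bot, add_zero]
  haveI : IsEmpty {β : Std I // cst β.1 ∈ refl' P} := ⟨fun β => by
    obtain ⟨l, hl⟩ : ∃ l, l ≠ i := ⟨i + 1, (by decide : ∀ j : Fin 3, j + 1 ≠ j) i⟩
    have := β.2 l hl
    simp only [cst, Pi.sub_apply, Pi.neg_apply, Pi.one_apply] at this
    omega⟩
  rw [Nat.card_of_isEmpty, h1, h2, add_zero,
    Nat.card_congr (Equiv.subtypeUnivEquiv (fun β : Std I => show cst β.1 ∈ P from fun l _ => Int.natCast_nonneg _)),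
    card_std hI] at h
  rw [sigPiece_eq hI, sigPiece_eq hI]
  exact h

end Groth.Agent.HilbPnLib
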