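import Groth.Agent.HilbPnLib.Duality

/-!
# Cycles of the commutator complex as homomorphisms `I → S/I`
-/

set_option autoImplicit false

universe u

open MvPolynomial W4c1hilbpn Matrix


noncomputable section

namespace Groth.Agent.HilbPnLib

variable {k : Type u} [Field k] {I : Ideal (MvPolynomial (Fin 3) k)}

/-- Homomorphisms all of whose components have degree in `P`. -/
def TP (hI : IsMonomial I) (P : Set (Fin 3 → ℤ)) : Submodule k (Tgt I) where
  carrier := {φ | ∀ (γ : Fin 3 →₀ ℕ) (hγ : γ ∈ exps I) (β : Fin 3 →₀ ℕ), β ∉ exps I →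
    cst β - cst γ ∉ P → cf hI β (φ (gen γ hγ)) = 0}
  zero_mem' := fun γ hγ β _ _ => by simp
  add_mem' hA hB γ hγ β h1 h2 := by simp [hA γ hγ β h1 h2, hB γ hγ β h1 h2]
  smul_mem' c A hA γ hγ β h1 h2 := by simp [hA γ hγ β h1 h2]

theorem iSup_tPiece_eq_TP (hI : IsMonomial I) [Module.Finite k (MvPolynomial (Fin 3) k ⧸ I)]
    (P : Set (Fin 3 → ℤ)) : (⨆ α : P, tPiece I α.1) = TP hI P := by
  classical
  refine le_antisymm (iSup_le fun α φ hφ γ hγ β hβ hd => ?_) fun φ hφ => ?_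
  · by_cases hn : ∀ i, 0 ≤ (γ i : ℤ) + α.1 i
    · rw [apply_gen_of_mem hI hφ hγ hn, map_smul, cf_mono_ne hI, smul_zero]
      intro he
      refine hd ?_
      convert α.2 using 1
      funext i
      rw [Pi.sub_apply, cst, cst, ← he, shift_cast hn]; ring
    · push Not at hn
      obtain ⟨i, hi⟩ := hn
      rw [apply_gen_eq_zero hφ hγ hi, map_zero]
  · have hmem : φ ∈ ⨆ α : Fin 3 → ℤ, tPiece I α := (iSup_tPiece_eq_top hI).symm ▸ Submodule.mem_top
    obtain ⟨f, hf, hsum⟩ := (Submodule.mem_iSup_iff_exists_finsupp _ _).1 hmem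
    rw [← hsum]
    refine Submodule.sum_mem _ fun α hα => ?_
    by_cases hP : α ∈ P
    · exact le_iSup (fun a : P => tPiece I a.1) ⟨α, hP⟩ (hf α)
    refine absurd ?_ (Finsupp.mem_support_iff.1 hα)
    let cl : Tgt I →+ Tgt I :=
      { toFun := comp hI α
        map_zero' := tgt_ext hI fun β hβ => by simp [comp, mkHom_gen, compFun]
        map_add' := fun a b => tgt_ext hI fun β hβ => by
          simp only [comp, mkHom_gen, compFun, LinearMap.add_apply, dif_pos hβ]
          split_ifs <;> simp [add_smul] }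
    have h1 : cl φ = f α := by
      rw [← hsum, Finsupp.sum, map_sum, Finset.sum_eq_single α]
      · exact comp_self hI (hf α)
      · exact fun b _ hb => comp_of_ne hI hb.symm (hf b)
      · exact fun h => absurd hα h
    rw [← h1]
    refine tgt_ext hI fun γ hγ => ?_
    show comp hI α φ (gen γ hγ) = 0
    rw [comp, mkHom_gen, compFun, dif_pos hγ]
    split_ifs with h
    · by_cases he : shift γ α ∈ exps I
      · rw [cf_mem hI he, zero_smul]
      · rw [hφ γ hγ _ he (fun hc => hP ?_), zero_smul]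
        convert hc using 1
        funext i
        rw [Pi.sub_apply, cst, cst, shift_cast h]; ring
    · rfl

variable [Fintype (Std I)]

/-- The operator of a variable on pairs. -/
def Lm (u : Fin 3 → Matrix (Std I) (Std I) k) (a : Fin 3) : Matrix (Std I ⊕ Std I) (Std I ⊕ Std I) k :=
  Matrix.fromBlocks (xm I a) (u a) 0 (xm I a)

theorem Lm_comm {u : Fin 3 → Matrix (Std I) (Std I) k} (hu : d1 I u = 0) (a b : Fin 3) :
    Commute (Lm u a) (Lm u b) := by
  have key : ∀ c : Fin 3, Commute (Lm u (c + 1)) (Lm u (c + 2)) := fun c => by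
    show _ * _ = _ * _
    simp only [Lm, Matrix.fromBlocks_multiply, Matrix.mul_zero, Matrix.zero_mul, add_zero, zero_add]
    have h := congrFun hu c
    simp only [d1, LinearMap.coe_mk, AddHom.coe_mk, Pi.zero_apply] at h
    have h' : xm I (c + 1) * u (c + 2) + u (c + 1) * xm I (c + 2) =
        xm I (c + 2) * u (c + 1) + u (c + 2) * xm I (c + 1) := by
      rw [← sub_eq_zero, ← h]; abel
    rw [xm_comm (c + 1) (c + 2), h']
  have hc : a = b ∨ (a = b + 2 + 2 + 0 ∧ False) ∨ (∃ c : Fin 3, a = c + 1 ∧ b = c + 2) ∨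
      (∃ c : Fin 3, b = c + 1 ∧ a = c + 2) := by
    revert a b; decide
  obtain rfl | ⟨-, h⟩ | ⟨c, rfl, rfl⟩ | ⟨c, rfl, rfl⟩ := hc
  · exact Commute.refl _
  · exact h.elim
  · exact key c
  · exact (key c).symm

open Classical in
/-- The product of operators of a monomial. -/
def Mm (u : Fin 3 → Matrix (Std I) (Std I) k) (δ : Fin 3 →₀ ℕ) : Matrix (Std I ⊕ Std I) (Std I ⊕ Std I) k :=
  Lm u 0 ^ δ 0 * Lm u 1 ^ δ 1 * Lm u 2 ^ δ 2

theorem Mm_step {u : Fin 3 → Matrix (Std I) (Std I) k} (hu : d1 I u = 0) (δ : Fin 3 →₀ ℕ) (a : Fin 3) :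
    Mm u (δ + ev a) = Lm u a * Mm u δ := by
  classical
  have h0 : ∀ (a b : Fin 3) (n : ℕ), Commute (Lm u a) (Lm u b ^ n) := fun a b n => (Lm_comm hu a b).pow_right n
  fin_cases a <;> simp only [Mm, ev, Finsupp.add_apply, Finsupp.single_apply, Fin.isValue, Fin.zero_eta, Fin.mk_one,
    Fin.reduceFinMk, Fin.reduceEq, if_true, if_false, add_zero]
  · rw [pow_succ', mul_assoc, mul_assoc, mul_assoc]
  · rw [pow_succ', ← mul_assoc (Lm u 0 ^ δ 0), ← (h0 1 0 _).eq, mul_assoc, mul_assoc, mul_assoc]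
  · rw [pow_succ', ← mul_assoc, ← ((h0 2 0 (δ 0)).mul_right (h0 2 1 (δ 1))).eq]
    simp only [mul_assoc]

variable (z0 : (0 : Fin 3 →₀ ℕ) ∉ exps I)

/-- The first component of `Mm` applied to the unit. -/
def Tv (u : Fin 3 → Matrix (Std I) (Std I) k) (δ : Fin 3 →₀ ℕ) (β : Std I) : k :=
  Mm u δ (Sum.inl β) (Sum.inr ⟨0, z0⟩)

open Classical in
/-- The recursion for the values of a derivation at one. -/
def Rec (u : Fin 3 → Matrix (Std I) (Std I) k) (G : (Fin 3 →₀ ℕ) → Std I → k) : Prop :=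
  (∀ β, G 0 β = 0) ∧ ∀ (δ : Fin 3 →₀ ℕ) (a : Fin 3) (β : Std I), G (δ + ev a) β =
    (if h : ev a ≤ β.1 then G δ ⟨β.1 - ev a, notMem_of_le tsub_le_self β.2⟩ else 0) +
    (if h : δ ∉ exps I then u a β ⟨δ, h⟩ else 0)

theorem Rec.unique {u : Fin 3 → Matrix (Std I) (Std I) k} {G G' : (Fin 3 →₀ ℕ) → Std I → k}
    (h : Rec u G) (h' : Rec u G') : G = G' := by
  funext δ
  induction δ using exponent_induction with
  | zero => funext β; rw [h.1, h'.1]
  | step δ a ih => funext β; rw [h.2, h'.2, ih]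

theorem rec_Tv {u : Fin 3 → Matrix (Std I) (Std I) k} (hu : d1 I u = 0) : Rec u (Tv z0 u) := by
  classical
  have snd : ∀ (δ : Fin 3 →₀ ℕ) (β : Std I),
      Mm u δ (Sum.inr β) (Sum.inr ⟨0, z0⟩) = if β.1 = δ then 1 else 0 := by
    intro δ
    induction δ using exponent_induction with
    | zero => intro β; simp [Mm, Matrix.one_apply, Subtype.ext_iff]
    | step δ a ih =>
      intro β
      rw [Mm_step hu]
      have : (Lm u a * Mm u δ) (Sum.inr β) (Sum.inr ⟨0, z0⟩) =
          (xm I a * Matrix.of fun γ γ' => Mm u δ (Sum.inr γ) (Sum.inr γ')) β ⟨0, z0⟩ := by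
        simp [Lm, Matrix.mul_apply, Fintype.sum_sum_type]
      rw [this, xm_mul_apply]
      simp only [Matrix.of_apply]
      by_cases h : ev a ≤ β.1
      · rw [dif_pos h, ih]
        exact if_congr (tsub_eq_iff_eq_add_of_le h) rfl rfl
      · rw [dif_neg h, if_neg (fun (he : β.1 = δ + ev a) => h (he ▸ le_add_self))]
  refine ⟨fun β => by simp [Tv, Mm], fun δ a β => ?_⟩
  have : Tv z0 u (δ + ev a) β = (xm I a * Matrix.of fun γ γ' => Mm u δ (Sum.inl γ) (Sum.inr γ')) β ⟨0, z0⟩ +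
      ∑ γ, u a β γ * Mm u δ (Sum.inr γ) (Sum.inr ⟨0, z0⟩) := by
    simp [Tv, Mm_step hu, Lm, Matrix.mul_apply, Fintype.sum_sum_type]
  rw [this, xm_mul_apply]
  simp only [Matrix.of_apply, Tv]
  congr 1
  simp only [snd, mul_ite, mul_one, mul_zero]
  split_ifs with h
  · exact Finset.sum_eq_zero fun γ _ => if_neg fun he : γ.1 = δ => γ.2 (he ▸ h)
  · rw [Finset.sum_eq_single ⟨δ, h⟩ (fun γ _ hne => if_neg fun he => hne (Subtype.ext he))
      (fun h' => absurd (Finset.mem_univ _) h'), if_pos rfl]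

theorem Tv_add {u w : Fin 3 → Matrix (Std I) (Std I) k} (hu : d1 I u = 0) (hw : d1 I w = 0) :
    Tv z0 (u + w) = Tv z0 u + Tv z0 w := by
  refine (rec_Tv z0 (by rw [map_add, hu, hw, add_zero])).unique ⟨fun β => ?_, fun δ a β => ?_⟩
  · simp [(rec_Tv z0 hu).1 β, (rec_Tv z0 hw).1 β]
  · simp only [Pi.add_apply, (rec_Tv z0 hu).2, (rec_Tv z0 hw).2]
    split_ifs <;> simp <;> ring

theorem Tv_smul (c : k) {u : Fin 3 → Matrix (Std I) (Std I) k} (hu : d1 I u = 0) :
    Tv z0 (c • u) = c • Tv z0 u := by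
  refine (rec_Tv z0 (by rw [map_smul, hu, smul_zero])).unique ⟨fun β => ?_, fun δ a β => ?_⟩
  · simp [(rec_Tv z0 hu).1 β]
  · simp only [Pi.smul_apply, (rec_Tv z0 hu).2]
    split_ifs <;> simp <;> ring

/-- A vector as a class. -/
def fv (v : Std I → k) : MvPolynomial (Fin 3) k ⧸ I := ∑ β : Std I, v β • mono I β.1

theorem cf_fv (hI : IsMonomial I) (v : Std I → k) (β : Std I) : cf hI β.1 (fv v) = v β := by
  rw [fv, map_sum, Finset.sum_eq_single β]
  · rw [map_smul, cf_mono_self hI β.2, smul_eq_mul, mul_one]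
  · exact fun γ _ hne => by rw [map_smul, cf_mono_ne hI (fun h => hne (Subtype.ext h)), smul_zero]
  · exact fun h => absurd (Finset.mem_univ _) h

theorem fv_compat (hI : IsMonomial I) {u : Fin 3 → Matrix (Std I) (Std I) k} (hu : d1 I u = 0)
    (β : Fin 3 →₀ ℕ) (hβ : β ∈ exps I) (δ : Fin 3 →₀ ℕ) :
    fv (Tv z0 u (δ + β)) = monomial δ (1 : k) • fv (Tv z0 u β) := by
  classical
  induction δ using exponent_induction with
  | zero => rw [zero_add, show (monomial (0 : Fin 3 →₀ ℕ) (1 : k)) = 1 from rfl, one_smul]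
  | step δ a ih =>
    rw [show monomial (δ + ev a) (1 : k) = monomial (ev a) 1 * monomial δ 1 by
      rw [monomial_mul, one_mul, add_comm], mul_smul, ← ih, add_right_comm]
    refine eq_of_cf hI fun γ hγ => ?_
    show cf hI (⟨γ, hγ⟩ : Std I).1 _ = _
    rw [cf_fv, (rec_Tv z0 hu).2,
      dif_neg (not_not.2 (exps_up hβ le_add_self)), add_zero]
    split_ifs with h
    · have he : ev a + (γ - ev a) = γ := add_tsub_cancel_of_le h
      refine ((cf_fv hI _ (⟨γ - ev a, notMem_of_le tsub_le_self hγ⟩ : Std I)).symm.trans ?_)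
      conv_rhs => rw [← he]
      exact (cf_smul hI (by rwa [he]) _).symm
    · rw [cf_smul_not_le hI h]

variable (hI : IsMonomial I)

/-- Cycles of degree in `P` as homomorphisms. -/
def Phi (P : Set (Fin 3 → ℤ)) : LinearMap.ker (d1P I P) →ₗ[k] Tgt I where
  toFun u := mkHom hI (fun γ => fv (Tv z0 u.1.1 γ))
    (fv_compat z0 hI (congrArg Subtype.val (LinearMap.mem_ker.1 u.2)))
  map_add' u w := by
    refine tgt_ext hI fun γ hγ => eq_of_cf hI fun β hβ => ?_
    rw [LinearMap.add_apply, map_add, mkHom_gen, mkHom_gen, mkHom_gen]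
    show cf hI (⟨β, hβ⟩ : Std I).1 _ = cf hI (⟨β, hβ⟩ : Std I).1 _ + cf hI (⟨β, hβ⟩ : Std I).1 _
    rw [cf_fv, cf_fv, cf_fv]
    exact congrFun (congrFun (Tv_add z0 (congrArg Subtype.val (LinearMap.mem_ker.1 u.2))
      (congrArg Subtype.val (LinearMap.mem_ker.1 w.2))) γ) _
  map_smul' c u := by
    refine tgt_ext hI fun γ hγ => eq_of_cf hI fun β hβ => ?_
    rw [LinearMap.smul_apply, RingHom.id_apply, map_smul, mkHom_gen, mkHom_gen]
    show cf hI (⟨β, hβ⟩ : Std I).1 _ = c • cf hI (⟨β, hβ⟩ : Std I).1 _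
    rw [cf_fv, cf_fv]
    exact congrFun (congrFun (Tv_smul z0 c (congrArg Subtype.val (LinearMap.mem_ker.1 u.2))) γ) _

theorem cf_Phi (P : Set (Fin 3 → ℤ)) (u : LinearMap.ker (d1P I P)) (γ : Fin 3 →₀ ℕ) (hγ : γ ∈ exps I) (β : Std I) :
    cf hI β.1 (Phi z0 hI P u (gen γ hγ)) = Tv z0 u.1.1 γ β := by
  simp only [Phi, LinearMap.coe_mk, AddHom.coe_mk, mkHom_gen]
  rw [cf_fv]

theorem Tv_deg {P : Set (Fin 3 → ℤ)} {u : Fin 3 → Matrix (Std I) (Std I) k} (hu : d1 I u = 0) (hP : u ∈ C1 I P)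
    (δ : Fin 3 →₀ ℕ) : ∀ β : Std I, cst β.1 - cst δ ∉ P → Tv z0 u δ β = 0 := by
  classical
  induction δ using exponent_induction with
  | zero => exact fun β _ => (rec_Tv z0 hu).1 β
  | step δ a ih =>
    intro β hd
    rw [(rec_Tv z0 hu).2]
    have e : cst β.1 - cst (δ + ev a) = cst β.1 - cst (ev a) - cst δ := by rw [cst_add]; abel
    rw [e] at hd
    split_ifs with h1 h2 h2
    · simp [ih ⟨β.1 - ev a, notMem_of_le tsub_le_self β.2⟩ (by simpa only [cst_sub h1] using hd)]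
    · rw [ih ⟨β.1 - ev a, notMem_of_le tsub_le_self β.2⟩ (by simpa only [cst_sub h1] using hd), zero_add]
      refine hP a trivial β ⟨δ, h2⟩ fun hc => hd ?_
      rw [sub_right_comm]; exact hc
    · simp
    · rw [zero_add]
      refine hP a trivial β ⟨δ, h2⟩ fun hc => hd ?_
      rw [sub_right_comm]; exact hc

theorem d0_apply (H : Matrix (Std I) (Std I) k) (a : Fin 3) (β γ : Std I) :
    d0 I H a β γ = (xm I a * H) β γ - (H * xm I a) β γ := rfl

open Classical in
theorem rec_d0 (H : Matrix (Std I) (Std I) k) : Rec (d0 I H) (fun δ β =>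
    (if h : δ ≤ β.1 then H ⟨β.1 - δ, notMem_of_le tsub_le_self β.2⟩ ⟨0, z0⟩ else 0) -
    (if h : δ ∉ exps I then H β ⟨δ, h⟩ else 0)) := by
  refine ⟨fun β => ?_, fun δ a β => ?_⟩
  · beta_reduce
    have e : ∀ (hh : β.1 - 0 ∉ exps I), (⟨β.1 - 0, hh⟩ : Std I) = β := fun _ => Subtype.ext (tsub_zero _)
    rw [dif_pos (zero_le : (0 : Fin 3 →₀ ℕ) ≤ β.1), dif_pos z0, e]
    exact sub_self _
  · simp only [d0_apply, xm_mul_apply, mul_xm_apply]
    have hb : δ + ev a ≤ β.1 ↔ ev a ≤ β.1 ∧ δ ≤ β.1 - ev a :=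
      ⟨fun h => ⟨le_add_self.trans h, le_tsub_of_add_le_right h⟩, fun h => add_le_of_le_tsub_right_of_le h.1 h.2⟩
    by_cases h : ev a ≤ β.1
    · by_cases hδ : δ ∉ exps I
      · simp only [dif_pos h, dif_pos hδ]
        by_cases hle : δ ≤ β.1 - ev a
        · simp only [dif_pos hle, dif_pos (hb.2 ⟨h, hle⟩)]
          simp only [tsub_tsub, add_comm (ev a) δ]
          abel
        · simp only [dif_neg hle, dif_neg (fun h' => hle (hb.1 h').2)]
          abel
      · simp only [dif_pos h, dif_neg hδ]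
        have h1 : ¬ δ + ev a ∉ exps I := not_not.2 (exps_up (not_not.1 hδ) le_self_add)
        have h2 : ¬ δ + ev a ≤ β.1 := fun h' => β.2 (exps_up (not_not.1 hδ) (le_self_add.trans h'))
        have h3 : ¬ δ ≤ β.1 - ev a := fun h' => β.2 (exps_up (not_not.1 hδ) (h'.trans tsub_le_self))
        simp only [dif_neg h1, dif_neg h2, dif_neg h3]
        abel
    · simp only [dif_neg h, dif_neg (fun h' => h (hb.1 h').1)]
      by_cases hδ : δ ∉ exps I
      · simp only [dif_pos hδ]; abel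
      · simp only [dif_neg hδ]
        have h1 : ¬ δ + ev a ∉ exps I := not_not.2 (exps_up (not_not.1 hδ) le_self_add)
        simp only [dif_neg h1]; abel

theorem ker_Phi (P : Set (Fin 3 → ℤ)) :
    (LinearMap.ker (Phi z0 hI P)).map ((C1 I P).subtype ∘ₗ (LinearMap.ker (d1P I P)).subtype) =
      (sup I P).map (d0 I) := by
  classical
  ext w
  constructor
  · rintro ⟨u, hu, rfl⟩
    have hu1 : d1 I u.1.1 = 0 := congrArg Subtype.val (LinearMap.mem_ker.1 u.2)
    have hT : ∀ γ, γ ∈ exps I → ∀ β : Std I, Tv z0 u.1.1 γ β = 0 := fun γ hγ β => by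
      rw [← cf_Phi z0 hI P u γ hγ β, LinearMap.mem_ker.1 hu, LinearMap.zero_apply, map_zero]
    refine ⟨Matrix.of fun β γ => -(Tv z0 u.1.1 γ.1 β), fun β γ hd => ?_, ?_⟩
    · rw [Matrix.of_apply, Tv_deg z0 hu1 u.1.2 γ.1 β hd, neg_zero]
    · funext a
      ext β γ
      show _ = u.1.1 a β γ
      have hr := (rec_Tv z0 hu1).2 γ.1 a β
      rw [dif_pos γ.2] at hr
      simp only [Subtype.coe_eta] at hr
      rw [d0_apply, xm_mul_apply, mul_xm_apply]
      simp only [Matrix.of_apply]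
      by_cases h : γ.1 + ev a ∉ exps I
      · rw [dif_pos h]
        split_ifs at hr ⊢ <;> rw [hr] <;> ring
      · rw [dif_neg h, sub_zero]
        rw [hT _ (not_not.1 h)] at hr
        split_ifs at hr ⊢ <;> linear_combination hr
  · rintro ⟨H, hH, rfl⟩
    refine ⟨⟨⟨d0 I H, d0_mem hH⟩, LinearMap.mem_ker.2 (Subtype.ext (d1_comp_d0 H))⟩, ?_, rfl⟩
    refine LinearMap.mem_ker.2 (tgt_ext hI fun γ hγ => eq_of_cf hI fun β hβ => ?_)
    rw [LinearMap.zero_apply, map_zero]
    show cf hI (⟨β, hβ⟩ : Std I).1 _ = 0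
    rw [cf_Phi, (rec_Tv z0 (d1_comp_d0 H)).unique (rec_d0 z0 H)]
    simp only
    rw [dif_neg (fun h => hβ (exps_up hγ h)), dif_neg (not_not.2 hγ), sub_zero]

theorem range_Phi (P : Set (Fin 3 → ℤ)) : LinearMap.range (Phi z0 hI P) = TP hI P := by
  classical
  ext φ
  constructor
  · rintro ⟨u, rfl⟩ γ hγ β hβ hd
    show cf hI (⟨β, hβ⟩ : Std I).1 _ = 0
    rw [cf_Phi]
    exact Tv_deg z0 (congrArg Subtype.val (LinearMap.mem_ker.1 u.2)) u.1.2 γ _ hd
  · intro hφ
    let τ : (Fin 3 →₀ ℕ) → Std I → k := fun δ β => if h : δ ∈ exps I then cf hI β.1 (φ (gen δ h)) else 0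
    let w : Fin 3 → Matrix (Std I) (Std I) k := fun a => Matrix.of fun β γ => τ (γ.1 + ev a) β
    have hτ : ∀ (δ : Fin 3 →₀ ℕ) (a : Fin 3) (β : Std I), δ ∈ exps I → τ (δ + ev a) β =
        if h : ev a ≤ β.1 then τ δ ⟨β.1 - ev a, notMem_of_le tsub_le_self β.2⟩ else 0 := by
      intro δ a β hδ
      have hδ' : δ + ev a ∈ exps I := exps_up hδ le_self_add
      simp only [τ, dif_pos hδ, dif_pos hδ']
      rw [map_gen_of_le φ le_self_add hδ hδ', add_tsub_cancel_left]
      split_ifs with h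
      · have he : ev a + (β.1 - ev a) = β.1 := add_tsub_cancel_of_le h
        conv_lhs => rw [← he, cf_smul hI (by rw [he]; exact β.2)]
      · exact cf_smul_not_le hI h _
    have hrec : Rec w τ := by
      refine ⟨fun β => dif_neg z0, fun δ a β => ?_⟩
      by_cases hδ : δ ∈ exps I
      · rw [hτ δ a β hδ, dif_neg (not_not.2 hδ), add_zero]
      · simp only [w, Matrix.of_apply, dif_pos hδ, show ∀ β', τ δ β' = 0 from fun _ => dif_neg hδ]
        split_ifs <;> simp
    have hab : ∀ (a b : Fin 3) (β γ : Std I),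
        (xm I a * w b) β γ - (w b * xm I a) β γ = (xm I b * w a) β γ - (w a * xm I b) β γ := by
      intro a b β γ
      simp only [xm_mul_apply, mul_xm_apply, w, Matrix.of_apply]
      have e : γ.1 + ev a + ev b = γ.1 + ev b + ev a := add_right_comm _ _ _
      have z : ∀ δ : Fin 3 →₀ ℕ, δ ∉ exps I → ∀ β', τ δ β' = 0 := fun δ h _ => dif_neg h
      have A : ∀ a b : Fin 3, (if h : ev a ≤ β.1 then τ (γ.1 + ev b) ⟨β.1 - ev a, notMem_of_le tsub_le_self β.2⟩ else 0) =
          if γ.1 + ev b ∈ exps I then τ (γ.1 + ev b + ev a) β else 0 := fun a b => by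
        split_ifs with h1 h2 h2
        · rw [hτ _ a β h2, dif_pos h1]
        · exact z _ h2 _
        · rw [hτ _ a β h2, dif_neg h1]
        · rfl
      rw [A, A]
      split_ifs <;> (try simp only [e]) <;> abel
    have hw : d1 I w = 0 := by
      funext c; ext β γ
      show (xm I (c + 1) * w (c + 2)) β γ - (w (c + 2) * xm I (c + 1)) β γ -
        ((xm I (c + 2) * w (c + 1)) β γ - (w (c + 1) * xm I (c + 2)) β γ) = 0
      rw [hab (c + 1) (c + 2), sub_self]
    have hwP : w ∈ C1 I P := fun a _ β γ hd => by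
      simp only [w, τ, Matrix.of_apply]
      split_ifs with h
      · refine hφ _ h β.1 β.2 fun hc => hd ?_
        show cst β.1 - cst γ.1 - cst (ev a) ∈ P
        rw [cst_add] at hc
        rwa [sub_sub]
      · rfl
    refine ⟨⟨⟨w, hwP⟩, LinearMap.mem_ker.2 (Subtype.ext hw)⟩, tgt_ext hI fun γ hγ => eq_of_cf hI fun β hβ => ?_⟩
    show cf hI (⟨β, hβ⟩ : Std I).1 _ = cf hI β _
    rw [cf_Phi, (rec_Tv z0 hw).unique hrec]
    exact dif_pos hγ

include z0 in
theorem finrank_TP_add (P : Set (Fin 3 → ℤ)) :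
    Module.finrank k (TP hI P) + Module.finrank k ↥((sup I P).map (d0 I)) =
      Module.finrank k (LinearMap.ker (d1P I P)) := by
  have hinj : Function.Injective ((C1 I P).subtype ∘ₗ (LinearMap.ker (d1P I P)).subtype) :=
    Subtype.val_injective.comp Subtype.val_injective
  have h1 := LinearMap.finrank_range_add_finrank_ker (K := k) (V := LinearMap.ker (d1P I P)) (V₂ := Tgt I) (Phi z0 hI P)
  rw [range_Phi] at h1
  have h2 := (Submodule.equivMapOfInjective _ hinj (LinearMap.ker (Phi z0 hI P))).finrank_eq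
  rw [ker_Phi z0 hI P] at h2
  omega

theorem mem_Z0 {P : Set (Fin 3 → ℤ)} {H : Matrix (Std I) (Std I) k} :
    H ∈ Z0 I P ↔ H ∈ sup I P ∧ ∀ a, xm I a * H = H * xm I a := by
  simp only [Z0, Submodule.mem_inf, LinearMap.mem_ker, funext_iff]
  exact and_congr_right fun _ => forall_congr' fun a => sub_eq_zero

include z0 in
theorem finrank_Z0 (P : Set (Fin 3 → ℤ)) :
    Module.finrank k (Z0 I P) = Nat.card {β : Std I // cst β.1 ∈ P} := by
  classical
  have hcol : ∀ H ∈ Z0 I P, ∀ (δ : Fin 3 →₀ ℕ) (hδ : δ ∉ exps I) (β : Std I), H β ⟨δ, hδ⟩ =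
      if h : δ ≤ β.1 then H ⟨β.1 - δ, notMem_of_le tsub_le_self β.2⟩ ⟨0, z0⟩ else 0 := by
    intro H hH δ hδ β
    have h0 : d0 I H = 0 := (Submodule.mem_inf.1 hH).2
    have hu : d1 I (d0 I H) = 0 := d1_comp_d0 H
    have := congrFun (congrFun ((rec_d0 z0 H).unique (G' := fun _ _ => (0 : k))
      ⟨fun _ => rfl, fun δ a β => by rw [h0]; simp⟩) δ) β
    simp only [dif_pos hδ, sub_eq_zero] at this
    exact this.symm
  let e : Z0 I P →ₗ[k] ({β : Std I // cst β.1 ∈ P} → k) :=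
    { toFun := fun H β => H.1 β.1 ⟨0, z0⟩
      map_add' := fun _ _ => rfl
      map_smul' := fun _ _ => rfl }
  have hinj : Function.Injective e := by
    refine LinearMap.ker_eq_bot.1 ((LinearMap.ker_eq_bot').2 fun H hH => Subtype.ext ?_)
    have h0 : ∀ β : Std I, H.1 β ⟨0, z0⟩ = 0 := fun β => by
      by_cases hP : cst β.1 ∈ P
      · exact congrFun hH ⟨β, hP⟩
      · exact (Submodule.mem_inf.1 H.2).1 β ⟨0, z0⟩ (by rwa [cst_zero, sub_zero])
    ext β γ
    rw [hcol H.1 H.2 γ.1 γ.2 β]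
    split_ifs
    · exact h0 _
    · rfl
  have hsurj : Function.Surjective e := by
    intro v
    let v' : Std I → k := fun β => if h : cst β.1 ∈ P then v ⟨β, h⟩ else 0
    refine ⟨⟨Matrix.of fun β γ => if h : γ.1 ≤ β.1 then v' ⟨β.1 - γ.1, notMem_of_le tsub_le_self β.2⟩ else 0, ?_⟩, ?_⟩
    · rw [mem_Z0]
      refine ⟨fun β γ hd => ?_, fun a => ?_⟩
      · simp only [v', Matrix.of_apply]
        split_ifs with h1 h2
        · exact absurd (by rwa [cst_sub h1] at h2) hd
        · rfl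
        · rfl
      · ext β γ
        rw [xm_mul_apply, mul_xm_apply]
        simp only [Matrix.of_apply]
        have hb : γ.1 + ev a ≤ β.1 ↔ ev a ≤ β.1 ∧ γ.1 ≤ β.1 - ev a :=
          ⟨fun h => ⟨le_add_self.trans h, le_tsub_of_add_le_right h⟩,
            fun h => add_le_of_le_tsub_right_of_le h.1 h.2⟩
        by_cases hle : γ.1 + ev a ≤ β.1
        · rw [dif_pos (hb.1 hle).1, dif_pos (notMem_of_le hle β.2), dif_pos (hb.1 hle).2, dif_pos hle]
          simp only [tsub_tsub, add_comm (ev a) γ.1]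
        · split_ifs with h1 h2 <;> first | rfl | exact absurd (hb.2 ⟨h1, h2⟩) hle
    · funext β
      show (if h : (0 : Fin 3 →₀ ℕ) ≤ β.1.1 then v' ⟨β.1.1 - 0, _⟩ else 0) = v β
      rw [dif_pos zero_le]
      simp [v', β.2]
  rw [(LinearEquiv.ofBijective e ⟨hinj, hsurj⟩).finrank_eq, Module.finrank_fintype_fun_eq_card,
    Nat.card_eq_fintype_card]

omit [Fintype (Std I)] in
/-- Duality between the pieces of `Hom(I, S/I)` in a degree set periodic in one coordinate and in its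
reflection. -/
theorem finrank_iSup_tPiece_refl [Module.Finite k (MvPolynomial (Fin 3) k ⧸ I)] {P : Set (Fin 3 → ℤ)} (c : Fin 3)
    (hc : shf P (cst (ev c)) = P) (hI : IsMonomial I) :
    Module.finrank k ↥(⨆ α : P, tPiece I α.1) + Nat.card {β : Std I // cst β.1 ∈ refl' P} =
      Module.finrank k ↥(⨆ α : refl' P, tPiece I α.1) + Nat.card {β : Std I // cst β.1 ∈ P} := by
  classical
  by_cases z : (0 : Fin 3 →₀ ℕ) ∈ exps I
  · have hall : ∀ γ : Fin 3 →₀ ℕ, γ ∈ exps I := fun γ => exps_up z zero_le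
    haveI : IsEmpty (Std I) := ⟨fun β => β.2 (hall _)⟩
    haveI : Subsingleton (Tgt I) := ⟨fun a b => tgt_ext hI fun β hβ => eq_of_cf hI fun γ hγ => absurd (hall γ) hγ⟩
    simp [Module.finrank_zero_of_subsingleton]
  · haveI : Fintype (Std I) := (finite_compl_exps hI).fintype
    rw [iSup_tPiece_eq_TP hI, iSup_tPiece_eq_TP hI]
    have h1 := finrank_TP_add z hI P
    have h2 := finrank_TP_add z hI (refl' P)
    have h3 := finrank_cycles_add P c hc (I := I)
    have h4 := finrank_Z0 z (I := I) P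
    have h5 := finrank_Z0 z (I := I) (refl' P)
    omega

end Groth.Agent.HilbPnLib
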