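import Groth.Agent.HilbPnLib.Tgt

/-!
# The tangent module of a power of the ideal of variables
-/

set_option autoImplicit false

universe u

open MvPolynomial W4c1hilbpn

noncomputable section

namespace Groth.Agent.HilbPnLib

variable {n : ℕ} {k : Type u} [Field k]

variable (k n) in
/-- The power of the irrelevant ideal. -/
abbrev powVars (r : ℕ) : Ideal (MvPolynomial (Fin n) k) :=
  (Ideal.span (Set.range (X : Fin n → MvPolynomial (Fin n) k))) ^ r

theorem isMonomial_powVars (r : ℕ) : IsMonomial (powVars n k r) := fun p hp β hβ => by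
  rw [monomial_mem_pow_idealOfVars_iff r β one_ne_zero]
  exact (mem_pow_idealOfVars_iff r p).1 hp β hβ

theorem mem_exps_powVars {r : ℕ} {β : Fin n →₀ ℕ} : β ∈ exps (powVars n k r) ↔ r ≤ β.degree :=
  monomial_mem_pow_idealOfVars_iff r β one_ne_zero

theorem exists_le_degree {β : Fin n →₀ ℕ} {r : ℕ} (h : r ≤ β.degree) : ∃ b, b ≤ β ∧ b.degree = r := by
  induction r with
  | zero => exact ⟨0, by simp, by simp⟩
  | succ r ih =>
    obtain ⟨b, hb, hd⟩ := ih (by omega)
    obtain ⟨i, hi⟩ : ∃ i, b i < β i := by
      by_contra hc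
      push Not at hc
      have : b = β := le_antisymm hb hc
      subst this; omega
    refine ⟨b + Finsupp.single i 1, fun l => ?_, by rw [map_add, Finsupp.degree_single, hd]⟩
    rw [Finsupp.add_apply]
    rcases eq_or_ne i l with rfl | hl
    · rw [Finsupp.single_eq_same]; omega
    · rw [Finsupp.single_eq_of_ne hl.symm]; exact hb l

/-- Pairs (generator, standard monomial of top degree). -/
abbrev Pairs (n r : ℕ) := {p : (Fin n →₀ ℕ) × (Fin n →₀ ℕ) // p.1.degree = r ∧ p.2.degree + 1 = r}

instance (n r : ℕ) : Finite (Pairs n r) := by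
  have h : {p : Fin n →₀ ℕ | p.degree ≤ r}.Finite := Finsupp.finite_of_degree_le r
  exact ((h.prod h).subset fun p (hp : p.1.degree = r ∧ p.2.degree + 1 = r) =>
    ⟨show p.1.degree ≤ r by omega, show p.2.degree ≤ r by omega⟩).to_subtype

/-- The multidegree of a pair. -/
def pdeg {r : ℕ} (p : Pairs n r) : Fin n → ℤ := fun i => (p.1.2 i : ℤ) - p.1.1 i

open Classical in
/-- The homomorphism attached to a pair. -/
def pairHom {r : ℕ} (p : Pairs n r) : Tgt (powVars n k r) :=
  mkHom (isMonomial_powVars r) (fun β => if β = p.1.1 then mono _ p.1.2 else 0) (fun b hb δ => by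
    by_cases hd : δ = 0
    · subst hd; simp
    · have hdeg : δ.degree ≠ 0 := by rwa [ne_eq, Finsupp.degree_eq_zero_iff]
      rw [mem_exps_powVars] at hb
      have := p.2
      rw [if_neg fun he => by
        have h1 := congrArg Finsupp.degree he
        rw [map_add] at h1
        omega]
      split_ifs
      · rw [smul_mono, mono_eq_zero]
        rw [mem_exps_powVars, map_add]
        omega
      · rw [smul_zero])

theorem pairHom_mem {r : ℕ} (p : Pairs n r) : (pairHom p : Tgt (powVars n k r)) ∈ tPiece _ (pdeg p) := by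
  classical
  refine mem_tPiece (fun β hβ _ => ?_) (fun β hβ i hi => ?_)
  · rw [pairHom, mkHom_gen]
    split_ifs with h
    · subst h
      rw [show shift p.1.1 (pdeg p) = p.1.2 from shift_eq fun i => by simp [pdeg]]
      exact Submodule.mem_span_singleton_self _
    · exact Submodule.zero_mem _
  · rw [pairHom, mkHom_gen, if_neg]
    rintro rfl
    simp [pdeg] at hi
    omega

theorem cf_low_eq_zero (hn : 2 ≤ n) {r : ℕ} (φ : Tgt (powVars n k r)) {β γ : Fin n →₀ ℕ}
    (hβ : β.degree = r) (hγ : γ.degree + 1 < r) :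
    cf (isMonomial_powVars r) γ (φ (gen β (mem_exps_powVars.2 hβ.ge))) = 0 := by
  classical
  haveI : Nontrivial (Fin n) := Fin.nontrivial_iff_two_le.2 hn
  have hI := isMonomial_powVars (k := k) (n := n) r
  obtain ⟨i, hi⟩ : ∃ i, γ i < β i := by
    by_contra hc
    push Not at hc
    have := Finsupp.degree_mono hc
    omega
  suffices h : ∀ (m : ℕ) (β γ : Fin n →₀ ℕ) (hβ : β.degree = r), γ.degree + 1 < r → γ i < β i → γ i < m →
      cf hI γ (φ (gen β (mem_exps_powVars.2 hβ.ge))) = 0 from h (γ i + 1) β γ hβ hγ hi (by omega)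
  intro m
  induction m with
  | zero => intros; omega
  | succ m ih =>
    intro β γ hβ hγ hi hm
    obtain ⟨j, hij⟩ := exists_ne i
    let β' := β - Finsupp.single i 1 + Finsupp.single j 1
    have hib : Finsupp.single i 1 ≤ β := Finsupp.single_le_iff.2 (by omega)
    have he : Finsupp.single i 1 + β' = Finsupp.single j 1 + β := by
      simp only [β']
      rw [← add_assoc, add_tsub_cancel_of_le hib, add_comm]
    have hβ' : β'.degree = r := by
      have := congrArg Finsupp.degree he
      simp only [map_add, Finsupp.degree_single] at this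
      omega
    have e1 := map_gen_add φ (Finsupp.single j 1) (mem_exps_powVars.2 hβ.ge : β ∈ exps (powVars n k r))
    have e2 := map_gen_add φ (Finsupp.single i 1) (mem_exps_powVars.2 hβ'.ge : β' ∈ exps (powVars n k r))
    rw [show gen (Finsupp.single i 1 + β') _ = gen (Finsupp.single j 1 + β) (exps_up (mem_exps_powVars.2 hβ.ge : β ∈ exps (powVars n k r)) le_add_self)
      from Subtype.ext (by simp only [gen]; rw [he]), e1] at e2
    have hne : Finsupp.single j 1 + γ ∉ exps (powVars n k r) := by
      rw [mem_exps_powVars, map_add, Finsupp.degree_single]; omega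
    have h2 := congrArg (cf hI (Finsupp.single j 1 + γ)) e2
    rw [cf_smul hI hne] at h2
    rw [h2]
    by_cases hle : Finsupp.single i 1 ≤ Finsupp.single j 1 + γ
    · obtain ⟨γ', hγ'⟩ := le_iff_exists_add.1 hle
      rw [hγ', cf_smul hI (by rwa [← hγ'])]
      have hd := congrArg Finsupp.degree hγ'
      rw [map_add, map_add, Finsupp.degree_single, Finsupp.degree_single] at hd
      have hv := congrArg (fun f : Fin n →₀ ℕ => f i) hγ'
      simp only [Finsupp.add_apply, Finsupp.single_eq_same, Finsupp.single_eq_of_ne hij.symm] at hv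
      refine ih β' γ' hβ' (by omega) ?_ (by omega)
      simp only [β', Finsupp.add_apply, Finsupp.tsub_apply, Finsupp.single_eq_same, Finsupp.single_eq_of_ne hij.symm]
      omega
    · exact cf_smul_not_le hI hle _

variable (k) in
/-- The coefficient of a homomorphism at a pair. -/
def pcoef {r : ℕ} (p : Pairs n r) : Tgt (powVars n k r) →ₗ[k] k where
  toFun φ := cf (isMonomial_powVars r) p.1.2 (φ (gen p.1.1 (mem_exps_powVars.2 p.2.1.ge)))
  map_add' _ _ := by simp
  map_smul' _ _ := by simp

theorem pcoef_pairHom {r : ℕ} (p q : Pairs n r) :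
    pcoef k p (pairHom q) = if p = q then 1 else 0 := by
  classical
  show cf (isMonomial_powVars r) p.1.2 (pairHom q (gen p.1.1 _)) = _
  have hγ : p.1.2 ∉ exps (powVars n k r) := by
    rw [mem_exps_powVars]; have := p.2; omega
  rw [pairHom, mkHom_gen]
  rcases eq_or_ne p.1.1 q.1.1 with h | h
  · rw [if_pos h]
    rcases eq_or_ne p.1.2 q.1.2 with h' | h'
    · rw [if_pos (Subtype.ext (Prod.ext h h')), ← h', cf_mono_self _ hγ]
    · rw [if_neg fun e => h' (by rw [e]), cf_mono_ne _ h'.symm]
  · rw [if_neg h, if_neg fun e => h (by rw [e]), map_zero]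

theorem eq_sum_pairHom (hn : 2 ≤ n) {r : ℕ} (φ : Tgt (powVars n k r)) [Fintype (Pairs n r)] :
    φ = ∑ p : Pairs n r, pcoef k p φ • pairHom p := by
  classical
  have hI := isMonomial_powVars (k := k) (n := n) r
  refine tgt_ext hI fun β hβ => ?_
  obtain ⟨b, hb, hd⟩ := exists_le_degree (mem_exps_powVars.1 hβ)
  rw [map_gen_of_le φ hb (mem_exps_powVars.2 hd.ge) hβ, map_gen_of_le (∑ p, pcoef k p φ • pairHom p) hb (mem_exps_powVars.2 hd.ge) hβ]
  congr 1
  refine eq_of_cf hI fun γ hγ => ?_
  rw [mem_exps_powVars] at hγ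
  rw [LinearMap.sum_apply, map_sum]
  by_cases hg : γ.degree + 1 = r
  · rw [Finset.sum_eq_single ⟨(b, γ), hd, hg⟩]
    · rw [LinearMap.smul_apply, map_smul, pairHom, mkHom_gen, if_pos rfl, cf_mono_self _ (by rw [mem_exps_powVars]; omega),
        smul_eq_mul, mul_one]
      rfl
    · intro q _ hq
      rw [LinearMap.smul_apply, map_smul, pairHom, mkHom_gen]
      split_ifs with h
      · rw [cf_mono_ne _ fun h' => hq (Subtype.ext (Prod.ext h.symm h')), smul_zero]
      · rw [map_zero, smul_zero]
    · exact fun h => absurd (Finset.mem_univ _) h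
  · rw [Finset.sum_eq_zero]
    · exact cf_low_eq_zero hn φ hd (by omega)
    · intro q _
      rw [LinearMap.smul_apply, map_smul, pairHom, mkHom_gen]
      split_ifs with h
      · rw [cf_mono_ne _ fun h' => hg (by rw [← h']; exact q.2.2), smul_zero]
      · rw [map_zero, smul_zero]

theorem linearIndependent_pairHom (r : ℕ) :
    LinearIndependent k (pairHom : Pairs n r → Tgt (powVars n k r)) := by
  classical
  rw [linearIndependent_iff']
  intro s g hg i hi
  have := congrArg (pcoef k i) hg
  simpa [map_sum, map_smul, pcoef_pairHom, hi] using this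

theorem finrank_iSup_tPiece (hn : 2 ≤ n) (r : ℕ) (A : Set (Fin n → ℤ)) :
    Module.finrank k ↥(⨆ α : A, tPiece (powVars n k r) α.1) = Nat.card {p : Pairs n r // pdeg p ∈ A} := by
  classical
  haveI : Fintype (Pairs n r) := Fintype.ofFinite _
  have hI := isMonomial_powVars (k := k) (n := n) r
  have h : (⨆ α : A, tPiece (powVars n k r) α.1) =
      Submodule.span k (Set.range fun p : {p : Pairs n r // pdeg p ∈ A} => (pairHom p.1 : Tgt (powVars n k r))) := by
    refine le_antisymm (iSup_le fun α φ hφ => ?_) (Submodule.span_le.2 ?_)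
    · rw [eq_sum_pairHom hn φ]
      refine Submodule.sum_mem _ fun p _ => ?_
      by_cases hz : pcoef k p φ = 0
      · rw [hz, zero_smul]; exact Submodule.zero_mem _
      refine Submodule.smul_mem _ _ (Submodule.subset_span ⟨⟨p, ?_⟩, rfl⟩)
      suffices hp : pdeg p = α.1 by rw [hp]; exact α.2
      by_contra hne
      refine hz ?_
      show cf hI p.1.2 (φ (gen p.1.1 _)) = 0
      by_cases hnn : ∀ i, 0 ≤ (p.1.1 i : ℤ) + α.1 i
      · rw [apply_gen_of_mem hI hφ _ hnn, map_smul, cf_mono_ne, smul_zero]
        intro he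
        refine hne (_root_.funext fun i => ?_)
        have := shift_cast hnn i
        rw [he] at this
        simp [pdeg]; omega
      · push Not at hnn
        obtain ⟨i, hi⟩ := hnn
        rw [apply_gen_eq_zero hφ _ hi, map_zero]
    · rintro _ ⟨p, rfl⟩
      exact le_iSup (fun α : A => tPiece (powVars n k r) α.1) ⟨_, p.2⟩ (pairHom_mem p.1)
  have hli : LinearIndependent k (fun p : {p : Pairs n r // pdeg p ∈ A} => (pairHom p.1 : Tgt (powVars n k r))) :=
    (linearIndependent_pairHom r).comp _ Subtype.val_injective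
  rw [h, finrank_span_eq_card hli, Nat.card_eq_fintype_card]

theorem finrank_tgt (hn : 2 ≤ n) (r : ℕ) : Module.finrank k (Tgt (powVars n k r)) = Nat.card (Pairs n r) := by
  haveI : Fintype (Pairs n r) := Fintype.ofFinite _
  rw [Module.finrank_eq_card_basis (Module.Basis.mk (linearIndependent_pairHom r) (fun φ _ => by
    rw [eq_sum_pairHom hn φ]
    exact Submodule.sum_mem _ fun p _ => Submodule.smul_mem _ _ (Submodule.subset_span (Set.mem_range_self p)))),
    Nat.card_eq_fintype_card]

theorem card_sum_eq (n m : ℕ) : Nat.card {f : Fin n → ℕ // ∑ i, f i = m} = Nat.multichoose n m := by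
  rw [Nat.card_congr (Sym.equivNatSumOfFintype (Fin n) m).symm, Nat.card_eq_fintype_card,
    Sym.card_sym_eq_multichoose, Fintype.card_fin]

/-- Finsupps of given degree as functions. -/
def degEquiv (n r : ℕ) : {b : Fin n →₀ ℕ // b.degree = r} ≃ {f : Fin n → ℕ // ∑ i, f i = r} :=
  Finsupp.equivFunOnFinite.subtypeEquiv fun b => by rw [Finsupp.degree_eq_sum]; rfl

theorem card_deg_eq (n r : ℕ) : Nat.card {b : Fin n →₀ ℕ // b.degree = r} = Nat.multichoose n r := by
  rw [Nat.card_congr (degEquiv n r), card_sum_eq]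

end Groth.Agent.HilbPnLib
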