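import Groth.Agent.HilbPnLib.DualityCor
import Groth.Agent.HilbPnLib.Stair

/-!
# `dim T(I) ≤ (2p+1) d` for a monomial ideal containing `x^p`
-/

set_option autoImplicit false

universe u

open MvPolynomial W4c1hilbpn

noncomputable section

namespace Groth.Agent.HilbPnLib

variable {k : Type u} [Field k]

local notation "R₂" => MvPolynomial (Fin 2) k

/-- Monomials in two variables. -/
def e2 (a b : ℕ) : Fin 2 →₀ ℕ := Finsupp.single 0 a + Finsupp.single 1 b

theorem e2_apply (a b : ℕ) : e2 a b 0 = a ∧ e2 a b 1 = b := by simp [e2]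

theorem eq_e2 (β : Fin 2 →₀ ℕ) : e2 (β 0) (β 1) = β := by ext i; fin_cases i <;> simp [e2]

/-- `dim Hom(I, R/J) ≤ dim R/I + dim R/J` in two variables, for a monomial ideal `I`. -/
theorem finrank_hom2_le {I J : Ideal (MvPolynomial (Fin 2) k)} (hI : IsMonomial I)
    [Module.Finite k (MvPolynomial (Fin 2) k ⧸ I)] [Module.Finite k (MvPolynomial (Fin 2) k ⧸ J)] :
    Module.Finite k (↥I →ₗ[MvPolynomial (Fin 2) k] (MvPolynomial (Fin 2) k ⧸ J)) ∧
      Module.finrank k (↥I →ₗ[MvPolynomial (Fin 2) k] (MvPolynomial (Fin 2) k ⧸ J)) ≤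
        Module.finrank k (MvPolynomial (Fin 2) k ⧸ I) + Module.finrank k (MvPolynomial (Fin 2) k ⧸ J) := by
  classical
  obtain ⟨n, hn⟩ := exists_single_mem hI (0 : Fin 2)
  obtain ⟨N, hN⟩ := exists_single_mem hI (1 : Fin 2)
  have hex : ∀ l, ∃ c, e2 l c ∈ exps I := fun l =>
    ⟨N, exps_up hN fun i => by fin_cases i <;> simp [e2]⟩
  let c : ℕ → ℕ := fun l => Nat.find (hex l)
  have hc : ∀ l, e2 l (c l) ∈ exps I := fun l => Nat.find_spec (hex l)
  have hcn : c n = 0 := (Nat.find_eq_zero (hex n)).2 (by simpa [e2] using hn)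
  have hanti : ∀ l, c (l + 1) ≤ c l := fun l =>
    Nat.find_min' (hex (l + 1)) (exps_up (hc l) fun i => by fin_cases i <;> simp [e2])
  let d : ℕ → ℕ := fun l => c l - c (l + 1)
  let g : ℕ → I := fun l => ⟨monomial (e2 l (c l)) 1, hc l⟩
  let Y : R₂ := monomial (e2 1 0) 1
  let Z : ℕ → R₂ := fun a => monomial (e2 0 a) 1
  have hmm : ∀ a b a' b' : ℕ, (monomial (e2 a b) (1 : k)) * monomial (e2 a' b') 1 = monomial (e2 (a + a') (b + b')) 1 :=
    fun a b a' b' => by
      rw [monomial_mul, mul_one]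
      congr 2
      ext i; fin_cases i <;> simp [e2]
  have hrel : ∀ l, Y • g l = Z (d l) • g (l + 1) := fun l => Subtype.ext (by
    show Y * monomial (e2 l (c l)) 1 = Z (d l) * monomial (e2 (l + 1) (c (l + 1))) 1
    rw [hmm, hmm]
    have := hanti l
    rw [show 1 + l = 0 + (l + 1) by omega, show 0 + c l = d l + c (l + 1) by simp only [d]; omega])
  let ev : (↥I →ₗ[R₂] (R₂ ⧸ J)) →ₗ[k] (Fin (n + 1) → R₂ ⧸ J) :=
    { toFun := fun φ l => φ (g l.1)
      map_add' := fun _ _ => rfl
      map_smul' := fun _ _ => rfl }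
  have hinj : Function.Injective ev := by
    rw [injective_iff_map_eq_zero]
    intro φ hφ
    refine LinearMap.ext fun ⟨p, hp⟩ => ?_
    have key : ∀ β : Fin 2 →₀ ℕ, ∀ hβ : β ∈ exps I, φ ⟨monomial β 1, hβ⟩ = 0 := fun β hβ => by
      set l := min (β 0) n with hl
      have h1 : c l ≤ β 1 := by
        rcases le_total (β 0) n with h | h
        · rw [hl, min_eq_left h]; exact Nat.find_min' (hex _) (by rwa [eq_e2])
        · rw [hl, min_eq_right h, hcn]; exact Nat.zero_le _
      have e : (⟨monomial β 1, hβ⟩ : I) = monomial (e2 (β 0 - l) (β 1 - c l)) (1 : k) • g l := Subtype.ext (by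
        show monomial β (1 : k) = monomial (e2 (β 0 - l) (β 1 - c l)) 1 * monomial (e2 l (c l)) 1
        rw [hmm, show β 0 - l + l = β 0 by omega, show β 1 - c l + c l = β 1 by omega, eq_e2])
      rw [e, map_smul, show φ (g l) = 0 from congrFun hφ ⟨l, by omega⟩, smul_zero]
    have e : (⟨p, hp⟩ : I) = ∑ β ∈ p.support.attach, (C (p.coeff β.1) : R₂) • (⟨monomial β.1 1, hI p hp β.1 β.2⟩ : I) := by
      refine Subtype.ext ?_
      rw [Submodule.coe_sum]
      simp only [SetLike.val_smul, smul_eq_mul, C_mul_monomial, mul_one]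
      rw [Finset.sum_attach p.support (fun β => monomial β (p.coeff β)), ← p.as_sum]
    rw [e, map_sum, LinearMap.zero_apply]
    exact Finset.sum_eq_zero fun β _ => by rw [map_smul, key β.1 (hI p hp β.1 β.2), smul_zero]
  let M : (Fin (n + 1) → R₂ ⧸ J) →ₗ[k] (Fin n → R₂ ⧸ J) :=
    { toFun := fun u l => Y • u l.castSucc - Z (d l.1) • u l.succ
      map_add' := fun u v => funext fun l => by simp only [Pi.add_apply, smul_add]; abel
      map_smul' := fun a u => funext fun l => by
        simp only [Pi.smul_apply, RingHom.id_apply, smul_sub, smul_comm a Y, smul_comm a (Z (d l.1))] }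
  have hker : ∀ φ, ev φ ∈ LinearMap.ker M := fun φ => LinearMap.mem_ker.2 (funext fun l => by
    show Y • φ (g l.1) - Z (d l.1) • φ (g (l.1 + 1)) = 0
    rw [← map_smul, ← map_smul, hrel, sub_self])
  -- the cokernel of `M`
  let J' := Σ l : Fin n, Fin (c l.1)
  let b : J' → (Fin n → R₂ ⧸ J) := fun p => Pi.single p.1 (Ideal.Quotient.mk J (monomial (e2 0 p.2.1) 1))
  let W := LinearMap.range M ⊔ Submodule.span k (Set.range b)
  let s : Fin n → ℕ → ℕ → (Fin n → R₂ ⧸ J) := fun l a e => Pi.single l (Ideal.Quotient.mk J (monomial (e2 a e) 1))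
  -- moving along a relation
  have hmove : ∀ (l : Fin (n + 1)) (a e : ℕ), M (Pi.single l (Ideal.Quotient.mk J (monomial (e2 a e) 1))) =
      (if h : l.1 < n then s ⟨l.1, h⟩ (a + 1) e else 0) -
        (if h : 1 ≤ l.1 then s ⟨l.1 - 1, by omega⟩ a (d (l.1 - 1) + e) else 0) := by
    intro l a e
    funext m
    show Y • (Pi.single l (Ideal.Quotient.mk J (monomial (e2 a e) 1)) : Fin (n + 1) → R₂ ⧸ J) m.castSucc -
      Z (d m.1) • (Pi.single l (Ideal.Quotient.mk J (monomial (e2 a e) 1)) : Fin (n + 1) → R₂ ⧸ J) m.succ = _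
    have hY : Y • Ideal.Quotient.mk J (monomial (e2 a e) 1) = Ideal.Quotient.mk J (monomial (e2 (a + 1) e) 1) := by
      show Ideal.Quotient.mk J (Y * monomial (e2 a e) 1) = _
      rw [hmm, zero_add, add_comm 1 a]
    have hZ : ∀ q, Z q • Ideal.Quotient.mk J (monomial (e2 a e) 1) = Ideal.Quotient.mk J (monomial (e2 a (q + e)) 1) := fun q => by
      show Ideal.Quotient.mk J (Z q * monomial (e2 a e) 1) = _
      rw [hmm, zero_add]
    rw [Pi.sub_apply]
    congr 1
    · rcases eq_or_ne m.castSucc l with h | h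
      · subst h
        rw [Pi.single_eq_same, dif_pos (by simp), hY]
        simp [s]
      · rw [Pi.single_eq_of_ne h, smul_zero]
        split_ifs with h'
        · simp only [s]
          rw [Pi.single_eq_of_ne]
          exact fun e => h (Fin.ext (by rw [e]; rfl))
        · rfl
    · rcases eq_or_ne m.succ l with h | h
      · subst h
        rw [Pi.single_eq_same, dif_pos (by simp), hZ]
        simp [s]
      · rw [Pi.single_eq_of_ne h, smul_zero]
        split_ifs with h'
        · simp only [s]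
          rw [Pi.single_eq_of_ne]
          exact fun e => h (Fin.ext (by rw [e]; simp; omega))
        · rfl
  have hbig : ∀ (t : ℕ) (l : Fin n) (a e : ℕ), l.1 + t + 1 = n → c l.1 ≤ e → s l a e ∈ W := by
    intro t
    induction t with
    | zero =>
      intro l a e hl he
      have := hmove ⟨n, Nat.lt_succ_self n⟩ a (e - d (n - 1))
      rw [dif_neg (lt_irrefl n), dif_pos (show 1 ≤ n by omega), zero_sub] at this
      have hl' : (⟨n - 1, by omega⟩ : Fin n) = l := Fin.ext (by simp; omega)
      simp only [hl'] at this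
      have hd : d (n - 1) + (e - d (n - 1)) = e := by
        have h1 : d (n - 1) = c l.1 := by
          simp only [d]
          rw [show n - 1 = l.1 by omega, show l.1 + 1 = n by omega, hcn, Nat.sub_zero]
        omega
      rw [hd] at this
      have hm : M (Pi.single (⟨n, Nat.lt_succ_self n⟩ : Fin (n + 1)) (Ideal.Quotient.mk J (monomial (e2 a (e - d (n - 1))) 1))) ∈ W :=
        Submodule.mem_sup_left ⟨_, rfl⟩
      rw [this] at hm
      simpa using W.neg_mem hm
    | succ t ih =>
      intro l a e hl he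
      have hlt : l.1 + 1 < n := by omega
      have := hmove ⟨l.1 + 1, by omega⟩ a (e - d l.1)
      rw [dif_pos hlt, dif_pos (Nat.le_add_left 1 l.1)] at this
      simp only [Nat.add_sub_cancel, Fin.eta] at this
      have := hanti l.1
      rw [show d l.1 + (e - d l.1) = e by simp only [d]; omega] at *
      have hm : M (Pi.single (⟨l.1 + 1, by omega⟩ : Fin (n + 1)) (Ideal.Quotient.mk J (monomial (e2 a (e - d l.1)) 1))) ∈ W :=
        Submodule.mem_sup_left ⟨_, rfl⟩
      rw [‹M _ = _›] at hm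
      have h1 : s ⟨l.1 + 1, hlt⟩ (a + 1) (e - d l.1) ∈ W := ih _ _ _ (by simp; omega) (by simp [d]; omega)
      simpa using W.sub_mem h1 hm
  have hall : ∀ (a : ℕ) (l : Fin n) (e : ℕ), s l a e ∈ W := by
    intro a
    induction a with
    | zero =>
      intro l e
      by_cases he : c l.1 ≤ e
      · exact hbig (n - l.1 - 1) l 0 e (by omega) he
      · exact Submodule.mem_sup_right (Submodule.subset_span ⟨⟨l, ⟨e, by omega⟩⟩, rfl⟩)
    | succ a ih =>
      intro l e
      have := hmove ⟨l.1, by omega⟩ a e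
      rw [dif_pos l.2] at this
      simp only [Fin.eta] at this
      have hm : M (Pi.single (⟨l.1, by omega⟩ : Fin (n + 1)) (Ideal.Quotient.mk J (monomial (e2 a e) 1))) ∈ W :=
        Submodule.mem_sup_left ⟨_, rfl⟩
      rw [this] at hm
      have hrest : (if h : 1 ≤ l.1 then s ⟨l.1 - 1, by omega⟩ a (d (l.1 - 1) + e) else 0) ∈ W := by
        split_ifs
        · exact ih _ _
        · exact W.zero_mem
      simpa using W.add_mem hm hrest
  have htop : W = ⊤ := by
    refine eq_top_iff.2 fun u _ => ?_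
    rw [← Finset.univ_sum_single u]
    refine Submodule.sum_mem _ fun l _ => ?_
    obtain ⟨p, hp⟩ := Ideal.Quotient.mk_surjective (u l)
    rw [← hp, p.as_sum, map_sum, show (Pi.single l (∑ x ∈ p.support, Ideal.Quotient.mk J (monomial x (p.coeff x))) : Fin n → R₂ ⧸ J) =
      ∑ x ∈ p.support, Pi.single l (Ideal.Quotient.mk J (monomial x (p.coeff x))) from
        map_sum (AddMonoidHom.single (fun _ : Fin n => R₂ ⧸ J) l) _ _]
    refine Submodule.sum_mem _ fun x _ => ?_
    rw [show monomial x (p.coeff x) = (p.coeff x) • monomial (e2 (x 0) (x 1)) (1 : k) by rw [eq_e2, smul_monomial, smul_eq_mul, mul_one],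
      show Ideal.Quotient.mk J (p.coeff x • monomial (e2 (x 0) (x 1)) (1 : k)) = p.coeff x • Ideal.Quotient.mk J (monomial (e2 (x 0) (x 1)) 1) from rfl,
      Pi.single_smul]
    exact W.smul_mem _ (hall _ _ _)
  have hJ' : Nat.card J' ≤ Module.finrank k (R₂ ⧸ I) := by
    haveI : Fintype {γ : Fin 2 →₀ ℕ // γ ∉ exps I} := (finite_compl_exps hI).fintype
    let f : J' → {γ : Fin 2 →₀ ℕ // γ ∉ exps I} := fun p => ⟨e2 p.1.1 p.2.1, Nat.find_min (hex p.1.1) p.2.2⟩
    have hf : Function.Injective f := by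
      rintro ⟨l, e⟩ ⟨l', e'⟩ h
      have h0 : l.1 = l'.1 := by simpa [f, e2] using congrArg (fun x : {γ : Fin 2 →₀ ℕ // γ ∉ exps I} => x.1 0) h
      have h1 : e.1 = e'.1 := by simpa [f, e2] using congrArg (fun x : {γ : Fin 2 →₀ ℕ // γ ∉ exps I} => x.1 1) h
      obtain rfl := Fin.ext h0
      obtain rfl := Fin.ext h1
      rfl
    refine (Nat.card_le_card_of_injective f hf).trans (le_of_eq ?_)
    rw [← card_compl_exps hI]
    exact Nat.card_eq_card_finite_toFinset (finite_compl_exps hI)
  have hrange : n * Module.finrank k (R₂ ⧸ J) ≤ Module.finrank k (LinearMap.range M) + Nat.card J' := by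
    have h := Submodule.finrank_add_le_finrank_add_finrank (LinearMap.range M) (Submodule.span k (Set.range b))
    rw [show LinearMap.range M ⊔ Submodule.span k (Set.range b) = ⊤ from htop, finrank_top, Module.finrank_pi_fintype,
      Finset.sum_const, Finset.card_fin, smul_eq_mul] at h
    refine h.trans (Nat.add_le_add_left ?_ _)
    rw [Nat.card_eq_fintype_card]
    exact finrank_range_le_card b
  have hrn := M.finrank_range_add_finrank_ker
  rw [Module.finrank_pi_fintype, Finset.sum_const, Finset.card_fin, smul_eq_mul, add_mul, one_mul] at hrn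
  let ev' : (↥I →ₗ[R₂] (R₂ ⧸ J)) →ₗ[k] LinearMap.ker M := ev.codRestrict _ hker
  have hinj' : Function.Injective ev' := fun φ ψ h => hinj (congrArg Subtype.val h)
  refine ⟨Module.Finite.of_injective ev' hinj', ?_⟩
  have := LinearMap.finrank_le_finrank_of_injective hinj'
  omega


section slices

variable {I : Ideal (MvPolynomial (Fin 3) k)}

/-- The coefficient of `x^i`, read in `R/I_i`. -/
def coef (hI : IsMonomial I) (i : ℕ) : (MvPolynomial (Fin 3) k ⧸ I) →ₗ[k] R₂ ⧸ sliceX I i :=
  (Submodule.liftQ (I.restrictScalars k)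
    ((Ideal.Quotient.mkₐ k (sliceX I i)).toLinearMap ∘ₗ ((Polynomial.lcoeff R₂ i).restrictScalars k) ∘ₗ
      (finSuccEquiv k 2).toLinearMap) fun p hp => LinearMap.mem_ker.2 <| Ideal.Quotient.eq_zero_iff_mem.2 <|
        mem_of_support fun γ hγ => by
          have h : γ.cons i ∈ p.support := mem_support_iff.2 (by
            rw [← finSuccEquiv_coeff_coeff]; exact mem_support_iff.1 hγ)
          rw [mem_exps_sliceX, show e3 i (γ 0) (γ 1) = γ.cons i by
            ext l; fin_cases l <;> simp [e3]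
            · exact (Finsupp.cons_succ (0 : Fin 2) i γ).symm
            · exact (Finsupp.cons_succ (1 : Fin 2) i γ).symm]
          exact hI p hp _ h) ∘ₗ (Submodule.Quotient.restrictScalarsEquiv k I).symm.toLinearMap

theorem coef_mk (hI : IsMonomial I) (i : ℕ) (p : MvPolynomial (Fin 3) k) :
    coef hI i (Ideal.Quotient.mk I p) = Ideal.Quotient.mk (sliceX I i) ((finSuccEquiv k 2 p).coeff i) := rfl

theorem finSuccEquiv_rename_succ (r : R₂) : finSuccEquiv k 2 (rename Fin.succ r) = Polynomial.C r := by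
  induction r using MvPolynomial.induction_on with
  | C a => rw [rename_C, finSuccEquiv_apply, eval₂Hom_C]; rfl
  | add p q hp hq => rw [map_add, map_add, hp, hq, map_add]
  | mul_X p j hp => rw [map_mul, map_mul, hp, rename_X, finSuccEquiv_X_succ, map_mul]

theorem coef_smul (hI : IsMonomial I) (i : ℕ) (r : R₂) (m : MvPolynomial (Fin 3) k ⧸ I) :
    coef hI i (rename Fin.succ r • m) = r • coef hI i m := by
  obtain ⟨p, rfl⟩ := Ideal.Quotient.mk_surjective m
  rw [show rename Fin.succ r • Ideal.Quotient.mk I p = Ideal.Quotient.mk I (rename Fin.succ r * p) from rfl,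
    coef_mk, coef_mk, map_mul, finSuccEquiv_rename_succ, Polynomial.coeff_C_mul]
  rfl

theorem coef_mono (hI : IsMonomial I) (i : ℕ) (γ : Fin 3 →₀ ℕ) :
    coef hI i (mono I γ) = if γ 0 = i then mono (sliceX I i) (e2 (γ 1) (γ 2)) else 0 := by
  rw [mono, coef_mk]
  have h : ∀ η : Fin 2 →₀ ℕ, ((finSuccEquiv k 2 (monomial γ (1 : k))).coeff i).coeff η =
      if γ 0 = i ∧ e2 (γ 1) (γ 2) = η then 1 else 0 := fun η => by
    rw [finSuccEquiv_coeff_coeff, coeff_monomial]
    refine if_congr ⟨?_, ?_⟩ rfl rfl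
    · rintro rfl
      refine ⟨Finsupp.cons_zero i η, ?_⟩
      ext l; fin_cases l <;> simp [e2]
      · exact Finsupp.cons_succ (0 : Fin 2) i η
      · exact Finsupp.cons_succ (1 : Fin 2) i η
    · rintro ⟨h0, rfl⟩
      ext l; fin_cases l <;> simp [e2, h0]
      · exact ((Finsupp.cons_succ (0 : Fin 2) i _).trans (e2_apply (γ 1) (γ 2)).1).symm
      · exact ((Finsupp.cons_succ (1 : Fin 2) i _).trans (e2_apply (γ 1) (γ 2)).2).symm
  split_ifs with h0
  · refine congrArg (Ideal.Quotient.mk (sliceX I i)) (MvPolynomial.ext _ _ fun η => ?_)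
    rw [h, coeff_monomial]; simp [h0]
  · rw [show (finSuccEquiv k 2 (monomial γ (1 : k))).coeff i = 0 from MvPolynomial.ext _ _ fun η => by
      rw [h, if_neg fun hh => h0 hh.1, coeff_zero], map_zero]

variable [Module.Finite k (MvPolynomial (Fin 3) k ⧸ I)]

theorem finite_slice (hI : IsMonomial I) (i : ℕ) : Module.Finite k (R₂ ⧸ sliceX I i) := by
  refine Module.Finite.of_surjective (coef hI i) fun m => ?_
  obtain ⟨p, rfl⟩ := Ideal.Quotient.mk_surjective m
  refine ⟨Ideal.Quotient.mk I (rename Fin.succ p * X 0 ^ i), ?_⟩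
  rw [coef_mk, map_mul, finSuccEquiv_rename_succ, map_pow, finSuccEquiv_X_zero, Polynomial.coeff_C_mul,
    Polynomial.coeff_X_pow_self, mul_one]

theorem finrank_slices_le (hI : IsMonomial I) (s : Finset ℕ) :
    ∑ i ∈ s, Module.finrank k (R₂ ⧸ sliceX I i) ≤ Module.finrank k (MvPolynomial (Fin 3) k ⧸ I) := by
  classical
  haveI : ∀ i, Module.Finite k (R₂ ⧸ sliceX I i) := finite_slice hI
  rw [← Finset.sum_congr rfl fun i _ => card_compl_exps (isMonomial_sliceX hI i), ← card_compl_exps hI, ← Finset.card_sigma]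
  refine Finset.card_le_card_of_injOn (fun q => e3 q.1 (q.2 0) (q.2 1)) (fun q hq => ?_) ?_
  · simp only [Finset.mem_coe, Finset.mem_sigma, Set.Finite.mem_toFinset] at hq ⊢
    exact fun h => hq.2 (mem_exps_sliceX.2 h)
  · rintro ⟨i, γ⟩ _ ⟨i', γ'⟩ _ h
    have h0 : i = i' := by simpa [e3] using congrArg (fun x : Fin 3 →₀ ℕ => x 0) h
    subst h0
    have h1 : γ 0 = γ' 0 := by simpa [e3] using congrArg (fun x : Fin 3 →₀ ℕ => x 1) h
    have h2 : γ 1 = γ' 1 := by simpa [e3] using congrArg (fun x : Fin 3 →₀ ℕ => x 2) h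
    obtain rfl : γ = γ' := by rw [← eq_e2 γ, ← eq_e2 γ', h1, h2]
    rfl

/-- Degrees negative in the first variable. -/
def negX : Set (Fin 3 → ℤ) := {α | α 0 < 0}

theorem finrank_negX_le (hI : IsMonomial I) {p : ℕ} (hp : Finsupp.single 0 p ∈ exps I) :
    Module.finrank k (TP hI negX) ≤ p * Module.finrank k (MvPolynomial (Fin 3) k ⧸ I) := by
  classical
  haveI : ∀ i, Module.Finite k (R₂ ⧸ sliceX I i) := finite_slice hI
  let T := Σ j : Fin (p + 1), Fin j.1
  haveI : ∀ t : T, Module.Finite k (↥(sliceX I t.1.1) →ₗ[R₂] R₂ ⧸ sliceX I t.2.1) := fun t =>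
    (finrank_hom2_le (isMonomial_sliceX hI _)).1
  let Φ : Tgt I →ₗ[k] Π t : T, (↥(sliceX I t.1.1) →ₗ[R₂] R₂ ⧸ sliceX I t.2.1) :=
    { toFun := fun φ t =>
        { toFun := fun f => coef hI t.2.1 (φ ⟨rename Fin.succ f.1 * X 0 ^ t.1.1, mem_sliceX.1 f.2⟩)
          map_add' := fun f g => by
            rw [← map_add, ← map_add]
            congr 2
            exact Subtype.ext (by simp [add_mul])
          map_smul' := fun r f => by
            rw [RingHom.id_apply, ← coef_smul, ← map_smul]
            congr 2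
            exact Subtype.ext (by simp [mul_assoc]) }
      map_add' := fun φ ψ => funext fun t => LinearMap.ext fun f => by simp
      map_smul' := fun c φ => funext fun t => LinearMap.ext fun f => by simp }
  have hinj : Function.Injective (Φ ∘ₗ (TP hI negX).subtype) := by
    rw [injective_iff_map_eq_zero]
    intro φ hφ
    refine Subtype.ext (tgt_ext hI fun β hβ => ?_)
    rw [ZeroMemClass.coe_zero, LinearMap.zero_apply]
    have key : ∀ β : Fin 3 →₀ ℕ, ∀ hβ : β ∈ exps I, β 0 ≤ p → φ.1 (gen β hβ) = 0 := fun β hβ hle => by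
      refine eq_of_cf hI fun γ hγ => ?_
      rw [map_zero]
      by_cases hlt : γ 0 < β 0
      · have hf : monomial (e2 (β 1) (β 2)) (1 : k) ∈ sliceX I (β 0) := by
          show e2 (β 1) (β 2) ∈ exps (sliceX I (β 0))
          rw [mem_exps_sliceX, (e2_apply _ _).1, (e2_apply _ _).2, ← eq_e3]; exact hβ
        have := LinearMap.congr_fun (congrFun hφ ⟨⟨β 0, by omega⟩, ⟨γ 0, hlt⟩⟩) ⟨_, hf⟩
        replace this : coef hI (γ 0) (φ.1 ⟨rename Fin.succ (monomial (e2 (β 1) (β 2)) (1 : k)) * X 0 ^ (β 0), (mem_sliceX (I := I)).1 hf⟩) = 0 := this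
        rw [show (⟨rename Fin.succ (monomial (e2 (β 1) (β 2)) (1 : k)) * X 0 ^ (β 0), (mem_sliceX (I := I)).1 hf⟩ : I) = gen β hβ from
          Subtype.ext (by
            show rename Fin.succ (monomial (e2 (β 1) (β 2)) (1 : k)) * X 0 ^ (β 0) = monomial β 1
            rw [rename_monomial, X_pow_eq_monomial, monomial_mul, mul_one, mapDomain_succ_add, (e2_apply _ _).1, (e2_apply _ _).2, ← eq_e3])] at this
        have hnot : e2 (γ 1) (γ 2) ∉ exps (sliceX I (γ 0)) := by
          rw [mem_exps_sliceX, (e2_apply _ _).1, (e2_apply _ _).2, ← eq_e3]; exact hγ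
        have h2 : cf (isMonomial_sliceX hI (γ 0)) (e2 (γ 1) (γ 2)) (coef hI (γ 0) (φ.1 (gen β hβ))) = cf hI γ (φ.1 (gen β hβ)) := by
          obtain ⟨q, hq⟩ := Ideal.Quotient.mk_surjective (φ.1 (gen β hβ))
          rw [← hq, coef_mk, cf_mk _ hnot, cf_mk _ hγ, finSuccEquiv_coeff_coeff]
          congr 1
          ext l; fin_cases l <;> simp [e2]
          · exact (Finsupp.cons_succ (0 : Fin 2) (γ 0) _).trans (by simp [e2])
          · exact (Finsupp.cons_succ (1 : Fin 2) (γ 0) _).trans (by simp [e2])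
        rw [← h2, this, map_zero]
      · exact φ.2 β hβ γ hγ fun h => hlt (by simp [negX, cst] at h; omega)
    rcases le_total (β 0) p with h | h
    · exact key β hβ h
    · rw [map_gen_of_le φ.1 (Finsupp.single_le_iff.2 h) hp hβ, key _ hp (by simp), smul_zero]
  refine (LinearMap.finrank_le_finrank_of_injective hinj).trans ?_
  haveI : ∀ t : T, Module.Free k (↥(sliceX I t.1.1) →ₗ[R₂] R₂ ⧸ sliceX I t.2.1) := fun t => Module.Free.of_divisionRing k _
  rw [Module.finrank_pi_fintype]
  refine (Finset.sum_le_sum fun t _ => (finrank_hom2_le (isMonomial_sliceX hI _)).2).trans ?_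
  rw [Fintype.sum_sigma]
  have key : ∀ n : ℕ, ∑ j : Fin (n + 1), ∑ i : Fin j.1, (Module.finrank k (R₂ ⧸ sliceX I j.1) + Module.finrank k (R₂ ⧸ sliceX I i.1)) =
      n * ∑ i ∈ Finset.range (n + 1), Module.finrank k (R₂ ⧸ sliceX I i) := by
    intro n
    induction n with
    | zero => simp
    | succ n ih =>
      rw [Fin.sum_univ_castSucc]
      simp only [Fin.val_castSucc, Fin.val_last]
      rw [ih, Finset.sum_add_distrib, Finset.sum_const, Finset.card_fin, smul_eq_mul,
        Fin.sum_univ_eq_sum_range (fun i => Module.finrank k (R₂ ⧸ sliceX I i)) (n + 1),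
        Finset.sum_range_succ _ (n + 1)]
      ring
  rw [key]
  exact Nat.mul_le_mul_left p (finrank_slices_le hI _)

theorem finrank_tgt_le_of_single_mem (hI : IsMonomial I) {p : ℕ} (hp : Finsupp.single 0 p ∈ exps I) :
    Module.finrank k (Tgt I) ≤ (2 * p + 1) * Module.finrank k (MvPolynomial (Fin 3) k ⧸ I) := by
  rw [add_mul, mul_assoc, one_mul]
  have h := finrank_negX_le hI hp
  have hA : refl' negX = {α : Fin 3 → ℤ | 0 ≤ α 0} := by
    ext α; simp [refl', negX]; omega
  have htot : Module.finrank k (Tgt I) = Module.finrank k (TP hI negX) + Module.finrank k (TP hI (refl' negX)) := by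
    rw [← finrank_TP_union hI (Set.disjoint_left.2 fun α h1 h2 => by rw [hA] at h2; simp only [negX, Set.mem_setOf_eq] at h1 h2; omega),
      show negX ∪ refl' negX = Set.univ by rw [hA]; ext α; simp [negX, lt_or_ge],
      show TP hI Set.univ = ⊤ from eq_top_iff.2 fun φ _ γ _ β _ hd => absurd trivial hd, finrank_top]
  have hc : shf negX (cst (ev 1)) = negX := by
    ext α; simp [shf, negX, cst, ev]
  have h2 := finrank_iSup_tPiece_refl 1 hc hI
  rw [iSup_tPiece_eq_TP hI, iSup_tPiece_eq_TP hI] at h2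
  haveI : IsEmpty {β : Std I // cst β.1 ∈ negX} := ⟨fun β => by
    have := β.2; simp [negX, cst] at this; omega⟩
  rw [Nat.card_of_isEmpty (α := {β : Std I // cst β.1 ∈ negX}),
    Nat.card_congr (Equiv.subtypeUnivEquiv (fun β : Std I => show cst β.1 ∈ refl' negX by rw [hA]; simp [cst])),
    card_std hI] at h2
  omega

end slices

end Groth.Agent.HilbPnLib
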