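import Groth.Agent.HilbPnLib.Basic

/-!
# The multigraded module `Hom(I, S/I)` of a monomial ideal
-/

set_option autoImplicit false

universe u v

open MvPolynomial W4c1hilbpn

noncomputable section

namespace Groth.Agent.HilbPnLib

variable {σ : Type v} {k : Type u} [Field k] {I : Ideal (MvPolynomial σ k)}

/-- The class of a monomial. -/
def mono (I : Ideal (MvPolynomial σ k)) (γ : σ →₀ ℕ) : MvPolynomial σ k ⧸ I := Ideal.Quotient.mk I (monomial γ 1)

theorem mono_eq_zero {γ : σ →₀ ℕ} (h : γ ∈ exps I) : mono I γ = 0 := Ideal.Quotient.eq_zero_iff_mem.2 h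

theorem smul_mono (δ γ : σ →₀ ℕ) : (monomial δ (1 : k)) • mono I γ = mono I (δ + γ) := by
  show Ideal.Quotient.mk I (monomial δ 1 * monomial γ 1) = _
  rw [monomial_mul, one_mul]; rfl

theorem coeff_eq_of_mk_eq (hI : IsMonomial I) {γ : σ →₀ ℕ} (hγ : γ ∉ exps I) {p q : MvPolynomial σ k}
    (h : Ideal.Quotient.mk I p = Ideal.Quotient.mk I q) : p.coeff γ = q.coeff γ := by
  have h1 := Ideal.Quotient.eq.1 h
  by_contra hne
  exact hγ (hI _ h1 γ (mem_support_iff.2 (by rwa [coeff_sub, sub_ne_zero])))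

open Classical in
/-- The coefficient of a standard monomial. -/
def cf (hI : IsMonomial I) (γ : σ →₀ ℕ) : (MvPolynomial σ k ⧸ I) →ₗ[k] k where
  toFun m := if γ ∈ exps I then 0 else coeff γ (Quotient.out m)
  map_add' a b := by
    by_cases hγ : γ ∈ exps I
    · simp [hγ]
    · simp only [hγ, if_false]
      rw [← coeff_add]
      refine coeff_eq_of_mk_eq hI hγ ?_
      rw [map_add, Ideal.Quotient.mk_out, Ideal.Quotient.mk_out, Ideal.Quotient.mk_out]
  map_smul' c a := by
    by_cases hγ : γ ∈ exps I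
    · simp [hγ]
    · simp only [hγ, if_false, RingHom.id_apply, smul_eq_mul]
      rw [← smul_eq_mul, ← coeff_smul]
      refine coeff_eq_of_mk_eq hI hγ ?_
      rw [Ideal.Quotient.mk_out, ← Ideal.Quotient.mkₐ_eq_mk k, map_smul, Ideal.Quotient.mkₐ_eq_mk,
        Ideal.Quotient.mk_out]

theorem cf_mk (hI : IsMonomial I) {γ : σ →₀ ℕ} (hγ : γ ∉ exps I) (p : MvPolynomial σ k) :
    cf hI γ (Ideal.Quotient.mk I p) = p.coeff γ := by
  classical
  refine (if_neg hγ).trans ?_
  exact coeff_eq_of_mk_eq hI hγ (Ideal.Quotient.mk_out _)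

theorem cf_mem (hI : IsMonomial I) {γ : σ →₀ ℕ} (hγ : γ ∈ exps I) (m : MvPolynomial σ k ⧸ I) :
    cf hI γ m = 0 := by
  classical
  exact if_pos hγ

theorem cf_mono_self (hI : IsMonomial I) {γ : σ →₀ ℕ} (hγ : γ ∉ exps I) : cf hI γ (mono I γ) = 1 := by
  classical
  rw [mono, cf_mk hI hγ, coeff_monomial, if_pos rfl]

theorem cf_mono_ne (hI : IsMonomial I) {γ δ : σ →₀ ℕ} (h : δ ≠ γ) : cf hI γ (mono I δ) = 0 := by
  classical
  by_cases hγ : γ ∈ exps I
  · exact cf_mem hI hγ _
  · rw [mono, cf_mk hI hγ, coeff_monomial, if_neg h]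

theorem cf_smul (hI : IsMonomial I) {δ γ : σ →₀ ℕ} (h : δ + γ ∉ exps I) (m : MvPolynomial σ k ⧸ I) :
    cf hI (δ + γ) (monomial δ (1 : k) • m) = cf hI γ m := by
  obtain ⟨q, rfl⟩ := Ideal.Quotient.mk_surjective m
  have h2 : γ ∉ exps I := fun hc => h (exps_up hc (by simp))
  rw [show monomial δ (1 : k) • Ideal.Quotient.mk I q = Ideal.Quotient.mk I (monomial δ 1 * q) from rfl,
    cf_mk hI h, cf_mk hI h2, coeff_monomial_mul, one_mul]

theorem cf_smul_not_le (hI : IsMonomial I) {δ γ : σ →₀ ℕ} (h : ¬ δ ≤ γ) (m : MvPolynomial σ k ⧸ I) :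
    cf hI γ (monomial δ (1 : k) • m) = 0 := by
  classical
  obtain ⟨q, rfl⟩ := Ideal.Quotient.mk_surjective m
  by_cases hγ : γ ∈ exps I
  · exact cf_mem hI hγ _
  · rw [show monomial δ (1 : k) • Ideal.Quotient.mk I q = Ideal.Quotient.mk I (monomial δ 1 * q) from rfl,
      cf_mk hI hγ, coeff_monomial_mul', if_neg h]

theorem eq_of_cf (hI : IsMonomial I) {a b : MvPolynomial σ k ⧸ I}
    (h : ∀ γ, γ ∉ exps I → cf hI γ a = cf hI γ b) : a = b := by
  obtain ⟨p, rfl⟩ := Ideal.Quotient.mk_surjective a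
  obtain ⟨q, rfl⟩ := Ideal.Quotient.mk_surjective b
  refine Ideal.Quotient.eq.2 (mem_of_support fun d hd => ?_)
  by_contra hd'
  have := h d hd'
  rw [cf_mk hI hd', cf_mk hI hd'] at this
  exact mem_support_iff.1 hd (by rw [coeff_sub, this, sub_self])

/-- The monomial as a member of the ideal. -/
def gen (β : σ →₀ ℕ) (hβ : β ∈ exps I) : I := ⟨monomial β 1, hβ⟩

theorem map_gen_add (φ : Tgt I) {β : σ →₀ ℕ} (δ : σ →₀ ℕ) (hβ : β ∈ exps I) :
    φ (gen (δ + β) (exps_up hβ (by simp))) = monomial δ (1 : k) • φ (gen β hβ) := by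
  rw [← map_smul]
  refine congrArg φ (Subtype.ext ?_)
  show monomial (δ + β) (1 : k) = monomial δ 1 * monomial β 1
  rw [monomial_mul, one_mul]

theorem map_gen_of_le (φ : Tgt I) {β β' : σ →₀ ℕ} (hle : β ≤ β') (hβ : β ∈ exps I) (hβ' : β' ∈ exps I) :
    φ (gen β' hβ') = monomial (β' - β) (1 : k) • φ (gen β hβ) := by
  rw [← map_gen_add φ (β' - β) hβ]
  exact congrArg φ (Subtype.ext (by simp only [gen]; rw [tsub_add_cancel_of_le hle]))

theorem tgt_ext (hI : IsMonomial I) {φ ψ : Tgt I} (h : ∀ β hβ, φ (gen β hβ) = ψ (gen β hβ)) : φ = ψ := by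
  refine LinearMap.ext fun x => ?_
  have hx : x = ∑ d ∈ x.1.support.attach, (C (x.1.coeff d.1) : MvPolynomial σ k) • gen d.1 (hI _ x.2 _ d.2) := by
    refine Subtype.ext ?_
    rw [Submodule.coe_sum]
    conv_lhs => rw [x.1.as_sum, ← Finset.sum_attach]
    refine Finset.sum_congr rfl fun d _ => ?_
    rw [Submodule.coe_smul, smul_eq_mul]
    simp only [gen]
    rw [C_mul_monomial, mul_one]
  rw [hx, map_sum, map_sum]
  exact Finset.sum_congr rfl fun d _ => by rw [map_smul, map_smul]; exact congrArg _ (h _ _)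

/-- The linear map on all polynomials with prescribed values on monomials. -/
def preHom (F : (σ →₀ ℕ) → MvPolynomial σ k ⧸ I) : MvPolynomial σ k →ₗ[k] MvPolynomial σ k ⧸ I :=
  (basisMonomials σ k).constr k F

theorem preHom_monomial (F : (σ →₀ ℕ) → MvPolynomial σ k ⧸ I) (β : σ →₀ ℕ) (c : k) :
    preHom F (monomial β c) = c • F β := by
  conv_lhs => rw [show monomial β c = c • (basisMonomials σ k) β by rw [coe_basisMonomials, smul_monomial, smul_eq_mul, mul_one]]
  rw [map_smul, preHom, Module.Basis.constr_basis]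

/-- A homomorphism `I → S/I` from compatible values on monomials. -/
def mkHom (hI : IsMonomial I) (F : (σ →₀ ℕ) → MvPolynomial σ k ⧸ I)
    (hF : ∀ β ∈ exps I, ∀ δ : σ →₀ ℕ, F (δ + β) = monomial δ (1 : k) • F β) : Tgt I where
  toFun x := preHom F x.1
  map_add' x y := map_add _ _ _
  map_smul' q x := by
    show preHom F (q * x.1) = q • preHom F x.1
    induction q using MvPolynomial.induction_on' with
    | monomial d a =>
      conv_lhs => rw [x.1.as_sum, Finset.mul_sum, map_sum]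
      conv_rhs => rw [x.1.as_sum, map_sum, Finset.smul_sum]
      refine Finset.sum_congr rfl fun β hβ => ?_
      rw [monomial_mul, preHom_monomial, preHom_monomial, hF β (hI _ x.2 _ hβ), mul_smul,
        show monomial d a = a • monomial d (1 : k) by rw [smul_monomial, smul_eq_mul, mul_one],
        smul_assoc, smul_comm (monomial d (1 : k)) (x.1.coeff β)]
    | add p q hp hq => rw [add_mul, map_add, hp, hq, add_smul]

theorem mkHom_gen (hI : IsMonomial I) (F : (σ →₀ ℕ) → MvPolynomial σ k ⧸ I)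
    (hF : ∀ β ∈ exps I, ∀ δ : σ →₀ ℕ, F (δ + β) = monomial δ (1 : k) • F β) (β : σ →₀ ℕ) (hβ : β ∈ exps I) :
    mkHom hI F hF (gen β hβ) = F β := by
  show preHom F (monomial β 1) = F β
  rw [preHom_monomial, one_smul]

variable [Finite σ]

theorem shift_apply (β : σ →₀ ℕ) (α : σ → ℤ) (i : σ) : shift β α i = ((β i : ℤ) + α i).toNat := by
  simp [shift]

theorem shift_cast {β : σ →₀ ℕ} {α : σ → ℤ} (h : ∀ i, 0 ≤ (β i : ℤ) + α i) (i : σ) :
    (shift β α i : ℤ) = (β i : ℤ) + α i := by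
  rw [shift_apply, Int.toNat_of_nonneg (h i)]

theorem shift_add {β : σ →₀ ℕ} {α : σ → ℤ} (h : ∀ i, 0 ≤ (β i : ℤ) + α i) (δ : σ →₀ ℕ) :
    shift (δ + β) α = δ + shift β α := by
  ext i
  have := h i
  simp only [shift_apply, Finsupp.add_apply]
  omega

theorem shift_eq {β γ : σ →₀ ℕ} {α : σ → ℤ} (h : ∀ i, (γ i : ℤ) = (β i : ℤ) + α i) : shift β α = γ := by
  ext i
  have := h i
  simp only [shift_apply]
  omega

theorem apply_gen_of_mem (hI : IsMonomial I) {α : σ → ℤ} {φ : Tgt I} (hφ : φ ∈ tPiece I α) {β : σ →₀ ℕ}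
    (hβ : β ∈ exps I) (h : ∀ i, 0 ≤ (β i : ℤ) + α i) :
    φ (gen β hβ) = cf hI (shift β α) (φ (gen β hβ)) • mono I (shift β α) := by
  obtain ⟨c, hc⟩ := Submodule.mem_span_singleton.1 ((hφ β hβ).1 h)
  rw [show φ (gen β hβ) = c • mono I (shift β α) from hc.symm]
  by_cases he : shift β α ∈ exps I
  · rw [mono_eq_zero he, smul_zero, smul_zero]
  · rw [map_smul, cf_mono_self hI he, smul_eq_mul, mul_one]

theorem apply_gen_eq_zero {α : σ → ℤ} {φ : Tgt I} (hφ : φ ∈ tPiece I α) {β : σ →₀ ℕ}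
    (hβ : β ∈ exps I) {i : σ} (h : (β i : ℤ) + α i < 0) : φ (gen β hβ) = 0 :=
  (hφ β hβ).2 ⟨i, h⟩

theorem apply_gen_eq_zero_of_shift {α : σ → ℤ} {φ : Tgt I} (hφ : φ ∈ tPiece I α) {β : σ →₀ ℕ}
    (hβ : β ∈ exps I) (h : (∀ i, 0 ≤ (β i : ℤ) + α i) → shift β α ∈ exps I) : φ (gen β hβ) = 0 := by
  by_cases hn : ∀ i, 0 ≤ (β i : ℤ) + α i
  · obtain ⟨c, hc⟩ := Submodule.mem_span_singleton.1 ((hφ β hβ).1 hn)
    rw [← show c • mono I (shift β α) = φ (gen β hβ) from hc, mono_eq_zero (h hn), smul_zero]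
  · push Not at hn
    exact (hφ β hβ).2 hn

theorem mem_tPiece {α : σ → ℤ} {φ : Tgt I}
    (h1 : ∀ β hβ, (∀ i, 0 ≤ (β i : ℤ) + α i) → φ (gen β hβ) ∈ Submodule.span k {mono I (shift β α)})
    (h2 : ∀ β hβ, ∀ i, (β i : ℤ) + α i < 0 → φ (gen β hβ) = 0) : φ ∈ tPiece I α :=
  fun β hβ => ⟨h1 β hβ, fun ⟨i, hi⟩ => h2 β hβ i hi⟩

open Classical in
/-- The values of the component of multidegree `α`. -/
def compFun (hI : IsMonomial I) (α : σ → ℤ) (φ : Tgt I) (β : σ →₀ ℕ) : MvPolynomial σ k ⧸ I :=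
  if h : β ∈ exps I then
    (if ∀ i, 0 ≤ (β i : ℤ) + α i then cf hI (shift β α) (φ (gen β h)) • mono I (shift β α) else 0)
  else 0

theorem compFun_add (hI : IsMonomial I) (α : σ → ℤ) (φ : Tgt I) (β : σ →₀ ℕ) (hβ : β ∈ exps I) (δ : σ →₀ ℕ) :
    compFun hI α φ (δ + β) = monomial δ (1 : k) • compFun hI α φ β := by
  classical
  simp only [compFun]
  rw [dif_pos (exps_up hβ (by simp)), dif_pos hβ, map_gen_add φ δ hβ]
  by_cases h : ∀ i, 0 ≤ (β i : ℤ) + α i
  · rw [if_pos h, if_pos fun i => (h i).trans (by simp)]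
    rw [smul_comm, smul_mono, shift_add h]
    by_cases he : δ + shift β α ∈ exps I
    · rw [mono_eq_zero he, smul_zero, smul_zero]
    · rw [cf_smul hI he]
  · rw [if_neg h, smul_zero]
    split_ifs with h'
    · rw [cf_smul_not_le hI, zero_smul]
      intro hle
      refine h fun i => ?_
      have := hle i
      have := h' i
      simp only [shift_apply, Finsupp.add_apply] at *
      omega
    · rfl

/-- The component of multidegree `α` of a homomorphism. -/
def comp (hI : IsMonomial I) (α : σ → ℤ) (φ : Tgt I) : Tgt I :=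
  mkHom hI (compFun hI α φ) (compFun_add hI α φ)

theorem comp_mem (hI : IsMonomial I) (α : σ → ℤ) (φ : Tgt I) : comp hI α φ ∈ tPiece I α := by
  classical
  refine mem_tPiece (fun β hβ h => ?_) (fun β hβ i hi => ?_)
  · rw [comp, mkHom_gen, compFun, dif_pos hβ, if_pos h]
    exact Submodule.smul_mem _ _ (Submodule.mem_span_singleton_self _)
  · rw [comp, mkHom_gen, compFun, dif_pos hβ, if_neg fun h => absurd (h i) (by omega)]

theorem comp_self (hI : IsMonomial I) {α : σ → ℤ} {φ : Tgt I} (hφ : φ ∈ tPiece I α) : comp hI α φ = φ := by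
  classical
  refine tgt_ext hI fun β hβ => ?_
  rw [comp, mkHom_gen, compFun, dif_pos hβ]
  split_ifs with h
  · exact (apply_gen_of_mem hI hφ hβ h).symm
  · push Not at h
    obtain ⟨i, hi⟩ := h
    exact (apply_gen_eq_zero hφ hβ hi).symm

theorem comp_of_ne (hI : IsMonomial I) {α α' : σ → ℤ} (hne : α' ≠ α) {φ : Tgt I} (hφ : φ ∈ tPiece I α) :
    comp hI α' φ = 0 := by
  classical
  refine tgt_ext hI fun β hβ => ?_
  rw [comp, mkHom_gen, compFun, dif_pos hβ, LinearMap.zero_apply]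
  split_ifs with h
  · by_cases hn : ∀ i, 0 ≤ (β i : ℤ) + α i
    · rw [apply_gen_of_mem hI hφ hβ hn, map_smul, cf_mono_ne hI, smul_zero, zero_smul]
      intro he
      refine hne (_root_.funext fun i => ?_)
      have := congrArg (fun f : σ →₀ ℕ => (f i : ℤ)) he
      rw [shift_cast h, shift_cast hn] at this
      omega
    · push Not at hn
      obtain ⟨i, hi⟩ := hn
      rw [apply_gen_eq_zero hφ hβ hi, map_zero, zero_smul]
  · rfl

theorem exists_gen_finset (hI : IsMonomial I) :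
    ∃ G : Finset (σ →₀ ℕ), (∀ g ∈ G, g ∈ exps I) ∧ ∀ β ∈ exps I, ∃ g ∈ G, g ≤ β := by
  classical
  obtain ⟨s, hs⟩ := IsNoetherian.noetherian I
  refine ⟨s.biUnion fun p => p.support, fun g hg => ?_, fun β hβ => ?_⟩
  · obtain ⟨p, hp, hg⟩ := Finset.mem_biUnion.1 hg
    exact hI p (hs ▸ Submodule.subset_span hp) g hg
  · have hle : I ≤ Ideal.span ((fun g => monomial g (1 : k)) '' ↑(s.biUnion fun p => p.support)) := by
      rw [← hs]
      refine Submodule.span_le.2 fun p hp => mem_ideal_span_monomial_image.2 fun x hx => ⟨x, ?_, le_rfl⟩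
      exact Finset.mem_coe.2 (Finset.mem_biUnion.2 ⟨p, hp, hx⟩)
    obtain ⟨g, hg, hle'⟩ := mem_ideal_span_monomial_image.1 (hle hβ) β (by simp)
    exact ⟨g, hg, hle'⟩

theorem finite_compl_exps (hI : IsMonomial I) [Module.Finite k (MvPolynomial σ k ⧸ I)] :
    {γ : σ →₀ ℕ | γ ∉ exps I}.Finite := by
  classical
  have hli : LinearIndependent k (fun γ : {γ : σ →₀ ℕ // γ ∉ exps I} => mono I γ.1) := by
    rw [linearIndependent_iff']
    intro s g hg i hi
    have := congrArg (cf hI i.1) hg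
    rw [map_sum, map_zero, Finset.sum_eq_single i] at this
    · rwa [map_smul, cf_mono_self hI i.2, smul_eq_mul, mul_one] at this
    · intro j _ hj
      rw [map_smul, cf_mono_ne hI fun h => hj (Subtype.ext h), smul_zero]
    · exact fun h => absurd hi h
  exact Set.finite_coe_iff.1 hli.finite

theorem iSup_tPiece_eq_top (hI : IsMonomial I) [Module.Finite k (MvPolynomial σ k ⧸ I)] :
    (⨆ α : σ → ℤ, tPiece I α) = ⊤ := by
  classical
  refine eq_top_iff.2 fun φ _ => ?_
  obtain ⟨G, hG, hGle⟩ := exists_gen_finset hI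
  let Γ := (finite_compl_exps hI).toFinset
  let a : (σ →₀ ℕ) × (σ →₀ ℕ) → σ → ℤ := fun p i => (p.1 i : ℤ) - (p.2 i : ℤ)
  let A := (Γ ×ˢ G).image a
  suffices h : φ = ∑ α ∈ A, comp hI α φ by
    rw [h]
    exact Submodule.sum_mem _ fun α _ => le_iSup (tPiece I) α (comp_mem hI α φ)
  refine tgt_ext hI fun β hβ => ?_
  obtain ⟨g, hg, hle⟩ := hGle β hβ
  rw [map_gen_of_le φ hle (hG g hg) hβ, map_gen_of_le (∑ α ∈ A, comp hI α φ) hle (hG g hg) hβ]
  congr 1
  rw [LinearMap.sum_apply]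
  refine Eq.trans ?_ (Finset.sum_subset (s₁ := Γ.image fun γ => a (γ, g)) ?_ ?_)
  · rw [Finset.sum_image]
    · refine eq_of_cf hI fun γ hγ => ?_
      rw [map_sum, Finset.sum_eq_single γ]
      · have h0 : ∀ i, 0 ≤ (g i : ℤ) + a (γ, g) i := fun i => by simp [a]
        rw [comp, mkHom_gen, compFun, dif_pos (hG g hg), if_pos h0, show shift g (a (γ, g)) = γ from shift_eq fun i => by simp [a],
          map_smul, cf_mono_self hI hγ, smul_eq_mul, mul_one]
      · intro δ hδ hne
        have h0 : ∀ i, 0 ≤ (g i : ℤ) + a (δ, g) i := fun i => by simp [a]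
        rw [comp, mkHom_gen, compFun, dif_pos (hG g hg), if_pos h0, show shift g (a (δ, g)) = δ from shift_eq fun i => by simp [a],
          map_smul, cf_mono_ne hI hne, smul_zero]
      · exact fun h => absurd ((Set.Finite.mem_toFinset _).2 hγ) h
    · intro x _ y _ h
      ext i
      have := congrFun h i
      simp [a] at this
      omega
  · intro α hα
    obtain ⟨γ, hγ, rfl⟩ := Finset.mem_image.1 hα
    exact Finset.mem_image.2 ⟨(γ, g), Finset.mem_product.2 ⟨hγ, hg⟩, rfl⟩
  · intro α _ hα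
    rw [comp, mkHom_gen, compFun, dif_pos (hG g hg)]
    split_ifs with h
    · by_cases he : shift g α ∈ exps I
      · rw [mono_eq_zero he, smul_zero]
      · refine absurd (Finset.mem_image.2 ⟨shift g α, (Set.Finite.mem_toFinset _).2 he, _root_.funext fun i => ?_⟩) hα
        show (shift g α i : ℤ) - _ = _
        rw [shift_cast h]; ring
    · rfl

theorem tPiece_eq_bot_of_nonneg (hI : IsMonomial I) {α : σ → ℤ} (h : ∀ i, 0 ≤ α i) : tPiece I α = ⊥ := by
  refine (Submodule.eq_bot_iff _).2 fun φ hφ => tgt_ext hI fun β hβ => apply_gen_eq_zero_of_shift hφ hβ fun _ => ?_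
  refine exps_up hβ fun i => ?_
  have := h i
  rw [shift_apply]; omega

theorem tPiece_eq_bot_of_two_neg (hI : IsMonomial I) [Module.Finite k (MvPolynomial σ k ⧸ I)] {α : σ → ℤ}
    (hle : ∀ l, α l ≤ 0) {i j : σ} (hij : i ≠ j) (hi : α i < 0) (hj : α j < 0) : tPiece I α = ⊥ := by
  classical
  refine (Submodule.eq_bot_iff _).2 fun φ hφ => tgt_ext hI ?_
  suffices h : ∀ (m : ℕ) (β : σ →₀ ℕ) (hβ : β ∈ exps I), (β j : ℤ) + α j < m → φ (gen β hβ) = 0 from
    fun β hβ => h (β j + 1) β hβ (by omega)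
  intro m
  induction m with
  | zero => exact fun β hβ h => apply_gen_eq_zero hφ hβ (by simpa using h)
  | succ m ih =>
    intro β hβ hm
    by_cases hn : ∀ l, 0 ≤ (β l : ℤ) + α l
    swap
    · push Not at hn
      obtain ⟨l, hl⟩ := hn
      exact apply_gen_eq_zero hφ hβ hl
    by_cases hs : shift β α ∈ exps I
    · exact apply_gen_eq_zero_of_shift hφ hβ fun _ => hs
    have hex : ∃ t : ℕ, shift β α + Finsupp.single i t ∈ exps I := by
      obtain ⟨N, hN⟩ := exists_single_mem hI i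
      exact ⟨N, exps_up hN (by simp)⟩
    obtain ⟨t, ht⟩ : ∃ t, Nat.find hex = t + 1 := by
      refine ⟨Nat.find hex - 1, ?_⟩
      have : Nat.find hex ≠ 0 := fun h => hs (by simpa [h] using Nat.find_spec hex)
      omega
    have h1 : Finsupp.single i t + shift β α ∉ exps I := by
      rw [add_comm]; exact Nat.find_min hex (by omega)
    have h2 : shift β α + Finsupp.single i (t + 1) ∈ exps I := ht ▸ Nat.find_spec hex
    let β' := Finsupp.single i t + β
    have hβ' : β' - Finsupp.single j 1 ∈ exps I := by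
      refine exps_up h2 fun l => ?_
      have := hle l
      have := hn l
      simp only [β', Finsupp.add_apply, Finsupp.tsub_apply, shift_apply]
      rcases eq_or_ne i l with rfl | hl
      · rw [Finsupp.single_eq_same, Finsupp.single_eq_same, Finsupp.single_eq_of_ne hij]; omega
      · rw [Finsupp.single_eq_of_ne hl.symm, Finsupp.single_eq_of_ne hl.symm]
        rcases eq_or_ne j l with rfl | hl'
        · rw [Finsupp.single_eq_same]; omega
        · rw [Finsupp.single_eq_of_ne hl'.symm]; omega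
    have hz : φ (gen β' (exps_up hβ le_add_self)) = 0 := by
      rw [map_gen_of_le φ tsub_le_self hβ' (exps_up hβ le_add_self),
        ih (β' - Finsupp.single j 1) hβ' ?_, smul_zero]
      simp only [β', Finsupp.add_apply, Finsupp.tsub_apply, Finsupp.single_eq_same, Finsupp.single_eq_of_ne hij.symm]
      have := hn j
      omega
    have he := map_gen_add φ (Finsupp.single i t) hβ
    rw [show gen (Finsupp.single i t + β) _ = gen β' (exps_up hβ le_add_self) from rfl, hz] at he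
    have hc := congrArg (cf hI (Finsupp.single i t + shift β α)) he
    rw [map_zero, cf_smul hI h1] at hc
    rw [apply_gen_of_mem hI hφ hβ hn, ← hc, zero_smul]

theorem exists_ne_zero (hI : IsMonomial I) {β γ : σ →₀ ℕ} (hβ : β ∈ exps I)
    (hmin : ∀ d : σ →₀ ℕ, d ∈ exps I → d ≤ β → d = β) (hγ : γ ∉ exps I)
    (hsoc : ∀ d : σ →₀ ℕ, γ ≤ d → d ≠ γ → d ∈ exps I) : tPiece I (fun i => (γ i : ℤ) - β i) ≠ ⊥ := by
  classical
  have hF : ∀ b ∈ exps I, ∀ δ : σ →₀ ℕ,
      (if δ + b = β then mono I γ else 0) = monomial δ (1 : k) • (if b = β then mono I γ else 0) := by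
    intro b hb δ
    by_cases hd : δ = 0
    · subst hd; simp
    · rw [if_neg fun he => hd (by
        have hb' := hmin b hb (by rw [← he]; simp)
        rw [hb'] at he
        exact add_eq_right.1 he)]
      split_ifs
      · rw [smul_mono, mono_eq_zero (hsoc _ (by simp) (by simpa using hd))]
      · rw [smul_zero]
  let φ : Tgt I := mkHom hI (fun b => if b = β then mono I γ else 0) hF
  have hφ : φ ∈ tPiece I (fun i => (γ i : ℤ) - β i) := by
    refine mem_tPiece (fun b hb _ => ?_) (fun b hb i hi => ?_)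
    · simp only [φ, mkHom_gen]
      split_ifs with h
      · subst h
        rw [show shift b (fun i => (γ i : ℤ) - b i) = γ from shift_eq fun i => by ring]
        exact Submodule.mem_span_singleton_self _
      · exact Submodule.zero_mem _
    · simp only [φ, mkHom_gen]
      rw [if_neg]
      rintro rfl
      omega
  intro hbot
  rw [hbot, Submodule.mem_bot] at hφ
  have := congrArg (fun ψ : Tgt I => cf hI γ (ψ (gen β hβ))) hφ
  simp only [φ, mkHom_gen, if_pos, cf_mono_self hI hγ, LinearMap.zero_apply, map_zero] at this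
  exact one_ne_zero this

theorem exists_socle (hI : IsMonomial I) [Module.Finite k (MvPolynomial σ k ⧸ I)] {p : σ →₀ ℕ} (hp : p ∉ exps I) :
    ∃ γ, p ≤ γ ∧ γ ∉ exps I ∧ ∀ d : σ →₀ ℕ, γ ≤ d → d ≠ γ → d ∈ exps I := by
  obtain ⟨γ, hpγ, hγ⟩ := (finite_compl_exps hI).exists_le_maximal hp
  exact ⟨γ, hpγ, hγ.prop, fun d hd hne => by_contra fun hd' => hne (le_antisymm (hγ.le_of_ge hd' hd) hd)⟩

theorem min_of_sub_notMem {β : σ →₀ ℕ} (h : ∀ i, β i ≠ 0 → β - Finsupp.single i 1 ∉ exps I) :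
    ∀ d : σ →₀ ℕ, d ∈ exps I → d ≤ β → d = β := by
  intro d hd hle
  by_contra hne
  obtain ⟨i, hi⟩ : ∃ i, d i < β i := by
    by_contra hc
    push Not at hc
    exact hne (le_antisymm hle hc)
  refine h i (by omega) (exps_up hd fun l => ?_)
  have := hle l
  rw [Finsupp.tsub_apply]
  rcases eq_or_ne i l with rfl | hl
  · rw [Finsupp.single_eq_same]; omega
  · rw [Finsupp.single_eq_of_ne hl.symm]; omega

end Groth.Agent.HilbPnLib
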