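import Groth.Agent.HilbPnLib.Deg0
import Groth.Agent.HilbPnLib.Pow

/-!
# Degree zero homomorphisms of a two block monomial ideal
-/

set_option autoImplicit false

universe u

open MvPolynomial W4c1hilbpn

noncomputable section

namespace Groth.Agent.HilbPnLib.TwoBlock

variable {n : ℕ} {k : Type u} [Field k]

/-- unit exponent vector -/
abbrev E (i : Fin (n + 1)) : Fin (n + 1) →₀ ℕ := Finsupp.single i 1

/-- generators -/
def gset (n q s : ℕ) : Set (Fin (n + 1) →₀ ℕ) :=
  {g | ∃ i : Fin (n + 1), i.val + 1 ≤ n ∧ g = E 0 + E i} ∪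
    {g | ∃ i : Fin (n + 1), 1 ≤ i.val ∧ i.val ≤ s ∧ g = Finsupp.single 1 q + E i}

variable (k) in
/-- the ideal -/
abbrev idl (n q s : ℕ) : Ideal (MvPolynomial (Fin (n + 1)) k) :=
  Ideal.span ((fun g => monomial g (1 : k)) '' gset n q s)

theorem val_one (h : 1 ≤ n) : (1 : Fin (n + 1)).val = 1 := by
  rw [Fin.val_one', Nat.mod_eq_of_lt (by omega)]

theorem val_pos {m : Fin (n + 1)} (h : m ≠ 0) : 1 ≤ m.val := by
  have := Fin.val_ne_zero_iff.2 h; omega

theorem mem_exps {q s : ℕ} (hn : 2 ≤ n) (hs : s + 1 ≤ n) (hs1 : 1 ≤ s) {β : Fin (n + 1) →₀ ℕ} :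
    β ∈ exps (idl k n q s) ↔ (1 ≤ β 0 ∧ (2 ≤ β 0 ∨ ∃ i : Fin (n + 1), 1 ≤ i.val ∧ i.val < n ∧ 1 ≤ β i)) ∨
      (q ≤ β 1 ∧ (q + 1 ≤ β 1 ∨ ∃ i : Fin (n + 1), 2 ≤ i.val ∧ i.val ≤ s ∧ 1 ≤ β i)) := by
  have v1 := val_one (n := n) (by omega)
  rw [HilbPnLib.mem_exps_span]
  constructor
  · rintro ⟨g, ⟨i, hi, rfl⟩ | ⟨i, hi1, hi2, rfl⟩, hle⟩
    · rcases eq_or_ne i 0 with rfl | h0
      · have := hle 0
        simp at this
        exact Or.inl ⟨by omega, Or.inl this⟩
      · have h1 := hle 0
        have h2 := hle i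
        simp [h0, h0.symm] at h1 h2
        exact Or.inl ⟨h1, Or.inr ⟨i, val_pos h0, by omega, h2⟩⟩
    · rcases eq_or_ne i 1 with rfl | h1
      · have := hle 1
        simp at this
        exact Or.inr ⟨by omega, Or.inl this⟩
      · have a1 := hle 1
        have a2 := hle i
        simp [h1, h1.symm] at a1 a2
        have : i.val ≠ 1 := fun h => h1 (Fin.ext (h.trans v1.symm))
        exact Or.inr ⟨a1, Or.inr ⟨i, by omega, hi2, a2⟩⟩
  · rintro (⟨h0, h | ⟨i, hi1, hi2, hi⟩⟩ | ⟨h0, h | ⟨i, hi1, hi2, hi⟩⟩)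
    · refine ⟨E 0 + E 0, Or.inl ⟨0, by simp; omega, rfl⟩, ?_⟩
      rw [← Finsupp.single_add]
      exact Finsupp.single_le_iff.2 h
    · refine ⟨E 0 + E i, Or.inl ⟨i, by omega, rfl⟩, fun m => ?_⟩
      have hne : i ≠ 0 := fun h => by subst h; simp at hi1
      rcases eq_or_ne m 0 with rfl | h1
      · simp [hne.symm]; omega
      · rcases eq_or_ne m i with rfl | h2
        · simp [h1]; omega
        · simp [h1, h2]
    · refine ⟨Finsupp.single 1 q + E 1, Or.inr ⟨1, by omega, by omega, rfl⟩, ?_⟩
      rw [← Finsupp.single_add]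
      exact Finsupp.single_le_iff.2 h
    · refine ⟨Finsupp.single 1 q + E i, Or.inr ⟨i, by omega, hi2, rfl⟩, fun m => ?_⟩
      have hne : i ≠ 1 := fun h => by subst h; omega
      rcases eq_or_ne m 1 with rfl | h1
      · simp [hne.symm]; omega
      · rcases eq_or_ne m i with rfl | h2
        · simp [h1]; omega
        · simp [h1, h2]

/-- the isolated pairs (generator, standard monomial) -/
abbrev Single (n q s : ℕ) :=
  {j : Fin (n + 1) // j.val < n} ⊕ {j : Fin (n + 1) // j.val < n ∧ q = 1 ∧ ∀ m : ℕ, s < m → m < n → m = j.val} ⊕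
    {i : Fin (n + 1) // 1 ≤ i.val ∧ i.val ≤ s} ⊕
    ({i : Fin (n + 1) // 1 ≤ i.val ∧ i.val ≤ s} × {y : Fin (n + 1) // s < y.val})

/-- the generator of an isolated pair -/
def sgen (n q s : ℕ) : Single n q s → (Fin (n + 1) →₀ ℕ) :=
  Sum.elim (fun j => E 0 + E j.1) (Sum.elim (fun j => E 0 + E j.1)
    (Sum.elim (fun i => Finsupp.single 1 q + E i.1) (fun p => Finsupp.single 1 q + E p.1.1)))

/-- the monomial of an isolated pair -/
def sval (n q s : ℕ) : Single n q s → (Fin (n + 1) →₀ ℕ) :=
  Sum.elim (fun _ => E 0 + E (Fin.last n)) (Sum.elim (fun _ => E 1 + E (Fin.last n))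
    (Sum.elim (fun _ => E 0 + Finsupp.single (Fin.last n) q) (fun p => Finsupp.single 1 q + E p.2.1)))

theorem sgen_mem {q s : ℕ} (p : Single n q s) : sgen n q s p ∈ gset n q s := by
  rcases p with j | j | i | p
  · exact Or.inl ⟨j.1, j.2, rfl⟩
  · exact Or.inl ⟨j.1, j.2.1, rfl⟩
  · exact Or.inr ⟨i.1, i.2.1, i.2.2, rfl⟩
  · exact Or.inr ⟨p.1.1, p.1.2.1, p.1.2.2, rfl⟩

theorem sval_notMem {q s : ℕ} (hn : 3 ≤ n) (hq : 1 ≤ q) (hs : s + 1 ≤ n) (hs2 : 2 ≤ s) (p : Single n q s) :
    sval n q s p ∉ exps (idl k n q s) := by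
  have hT : (Fin.last n).val = n := rfl
  have v1 := val_one (n := n) (by omega)
  have h10 : (1 : Fin (n + 1)) ≠ 0 := fun h => by have := congrArg Fin.val h; simp at this; omega
  have T0 : Fin.last n ≠ 0 := fun h => by have := congrArg Fin.val h; simp at this; omega
  have T1 : Fin.last n ≠ 1 := fun h => by have := congrArg Fin.val h; rw [v1] at this; simp at this; omega
  have lowT : ∀ i : Fin (n + 1), i.val < n → i ≠ Fin.last n := fun i hi h => by subst h; omega
  have low0 : ∀ i : Fin (n + 1), 1 ≤ i.val → i ≠ 0 := fun i hi h => by subst h; simp at hi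
  have low1 : ∀ i : Fin (n + 1), 2 ≤ i.val → i ≠ 1 := fun i hi h => by subst h; omega
  rw [mem_exps (by omega) hs (by omega)]
  rcases p with j | ⟨j, hj, rfl, -⟩ | i | ⟨i, y, hy⟩
  · simp only [sval, Sum.elim_inl]
    rintro (⟨-, h | ⟨m, hm1, hm2, hm⟩⟩ | ⟨h, -⟩)
    · simp [T0.symm] at h
    · simp [low0 m hm1, lowT m hm2] at hm
    · simp [h10, T1.symm] at h; omega
  · simp only [sval, Sum.elim_inl, Sum.elim_inr]
    rintro (⟨h, -⟩ | ⟨-, h | ⟨m, hm1, hm2, hm⟩⟩)
    · simp [h10.symm, T0.symm] at h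
    · simp [T1.symm] at h
    · simp [low1 m hm1, lowT m (by omega)] at hm
  · simp only [sval, Sum.elim_inl, Sum.elim_inr]
    rintro (⟨-, h | ⟨m, hm1, hm2, hm⟩⟩ | ⟨h, -⟩)
    · simp [T0.symm] at h
    · simp [low0 m hm1, lowT m hm2] at hm
    · simp [h10, T1.symm] at h; omega
  · simp only [sval, Sum.elim_inr]
    have hy0 : y ≠ 0 := low0 y (by omega)
    have hy1 : y ≠ 1 := low1 y (by omega)
    rintro (⟨h, -⟩ | ⟨-, h | ⟨m, hm1, hm2, hm⟩⟩)
    · simp [h10.symm, hy0.symm] at h
    · simp [hy1.symm] at h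
    · have : m ≠ y := fun e => by subst e; omega
      simp [low1 m hm1, this] at hm

theorem sval_degree {q s : ℕ} (p : Single n q s) : (sval n q s p).degree = (sgen n q s p).degree := by
  rcases p with j | j | i | p <;> simp [sval, sgen, map_add, add_comm]

theorem isolated {q s : ℕ} (hn : 3 ≤ n) (hq : 1 ≤ q) (hs : s + 1 ≤ n) (hs2 : 2 ≤ s) (p : Single n q s) :
    ∀ β ∈ exps (idl k n q s), ¬ sgen n q s p ≤ β → ∀ β', β ≤ β' → sgen n q s p ≤ β' →
      β' - sgen n q s p + sval n q s p ∈ exps (idl k n q s) := by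
  intro β hβ hnle β' hle hg
  have hT : (Fin.last n).val = n := rfl
  have v1 := val_one (n := n) (by omega)
  have h10 : (1 : Fin (n + 1)) ≠ 0 := fun h => by have := congrArg Fin.val h; simp at this; omega
  have T0 : Fin.last n ≠ 0 := fun h => by have := congrArg Fin.val h; simp at this; omega
  have T1 : Fin.last n ≠ 1 := fun h => by have := congrArg Fin.val h; rw [v1] at this; simp at this; omega
  have lowT : ∀ i : Fin (n + 1), i.val < n → i ≠ Fin.last n := fun i hi h => by subst h; omega
  have low0 : ∀ i : Fin (n + 1), 1 ≤ i.val → i ≠ 0 := fun i hi h => by subst h; simp at hi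
  have low1 : ∀ i : Fin (n + 1), 2 ≤ i.val → i ≠ 1 := fun i hi h => by subst h; omega
  rw [mem_exps (by omega) hs (by omega)] at hβ ⊢
  have l0 := hle 0
  have l1 := hle 1
  rcases p with ⟨j, hj⟩ | ⟨j, hj, rfl, hjR⟩ | ⟨i, hi1, hi2⟩ | ⟨⟨i, hi1, hi2⟩, y, hy⟩
  · simp only [sgen, sval, Sum.elim_inl] at *
    by_cases hj0 : j = 0
    · subst hj0
      rw [← Finsupp.single_add, Finsupp.single_le_iff] at hnle hg
      rcases hβ with ⟨hb, h | ⟨m, hm1, hm2, hm⟩⟩ | ⟨hb, h | ⟨m, hm1, hm2, hm⟩⟩
      · omega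
      · have := hle m
        exact Or.inl ⟨by simp [T0.symm], Or.inr ⟨m, hm1, hm2, by simp [low0 m hm1, lowT m hm2]; omega⟩⟩
      · exact Or.inr ⟨by simp [h10, T1.symm]; omega, Or.inl (by simp [h10, T1.symm]; omega)⟩
      · have := hle m
        exact Or.inr ⟨by simp [h10, T1.symm]; omega, Or.inr ⟨m, hm1, hm2, by simp [low0 m (by omega), lowT m (by omega)]; omega⟩⟩
    · have hjT := lowT j hj
      refine Or.inl ⟨by simp [T0.symm], ?_⟩
      rcases hβ with ⟨hb, h | ⟨m, hm1, hm2, hm⟩⟩ | ⟨hb, h | ⟨m, hm1, hm2, hm⟩⟩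
      · exact Or.inl (by simp [T0.symm, Ne.symm hj0]; omega)
      · rcases eq_or_ne m j with rfl | hmj
        · refine absurd (fun t => ?_) hnle
          rcases eq_or_ne t 0 with rfl | h1
          · simp [Ne.symm hj0]; omega
          · rcases eq_or_ne t m with rfl | h2
            · simp [h1]; omega
            · simp [h1, h2]
        · have := hle m
          exact Or.inr ⟨m, hm1, hm2, by simp [low0 m hm1, lowT m hm2, hmj]; omega⟩
      · refine Or.inr ⟨1, by omega, by omega, ?_⟩
        rcases eq_or_ne j 1 with rfl | hj1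
        · simp [h10, T1.symm]; omega
        · simp [h10, T1.symm, hj1.symm]; omega
      · rcases eq_or_ne m j with rfl | hmj
        · refine Or.inr ⟨1, by omega, by omega, ?_⟩
          simp [h10, T1.symm, (low1 m hm1).symm]; omega
        · have := hle m
          exact Or.inr ⟨m, by omega, by omega, by simp [low0 m (by omega), lowT m (by omega), hmj]; omega⟩
  · simp only [sgen, sval, Sum.elim_inl, Sum.elim_inr] at *
    have hjT := lowT j hj
    rcases hβ with ⟨hb, h | ⟨m, hm1, hm2, hm⟩⟩ | ⟨hb, h | ⟨m, hm1, hm2, hm⟩⟩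
    · by_cases hj0 : j = 0
      · subst hj0
        rw [← Finsupp.single_add, Finsupp.single_le_iff] at hnle
        omega
      · exact Or.inl ⟨by simp [T0.symm, h10.symm, Ne.symm hj0]; omega, Or.inr ⟨1, by omega, by omega, by simp [h10, T1.symm]⟩⟩
    · have hmj : m ≠ j := fun e => by
        subst e
        refine hnle fun t => ?_
        rcases eq_or_ne t 0 with rfl | h1
        · simp [(low0 m hm1).symm]; omega
        · rcases eq_or_ne t m with rfl | h2
          · simp [h1]; omega
          · simp [h1, h2]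
      have := hle m
      by_cases hms : m.val ≤ s
      · rcases eq_or_ne m 1 with rfl | hm1'
        · exact Or.inr ⟨by simp [h10, T1.symm], Or.inl (by simp [h10, T1.symm, hmj.symm]; omega)⟩
        · refine Or.inr ⟨by simp [h10, T1.symm], Or.inr ⟨m, ?_, hms, by simp [low0 m hm1, hm1', lowT m hm2, hmj]; omega⟩⟩
          have : m.val ≠ 1 := fun h => hm1' (Fin.ext (h.trans v1.symm))
          omega
      · exact absurd (Fin.ext (hjR m.val (by omega) hm2)) hmj
    · refine Or.inr ⟨by simp [h10, T1.symm], Or.inl ?_⟩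
      rcases eq_or_ne j 1 with rfl | hj1
      · simp [h10, T1.symm]; omega
      · simp [h10, T1.symm, hj1.symm]; omega
    · rcases eq_or_ne j 1 with rfl | hj1
      · have := hle m
        exact Or.inr ⟨by simp [h10, T1.symm], Or.inr ⟨m, hm1, hm2, by simp [low0 m (by omega), low1 m hm1, lowT m (by omega)]; omega⟩⟩
      · exact Or.inr ⟨by simp [h10, T1.symm], Or.inl (by simp [h10, T1.symm, hj1.symm]; omega)⟩
  · simp only [sgen, sval, Sum.elim_inl, Sum.elim_inr] at *
    have hi0 := low0 i hi1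
    rcases hβ with ⟨hb, -⟩ | ⟨hb, h⟩
    · exact Or.inl ⟨by simp [T0.symm, h10.symm, hi0.symm], Or.inl (by simp [T0.symm, h10.symm, hi0.symm]; omega)⟩
    · refine Or.inl ⟨by simp [T0.symm, h10.symm, hi0.symm], Or.inr ?_⟩
      rcases h with h | ⟨m, hm1, hm2, hm⟩
      · rcases eq_or_ne i 1 with rfl | hi1'
        · rw [← Finsupp.single_add, Finsupp.single_le_iff] at hnle
          omega
        · exact ⟨1, by omega, by omega, by simp [h10, T1.symm, hi1'.symm]; omega⟩
      · have hmi : m ≠ i := fun e => by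
          subst e
          refine hnle fun t => ?_
          rcases eq_or_ne t 1 with rfl | h1
          · simp [(low1 m hm1).symm]; omega
          · rcases eq_or_ne t m with rfl | h2
            · simp [h1]; omega
            · simp [h1, h2]
        have := hle m
        exact ⟨m, by omega, by omega, by simp [low1 m hm1, low0 m (by omega), lowT m (by omega), hmi]; omega⟩
  · simp only [sgen, sval, Sum.elim_inr] at *
    have hi0 := low0 i hi1
    have hy0 := low0 y (by omega)
    have hy1 := low1 y (by omega)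
    have g1 := hg 1
    rcases hβ with ⟨hb, -⟩ | ⟨hb, h⟩
    · refine Or.inl ⟨by simp [h10.symm, hy0.symm, hi0.symm]; omega, Or.inr ⟨1, by omega, by omega, ?_⟩⟩
      simp [hy1.symm]; omega
    · rcases eq_or_ne i 1 with rfl | hi1'
      · obtain h | ⟨m, hm1, hm2, hm⟩ := h
        · rw [← Finsupp.single_add, Finsupp.single_le_iff] at hnle
          omega
        · have := hle m
          have : m ≠ y := fun e => by subst e; omega
          exact Or.inr ⟨by simp [hy1.symm], Or.inr ⟨m, hm1, hm2, by simp [low1 m hm1, this]; omega⟩⟩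
      · obtain h | ⟨m, hm1, hm2, hm⟩ := h
        · exact Or.inr ⟨by simp [hy1.symm], Or.inl (by simp [hy1.symm, hi1'.symm]; omega)⟩
        · have hmi : m ≠ i := fun e => by
            subst e
            refine hnle fun t => ?_
            rcases eq_or_ne t 1 with rfl | h1
            · simp [(low1 m hm1).symm]; omega
            · rcases eq_or_ne t m with rfl | h2
              · simp [h1]; omega
              · simp [h1, h2]
          have := hle m
          have : m ≠ y := fun e => by subst e; omega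
          exact Or.inr ⟨by simp [hy1.symm], Or.inr ⟨m, hm1, hm2, by simp [low1 m hm1, this, hmi]; omega⟩⟩

/-- index of the linear substitutions `x_0 ↦ x_l` -/
abbrev LIdx (n q s : ℕ) := {l : Fin (n + 1) // l ≠ 0 ∧ ¬ (q = 1 ∧ s + 1 = n ∧ l = 1)}

/-- index of the substitutions `x_1^q ↦ M` -/
abbrev MIdx (n q : ℕ) := {M : Fin (n + 1) →₀ ℕ // M.degree = q ∧ M 0 = 0 ∧ M ≠ Finsupp.single 1 q}

instance (n q : ℕ) : Finite (MIdx n q) :=
  ((Finsupp.finite_of_degree_le q).subset fun M (h : M.degree = q ∧ M 0 = 0 ∧ M ≠ Finsupp.single 1 q) =>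
    show M.degree ≤ q from h.1.le).to_subtype

theorem midx_lt {q : ℕ} (M : MIdx n q) : M.1 1 < q := by
  by_contra hc
  push Not at hc
  obtain ⟨r, hr⟩ := le_iff_exists_add.1 (Finsupp.single_le_iff.2 hc)
  have hd := M.2.1
  rw [hr, map_add, Finsupp.degree_single] at hd
  exact M.2.2.2 (by rw [hr, (Finsupp.degree_eq_zero_iff r).1 (by omega), add_zero])

theorem lHom_compat {q s : ℕ} (l : Fin (n + 1)) : ∀ β ∈ exps (idl k n q s), ¬ E 0 ≤ β → ∀ β', β ≤ β' → E 0 ≤ β' →
    β' - E 0 + E l ∈ exps (idl k n q s) := by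
  intro β hβ h β' hle _
  refine exps_up hβ fun m => ?_
  have := hle m
  rw [Finsupp.add_apply, Finsupp.tsub_apply]
  rcases eq_or_ne m 0 with rfl | hm
  · have : β 0 = 0 := by by_contra hc; exact h (Finsupp.single_le_iff.2 (by omega))
    omega
  · simp [hm]; omega

open Classical in
/-- the substitution `x_1^q ↦ M` away from `x_0` -/
def mHom {q s : ℕ} (hn : 2 ≤ n) (hs : s + 1 ≤ n) (hs1 : 1 ≤ s) (M : MIdx n q) : Tgt (idl k n q s) :=
  mkHom (isMonomial_span _) (fun β => if β 0 = 0 ∧ q ≤ β 1 then mono _ (β - Finsupp.single 1 q + M.1) else 0)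
    (fun β hβ δ => by
      have v1 := val_one (n := n) (by omega)
      by_cases hb : β 0 = 0 ∧ q ≤ β 1
      · have hle : Finsupp.single 1 q ≤ β := Finsupp.single_le_iff.2 hb.2
        rw [if_pos hb, smul_mono, ← add_assoc, ← add_tsub_assoc_of_le hle]
        by_cases hd : δ 0 = 0
        · rw [if_pos ⟨by rw [Finsupp.add_apply, hd, hb.1], by rw [Finsupp.add_apply]; omega⟩]
        · rw [if_neg fun h => hd (by have := h.1; rw [Finsupp.add_apply] at this; omega)]
          refine (mono_eq_zero ?_).symm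
          rw [mem_exps hn hs hs1] at hβ ⊢
          refine Or.inl ⟨?_, Or.inr ?_⟩
          · simp [show (1 : Fin (n + 1)) ≠ 0 from fun h => by subst_vars; have := congrArg Fin.val h; simp at this; omega]
            omega
          · rcases hβ with ⟨h, -⟩ | ⟨-, h | ⟨m, hm1, hm2, hm⟩⟩
            · omega
            · exact ⟨1, by omega, by omega, by simp; omega⟩
            · exact ⟨m, by omega, by omega, by simp [show m ≠ 1 from fun h => by subst h; omega]; omega⟩
      · rw [if_neg hb, smul_zero, if_neg]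
        rintro ⟨h1, h2⟩
        rw [Finsupp.add_apply] at h1
        refine hb ⟨by omega, ?_⟩
        rw [mem_exps hn hs hs1] at hβ
        rcases hβ with ⟨h, -⟩ | ⟨h, -⟩
        · omega
        · exact h)

theorem mHom_gen {q s : ℕ} (hn : 2 ≤ n) (hs : s + 1 ≤ n) (hs1 : 1 ≤ s) (M : MIdx n q) {β : Fin (n + 1) →₀ ℕ}
    (hβ : β ∈ exps (idl k n q s)) [Decidable (β 0 = 0 ∧ q ≤ β 1)] :
    mHom hn hs hs1 M (gen β hβ) = if β 0 = 0 ∧ q ≤ β 1 then mono _ (β - Finsupp.single 1 q + M.1) else 0 := by
  classical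
  rw [mHom, mkHom_gen]
  congr

theorem mHom_mem {q s : ℕ} (hn : 2 ≤ n) (hs : s + 1 ≤ n) (hs1 : 1 ≤ s) (M : MIdx n q) :
    (mHom hn hs hs1 M : Tgt (idl k n q s)) ∈ ⨆ α : {α : Fin (n + 1) → ℤ // ∑ i, α i = 0}, tPiece (idl k n q s) α.1 := by
  classical
  refine le_iSup (fun α : {α : Fin (n + 1) → ℤ // ∑ i, α i = 0} => tPiece (idl k n q s) α.1)
    ⟨fun i => (M.1 i : ℤ) - (Finsupp.single 1 q : Fin (n + 1) →₀ ℕ) i, ?_⟩ ?_
  · rw [Finset.sum_sub_distrib, sub_eq_zero]
    exact_mod_cast (Finsupp.degree_eq_sum M.1).symm.trans ((M.2.1.trans (Finsupp.degree_single _ _).symm).trans (Finsupp.degree_eq_sum _))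
  · refine mem_tPiece (fun β hβ _ => ?_) (fun β hβ i hi => ?_)
    · rw [mHom_gen]
      split_ifs with hb
      · rw [show shift β (fun i => (M.1 i : ℤ) - (Finsupp.single 1 q : Fin (n + 1) →₀ ℕ) i) = β - Finsupp.single 1 q + M.1 from shift_eq fun i => by
          have := Finsupp.single_le_iff.2 hb.2 i
          simp only [Finsupp.add_apply, Finsupp.tsub_apply]
          omega]
        exact Submodule.mem_span_singleton_self _
      · exact Submodule.zero_mem _
    · rw [mHom_gen, if_neg]
      intro hb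
      dsimp only at hi
      have := Finsupp.single_le_iff.2 hb.2 i
      omega

/-- the row used as a pivot for the substitutions `x_0 ↦ x_l` -/
def base (n s : ℕ) : Fin (n + 1) :=
  if h : s + 1 < n then ⟨s + 1, by omega⟩ else Fin.ofNat (n + 1) 2

theorem base_val {s : ℕ} (hn : 3 ≤ n) : (base n s).val = if s + 1 < n then s + 1 else 2 := by
  unfold base
  split_ifs with h
  · rfl
  · rw [Fin.val_ofNat, Nat.mod_eq_of_lt (by omega)]

set_option maxHeartbeats 1600000 in
theorem finrank_twoBlock {q s : ℕ} (hn : 3 ≤ n) (hq : 1 ≤ q) (hs : s + 1 ≤ n) (hs2 : 2 ≤ s)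
    (hc : s + 3 ≤ n ∨ (s + 2 = n ∧ q ≠ 2) ∨ (s + 1 = n ∧ q = 1)) :
    Module.finrank k ↥(⨆ α : {α : Fin (n + 1) → ℤ // ∑ i, α i = 0}, tPiece (idl k n q s) α.1) =
      Nat.card (LIdx n q s) + Nat.card (MIdx n q) + Nat.card (Single n q s) := by
  classical
  have hI : IsMonomial (idl k n q s) := isMonomial_span _
  let T : Fin (n + 1) := Fin.last n
  let x2 : Fin (n + 1) := ⟨2, by omega⟩
  have hT : T.val = n := rfl
  have v1 := val_one (n := n) (by omega)
  have v2 : x2.val = 2 := rfl
  have h10 : (1 : Fin (n + 1)) ≠ 0 := fun h => by have := congrArg Fin.val h; simp at this; omega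
  have h21 : x2 ≠ 1 := fun h => by have := congrArg Fin.val h; omega
  have h20 : x2 ≠ 0 := fun h => by have := congrArg Fin.val h; rw [v2] at this; simp at this
  have low0 : ∀ i : Fin (n + 1), 1 ≤ i.val → i ≠ 0 := fun i hi h => by subst h; simp at hi
  have low1 : ∀ i : Fin (n + 1), 2 ≤ i.val → i ≠ 1 := fun i hi h => by subst h; omega
  have lowT : ∀ i : Fin (n + 1), i.val < n → i ≠ T := fun i hi h => by subst h; omega
  have T0 : T ≠ 0 := low0 T (by omega)
  have T1 : T ≠ 1 := low1 T (by omega)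
  have hb := base_val (n := n) (s := s) hn
  have hb2 : 2 ≤ (base n s).val ∧ (base n s).val < n := by rw [hb]; split_ifs <;> omega
  have b0 : base n s ≠ 0 := low0 _ (by omega)
  have b1 : base n s ≠ 1 := low1 _ (by omega)
  have bT : base n s ≠ T := lowT _ hb2.2
  have genJ : ∀ i : Fin (n + 1), i.val < n → E 0 + E i ∈ exps (idl k n q s) := fun i hi =>
    mem_exps_span.2 ⟨_, Or.inl ⟨i, hi, rfl⟩, le_rfl⟩
  have genH : ∀ i : Fin (n + 1), 1 ≤ i.val → i.val ≤ s → Finsupp.single 1 q + E i ∈ exps (idl k n q s) := fun i h h' =>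
    mem_exps_span.2 ⟨_, Or.inr ⟨i, h, h', rfl⟩, le_rfl⟩
  have std0 : ∀ γ : Fin (n + 1) →₀ ℕ, γ 0 = 0 →
      (γ 1 < q ∨ (γ 1 = q ∧ ∀ m : Fin (n + 1), 2 ≤ m.val → m.val ≤ s → γ m = 0)) → γ ∉ exps (idl k n q s) := by
    intro γ h0 h
    rw [mem_exps (by omega) hs (by omega)]
    rintro (⟨h', -⟩ | ⟨h', h'' | ⟨m, hm1, hm2, hm⟩⟩)
    · omega
    · omega
    · rcases h with h | ⟨-, h⟩
      · omega
      · rw [h m hm1 hm2] at hm; omega
  have sL : ∀ l : LIdx n q s, E (base n s) + E l.1 ∉ exps (idl k n q s) := by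
    rintro ⟨l, hl0, hl⟩
    refine std0 _ (by simp [b0.symm, hl0.symm]) ?_
    by_cases hl1 : l = 1
    · subst hl1
      by_cases hq1 : 1 < q
      · left; simp [b1.symm]; omega
      · right
        have hR : s + 1 < n := by
          by_contra hc'
          exact hl ⟨by omega, by omega, rfl⟩
        refine ⟨by simp [b1.symm]; omega, fun m hm1 hm2 => ?_⟩
        have : m ≠ base n s := fun e => by subst e; rw [hb, if_pos hR] at hm2; omega
        simp [this, low1 m hm1]
    · left; simp [b1.symm, Ne.symm hl1]; omega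
  have sM : ∀ M : MIdx n q, E x2 + M.1 ∉ exps (idl k n q s) := fun M => std0 _ (by simp [h20.symm, M.2.2.1]) (Or.inl (by
    simp [h21.symm]; exact midx_lt M))
  have sS := sval_notMem (k := k) (n := n) hn hq hs hs2
  have gS : ∀ p : Single n q s, sgen n q s p ∈ exps (idl k n q s) := fun p =>
    mem_exps_span.2 ⟨_, sgen_mem p, le_rfl⟩
  let P := LIdx n q s ⊕ MIdx n q ⊕ Single n q s
  let e : P → Tgt (idl k n q s) := Sum.elim (fun l => substHom hI _ _ (lHom_compat l.1))
    (Sum.elim (fun M => mHom (by omega) hs (by omega) M) (fun p => substHom hI _ _ (isolated hn hq hs hs2 p)))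
  let C : P → Tgt (idl k n q s) →ₗ[k] k := Sum.elim (fun l => cfAt hI (genJ (base n s) hb2.2) (E (base n s) + E l.1))
    (Sum.elim (fun M => cfAt hI (genH x2 (by omega) (by omega)) (E x2 + M.1)) (fun p => cfAt hI (gS p) (sval n q s p)))
  let rk : P → ℕ := Sum.elim (fun _ => 0) (Sum.elim (fun _ => 0) (fun _ => 1))
  have cfAt_mHom : ∀ (M : MIdx n q) {g : Fin (n + 1) →₀ ℕ} (hg : g ∈ exps (idl k n q s)) {γ : Fin (n + 1) →₀ ℕ},
      γ ∉ exps (idl k n q s) → cfAt hI hg γ (mHom (by omega) hs (by omega) M) =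
        if (g 0 = 0 ∧ q ≤ g 1) ∧ g - Finsupp.single 1 q + M.1 = γ then 1 else 0 := by
    intro M g hg γ hγ
    show cf hI γ (mHom (k := k) (by omega) hs (by omega) M (gen g hg)) = _
    rw [mHom_gen]
    by_cases h : g 0 = 0 ∧ q ≤ g 1
    · rw [if_pos h]
      by_cases h2 : g - Finsupp.single 1 q + M.1 = γ
      · rw [if_pos ⟨h, h2⟩, h2, cf_mono_self hI hγ]
      · rw [if_neg fun hc => h2 hc.2, cf_mono_ne hI h2]
    · rw [if_neg h, map_zero, if_neg fun hc => h hc.1]
  have hJh : ∀ i j : Fin (n + 1), 1 ≤ i.val → ¬ Finsupp.single 1 q + E i ≤ E 0 + E j := fun i j hi h => by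
    have a1 := h 1
    have a2 := h i
    rcases eq_or_ne i 1 with rfl | hi1
    · rcases eq_or_ne j 1 with rfl | hj1
      · simp [h10] at a1; omega
      · simp [h10, hj1.symm] at a1
    · rcases eq_or_ne j i with rfl | hij
      · simp [h10, hi1.symm] at a1; omega
      · simp [hi1, low0 i hi, hij.symm] at a2
  have hhJ : ∀ i j : Fin (n + 1), 1 ≤ i.val → ¬ E 0 + E j ≤ Finsupp.single 1 q + E i := fun i j hi h => by
    have a0 := h 0
    simp [h10.symm, (low0 i hi).symm] at a0
  have geq : ∀ i j : Fin (n + 1), E 0 + E i ≤ E 0 + E j → i = j := fun i j h => by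
    by_contra hne
    have := (add_le_add_iff_left (E (0 : Fin (n + 1)))).1 h i
    simp [hne] at this
  have heq : ∀ i j : Fin (n + 1), Finsupp.single 1 q + E i ≤ Finsupp.single 1 q + E j → i = j := fun i j h => by
    by_contra hne
    have := (add_le_add_iff_left (Finsupp.single (1 : Fin (n + 1)) q)).1 h i
    simp [hne] at this
  have antiS : ∀ p p' : Single n q s, sgen n q s p' ≤ sgen n q s p → sgen n q s p' = sgen n q s p := by
    rintro (j | j | i | i) (j' | j' | i' | i') h <;>
      simp only [sgen, Sum.elim_inl, Sum.elim_inr] at h ⊢ <;>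
      first
        | rw [geq _ _ h]
        | rw [heq _ _ h]
        | (exfalso; revert h; first
            | exact hJh _ _ (by first | exact i'.2.1 | exact i'.1.2.1)
            | exact hhJ _ _ (by first | exact i.2.1 | exact i.1.2.1))
  refine (finrank_of_triangular _ e ?_ C rk ?_ ?_ ?_).trans (by simp only [Nat.card_sum, P]; omega)
  · rintro (l | M | p)
    · exact substHom_mem hI (lHom_compat l.1) (by simp)
    · exact mHom_mem (by omega) hs (by omega) M
    · exact substHom_mem hI (isolated hn hq hs hs2 p) (sval_degree p)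
  · rintro (l | M | p)
    · simp only [C, e, Sum.elim_inl, cfAt_substHom hI _ _ (sL l)]
      rw [if_pos ⟨le_self_add, by rw [add_tsub_cancel_left]⟩]
    · simp only [C, e, Sum.elim_inl, Sum.elim_inr, cfAt_mHom M _ (sM M)]
      rw [if_pos ⟨⟨by simp [h10.symm, h20.symm], by simp⟩, by rw [add_tsub_cancel_left]⟩]
    · simp only [C, e, Sum.elim_inr, cfAt_substHom hI _ _ (sS p)]
      rw [if_pos ⟨le_rfl, by rw [tsub_self, zero_add]⟩]
  · rintro (l | M | p) (l' | M' | p') hne hrk
    · simp only [C, e, Sum.elim_inl, cfAt_substHom hI _ _ (sL l)]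
      rw [if_neg fun h => hne ?_]
      have := h.2
      rw [add_tsub_cancel_left] at this
      rw [Subtype.ext (Finsupp.single_left_injective one_ne_zero (add_left_cancel this)).symm]
    · simp only [C, e, Sum.elim_inl, Sum.elim_inr, cfAt_mHom M' _ (sL l)]
      rw [if_neg fun h => by have := h.1.1; simp at this]
    · simp only [C, e, Sum.elim_inl, Sum.elim_inr, cfAt_substHom hI _ _ (sL l)]
      rw [if_neg]
      rintro ⟨hle, heq'⟩
      rcases p' with j | j | i | i <;> simp only [sgen, sval, Sum.elim_inl, Sum.elim_inr] at hle heq'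
      · rw [geq _ _ hle, tsub_self, zero_add] at heq'
        have := congrArg (fun f : Fin (n + 1) →₀ ℕ => f 0) heq'
        simp [b0.symm, l.2.1.symm, T0.symm] at this
      · rw [geq _ _ hle, tsub_self, zero_add] at heq'
        have := congrArg (fun f : Fin (n + 1) →₀ ℕ => f (base n s)) heq'
        rcases eq_or_ne l.1 (base n s) with h | h
        · simp [h, b1, bT, T] at this
        · simp [b1, bT, h.symm, T] at this
      · exact hJh _ _ i.2.1 hle
      · exact hJh _ _ i.1.2.1 hle
    · simp only [C, e, Sum.elim_inl, Sum.elim_inr, cfAt_substHom hI _ _ (sM M)]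
      rw [if_neg fun h => by have := h.1 0; simp [h10.symm, h20.symm] at this]
    · simp only [C, e, Sum.elim_inl, Sum.elim_inr, cfAt_mHom M' _ (sM M)]
      rw [if_neg fun h => hne ?_]
      have := h.2
      rw [add_tsub_cancel_left] at this
      rw [Subtype.ext (add_left_cancel this).symm]
    · simp only [C, e, Sum.elim_inl, Sum.elim_inr, cfAt_substHom hI _ _ (sM M)]
      rw [if_neg]
      rintro ⟨hle, heq'⟩
      rcases p' with j | j | i | i <;> simp only [sgen, sval, Sum.elim_inl, Sum.elim_inr] at hle heq'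
      · exact hhJ _ _ (by omega) hle
      · exact hhJ _ _ (by omega) hle
      · rw [heq _ _ hle, tsub_self, zero_add] at heq'
        have := congrArg (fun f : Fin (n + 1) →₀ ℕ => f 0) heq'
        simp [h20.symm, T0.symm, M.2.2.1] at this
      · rw [heq _ _ hle, tsub_self, zero_add] at heq'
        have := congrArg (fun f : Fin (n + 1) →₀ ℕ => f 1) heq'
        have hy1 : i.2.1 ≠ 1 := low1 _ (by have := i.2.2; omega)
        simp [h21.symm, hy1.symm] at this
        have := midx_lt M
        omega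
    · simp [rk] at hrk
    · simp [rk] at hrk
    · simp only [C, e, Sum.elim_inr, cfAt_substHom hI _ _ (sS p)]
      rw [if_neg]
      rintro ⟨hle, heq'⟩
      rw [antiS p p' hle, tsub_self, zero_add] at heq'
      have hg := antiS p p' hle
      refine hne ?_
      rcases p with j | j | i | ⟨i, y⟩ <;> rcases p' with j' | j' | i' | ⟨i', y'⟩ <;> simp only [sgen, sval, Sum.elim_inl, Sum.elim_inr] at hg heq'
      all_goals first
        | (have hi := Finsupp.single_left_injective one_ne_zero (add_left_cancel hg)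
           first
           | exact congrArg (fun x => Sum.inr (Sum.inr (Sum.inl x))) (Subtype.ext hi.symm)
           | exact congrArg (fun x => Sum.inr (Sum.inr (Sum.inr (Sum.inl x)))) (Subtype.ext hi.symm)
           | exact congrArg (fun x => Sum.inr (Sum.inr (Sum.inr (Sum.inr (Sum.inl x))))) (Subtype.ext hi.symm))
        | (have := congrArg (fun f : Fin (n + 1) →₀ ℕ => f 0) hg; simp [h10.symm, (low0 _ i.2.1).symm] at this; done)
        | (have := congrArg (fun f : Fin (n + 1) →₀ ℕ => f 0) hg; simp [h10.symm, (low0 _ i'.2.1).symm] at this; done)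
        | (have := congrArg (fun f : Fin (n + 1) →₀ ℕ => f 0) heq'; simp [h10.symm, T0.symm, T] at this; done)
        | (have := congrArg (fun f : Fin (n + 1) →₀ ℕ => f 0) heq'
           simp [h10.symm, T0.symm, T, (low0 _ (show 1 ≤ y.1.val by have := y.2; omega)).symm] at this; done)
        | (have := congrArg (fun f : Fin (n + 1) →₀ ℕ => f 0) heq'
           simp [h10.symm, T0.symm, T, (low0 _ (show 1 ≤ y'.1.val by have := y'.2; omega)).symm] at this; done)
        | exact absurd hg.le (hJh _ _ i'.2.1)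
        | exact absurd hg.ge (hJh _ _ i.2.1)
        | (obtain ⟨i, hi⟩ := i
           obtain ⟨y, hy⟩ := y
           obtain ⟨i', hi'⟩ := i'
           obtain ⟨y', hy'⟩ := y'
           obtain rfl : i = i' := (Finsupp.single_left_injective one_ne_zero (add_left_cancel hg)).symm
           obtain rfl : y = y' := (Finsupp.single_left_injective one_ne_zero (add_left_cancel heq')).symm
           rfl)
  · intro φ hM hC
    have cL : ∀ l : LIdx n q s, cfAt hI (genJ (base n s) hb2.2) (E (base n s) + E l.1) φ = 0 := fun l => hC (Sum.inl l)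
    have cM : ∀ M : MIdx n q, cfAt hI (genH x2 (by omega) (by omega)) (E x2 + M.1) φ = 0 := fun M => hC (Sum.inr (Sum.inl M))
    have cS : ∀ p : Single n q s, cfAt hI (gS p) (sval n q s p) φ = 0 := fun p => hC (Sum.inr (Sum.inr p))
    have hR : ∀ (m : Fin (n + 1)), 2 ≤ m.val → s < m.val → ∀ γ : Fin (n + 1) →₀ ℕ, γ 0 = 0 →
        γ ∉ exps (idl k n q s) → E m + γ ∉ exps (idl k n q s) := by
      intro m hm2 hms γ h0 hγ
      rw [mem_exps (by omega) hs (by omega)] at hγ ⊢
      rintro (⟨h, -⟩ | ⟨h, h' | ⟨t, ht1, ht2, ht⟩⟩)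
      · simp [(low0 m (by omega)).symm, h0] at h
      · simp [(low1 m hm2).symm] at h'
        exact hγ (Or.inr ⟨by omega, Or.inl h'⟩)
      · have : t ≠ m := fun e => by subst e; omega
        simp [(low1 m hm2).symm] at h
        simp [this] at ht
        exact hγ (Or.inr ⟨h, Or.inr ⟨t, ht1, ht2, ht⟩⟩)
    have hlow : ∀ (m : Fin (n + 1)), 2 ≤ m.val → ∀ γ : Fin (n + 1) →₀ ℕ, γ 0 = 0 → γ 1 < q →
        E m + γ ∉ exps (idl k n q s) := fun m hm2 γ h0 h1 =>
      std0 _ (by simp [(low0 m (by omega)).symm, h0]) (Or.inl (by simp [(low1 m hm2).symm]; exact h1))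
    have hgt : ∀ γ : Fin (n + 1) →₀ ℕ, γ ∉ exps (idl k n q s) → γ 0 = 0 →
        γ 1 < q ∨ (γ 1 = q ∧ ∀ m : Fin (n + 1), 2 ≤ m.val → m.val ≤ s → γ m = 0) := by
      intro γ hγ h0
      rw [mem_exps (by omega) hs (by omega)] at hγ
      push Not at hγ
      rcases Nat.lt_or_ge (γ 1) q with h | h
      · exact Or.inl h
      · obtain ⟨h', h''⟩ := hγ.2 h
        exact Or.inr ⟨by omega, fun m hm1 hm2 => Nat.lt_one_iff.1 (h'' m hm1 hm2)⟩
    have hXT : ∀ (j : Fin (n + 1)) (hj : j.val < n), q = 1 → (∀ m : ℕ, s < m → m < n → m = j.val) →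
        cfAt hI (genJ j hj) (E 1 + E T) φ = 0 := fun j hj hq1 hm => cS (Sum.inr (Sum.inl ⟨j, hj, hq1, hm⟩))
    have hone : ∀ γ : Fin (n + 1) →₀ ℕ, γ 0 = 0 → γ 1 = q → γ.degree = 2 → (∀ m : Fin (n + 1), 2 ≤ m.val → m.val ≤ s → γ m = 0) →
        ∀ t : Fin (n + 1), q = 1 → γ t = 0 → (∀ m : ℕ, s < m → m < n → m = t.val) → γ = E 1 + E T := by
      intro γ h0 h1 hd hz t hq1 ht hm
      obtain ⟨r, rfl⟩ := le_iff_exists_add.1 (Finsupp.single_le_iff.2 (show 1 ≤ γ 1 by omega))
      rw [map_add, Finsupp.degree_single] at hd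
      obtain ⟨l, rfl⟩ := eq_single_of_degree_eq_one (show r.degree = 1 by omega)
      congr 2
      by_contra hlT
      have hlv : l.val < n := by have := l.isLt; have : l.val ≠ n := fun h => hlT (Fin.ext h); omega
      have hl0 : l ≠ 0 := fun e => by subst e; simp at h0
      have hl1 : l ≠ 1 := fun e => by subst e; simp at h1; omega
      have hl2 : 2 ≤ l.val := by
        have := val_pos hl0
        have : l.val ≠ 1 := fun e => hl1 (Fin.ext (e.trans v1.symm))
        omega
      by_cases hls : l.val ≤ s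
      · have := hz l hl2 hls; simp at this
      · have := hm l.val (by omega) hlv
        obtain rfl := Fin.ext this
        simp at ht
    have hA : ∀ γ : Fin (n + 1) →₀ ℕ, γ ∉ exps (idl k n q s) → γ 0 = 0 → γ.degree = 2 →
        cfAt hI (genJ (base n s) hb2.2) γ φ = 0 := by
      intro γ hγ h0 hd
      by_cases hbz : γ (base n s) = 0
      · by_cases hR2 : s + 3 ≤ n
        · have hm : (⟨s + 2, by omega⟩ : Fin (n + 1)) ≠ base n s := fun h => by
            have := congrArg Fin.val h
            rw [hb, if_pos (by omega)] at this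
            simp at this
          refine cfAt_rel_zero hI φ (δ := E ⟨s + 2, by omega⟩) (δ' := E (base n s)) _ (genJ ⟨s + 2, by omega⟩ (by simp; omega)) (by abel)
            (hR _ (by simp) (by simp) γ h0 hγ) ?_
          intro hle
          have := hle (base n s)
          simp [hm.symm, hbz] at this
        rcases hgt γ hγ h0 with h1 | ⟨h1, h1'⟩
        · rcases hc with hc | hc | hc
          · omega
          · refine cfAt_rel_zero hI φ (δ := E x2) (δ' := E (base n s)) _ (genJ x2 (by omega)) (by abel)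
              (hlow x2 (by omega) γ h0 h1) ?_
            intro hle
            have := hle (base n s)
            have hx : base n s ≠ x2 := fun h => by
              have := congrArg Fin.val h; rw [hb, if_pos (by omega)] at this; omega
            simp [hx, hbz] at this
          · have hbv : (base n s).val = 2 := by rw [hb, if_neg (by omega)]
            by_cases hz : ∀ m : Fin (n + 1), 2 ≤ m.val → m.val ≤ s → γ m = 0
            · refine cfAt_rel_zero hI φ (δ := E 1) (δ' := E (base n s)) _ (genJ 1 (by omega)) (by abel)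
                (std0 _ (by simp [h10.symm, h0]) (Or.inr ⟨by simp; omega, fun m hm1 hm2 => by simp [low1 m hm1]; exact hz m hm1 hm2⟩)) ?_
              intro hle
              have := hle (base n s)
              simp [b1, hbz] at this
            · push Not at hz
              obtain ⟨m, hm1, hm2, hm⟩ := hz
              have hmb : m ≠ base n s := fun e => hm (e ▸ hbz)
              have hm3 : m.val ≠ 2 := fun e => hmb (Fin.ext (e.trans hbv.symm))
              refine cfAt_rel_zero hI φ (δ := E m) (δ' := E (base n s)) _ (genJ m (by omega)) (by abel)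
                (hlow m (by omega) γ h0 h1) ?_
              intro hle
              have := hle (base n s)
              simp [hmb.symm, hbz] at this
        · have hq1 : q = 1 := by
            rcases hc with hc | hc | hc
            · omega
            · have : γ 1 ≤ 2 := by rw [← hd]; exact Finsupp.le_degree _ _
              omega
            · exact hc.2
          have hmall : ∀ m : ℕ, s < m → m < n → m = (base n s).val := fun m h h' => by
            rw [hb, if_pos (by omega)]; omega
          rw [hone γ h0 h1 hd h1' (base n s) hq1 hbz hmall]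
          exact hXT _ hb2.2 hq1 hmall
      · obtain ⟨r, rfl⟩ := le_iff_exists_add.1 (Finsupp.single_le_iff.2 (show 1 ≤ γ (base n s) by omega))
        rw [map_add, Finsupp.degree_single] at hd
        obtain ⟨l, rfl⟩ := eq_single_of_degree_eq_one (show r.degree = 1 by omega)
        refine cL ⟨l, fun hl => ?_, ?_⟩
        · subst hl; simp [b0.symm] at h0
        · rintro ⟨hq1, hs1, rfl⟩
          refine hγ ?_
          rw [mem_exps (by omega) hs (by omega)]
          refine Or.inr ⟨by simp [b1.symm]; omega, Or.inr ⟨base n s, by omega, ?_, by simp⟩⟩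
          rw [hb, if_neg (by omega)]; omega
    have hB : ∀ (j : Fin (n + 1)) (hj : j.val < n) (γ : Fin (n + 1) →₀ ℕ), γ ∉ exps (idl k n q s) → γ 0 = 0 →
        γ.degree = 2 → cfAt hI (genJ j hj) γ φ = 0 := by
      intro j hj γ hγ h0 hd
      by_cases hjb : j = base n s
      · subst hjb; exact hA γ hγ h0 hd
      by_cases hτ : E (base n s) + γ ∈ exps (idl k n q s)
      · have hsn : ¬ s + 1 < n := fun h => hR _ (by omega) (by rw [hb, if_pos h]; omega) γ h0 hγ hτ
        have hq1 : q = 1 := by omega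
        rcases hgt γ hγ h0 with h1 | ⟨h1, h1'⟩
        · exact absurd hτ (hlow _ (by omega) γ h0 h1)
        · have hmall : ∀ m : ℕ, s < m → m < n → m = j.val := fun m _ _ => by omega
          have : γ = E 1 + E T := by
            obtain ⟨r, rfl⟩ := le_iff_exists_add.1 (Finsupp.single_le_iff.2 (show 1 ≤ γ 1 by omega))
            rw [map_add, Finsupp.degree_single] at hd
            obtain ⟨l, rfl⟩ := eq_single_of_degree_eq_one (show r.degree = 1 by omega)
            congr 2
            by_contra hlT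
            have hlv : l.val < n := by have := l.isLt; have : l.val ≠ n := fun h => hlT (Fin.ext h); omega
            have hl0 : l ≠ 0 := fun e => by subst e; simp at h0
            have hl1 : l ≠ 1 := fun e => by subst e; simp at h1; omega
            have := h1' l (by have := val_pos hl0; have : l.val ≠ 1 := fun e => hl1 (Fin.ext (e.trans v1.symm)); omega) (by omega)
            simp at this
          rw [this]
          exact hXT j hj hq1 hmall
      by_cases hle : E j ≤ E (base n s) + γ
      · obtain ⟨γ', hγ'⟩ := le_iff_exists_add.1 hle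
        rw [cfAt_rel hI φ (δ := E (base n s)) (δ' := E j) _ (genJ (base n s) hb2.2) (by abel) hτ hγ']
        have e0 := congrArg (fun f : Fin (n + 1) →₀ ℕ => f 0) hγ'
        have e := congrArg Finsupp.degree hγ'
        simp [b0.symm, h0] at e0
        rw [map_add, map_add, Finsupp.degree_single, Finsupp.degree_single] at e
        refine hA γ' (fun hc' => hτ (hγ' ▸ exps_up hc' le_add_self)) (by omega) (by omega)
      · exact cfAt_rel_zero hI φ (δ := E (base n s)) (δ' := E j) _ (genJ (base n s) hb2.2) (by abel) hτ hle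
    have hP2 : ∀ γ : Fin (n + 1) →₀ ℕ, γ 0 = 0 → γ 1 < q → γ.degree = q + 1 →
        cfAt hI (genH x2 (by omega) (by omega)) γ φ = 0 := by
      intro γ h0 h1 hd
      by_cases hz2 : γ x2 = 0
      · by_cases hz : ∀ m : Fin (n + 1), 2 ≤ m.val → m.val ≤ s → γ m = 0
        · refine cfAt_rel_zero hI φ (δ := E 1) (δ' := E x2) _ (genH 1 (by omega) (by omega)) (by abel)
            (std0 _ (by simp [h10.symm, h0]) ?_) ?_
          · rcases Nat.lt_or_ge (γ 1 + 1) q with h | h
            · exact Or.inl (by simp; omega)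
            · exact Or.inr ⟨by simp; omega, fun m hm1 hm2 => by simp [low1 m hm1]; exact hz m hm1 hm2⟩
          · intro hle
            have := hle x2
            simp [h21, hz2] at this
        · push Not at hz
          obtain ⟨m, hm1, hm2, hm⟩ := hz
          have hmx : m ≠ x2 := fun e => hm (e ▸ hz2)
          refine cfAt_rel_zero hI φ (δ := E m) (δ' := E x2) _ (genH m (by omega) hm2) (by abel) (hlow m hm1 γ h0 h1) ?_
          intro hle
          have := hle x2
          simp [hmx.symm, hz2] at this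
      · obtain ⟨M, rfl⟩ := le_iff_exists_add.1 (Finsupp.single_le_iff.2 (show 1 ≤ γ x2 by omega))
        rw [map_add, Finsupp.degree_single] at hd
        simp [h20.symm] at h0
        simp [h21.symm] at h1
        refine cM ⟨M, by omega, h0, fun e => ?_⟩
        subst e
        simp at h1
    have hgen : ∀ g, ∀ hg : g ∈ gset n q s, ∀ γ, γ ∉ exps (idl k n q s) → γ.degree = g.degree →
        cfAt hI (mem_exps_span.2 ⟨g, hg, le_rfl⟩ : g ∈ exps (idl k n q s)) γ φ = 0 := by
      have hzero : ∀ γ : Fin (n + 1) →₀ ℕ, γ ∉ exps (idl k n q s) → γ 0 ≠ 0 →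
          γ = E 0 + Finsupp.single T (γ.degree - 1) := by
        intro γ hγ h0
        rw [mem_exps (by omega) hs (by omega)] at hγ
        push Not at hγ
        obtain ⟨h02, hz⟩ := hγ.1 (by omega)
        have hother : ∀ m : Fin (n + 1), m ≠ 0 → m ≠ T → γ m = 0 := fun m hm0 hmT => by
          have hmv : m.val < n := by have := m.isLt; have : m.val ≠ n := fun h => hmT (Fin.ext h); omega
          exact Nat.lt_one_iff.1 (hz m (val_pos hm0) hmv)
        have hd := Finsupp.degree_eq_sum γ
        rw [← Finset.add_sum_erase _ _ (Finset.mem_univ (0 : Fin (n + 1))),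
          Finset.sum_eq_single T (fun m hm hmT => hother m (Finset.mem_erase.1 hm).1 hmT)
            (fun h => absurd (Finset.mem_erase.2 ⟨T0, Finset.mem_univ T⟩) h)] at hd
        ext m
        rcases eq_or_ne m 0 with rfl | hm0
        · simp [T0.symm]; omega
        · rcases eq_or_ne m T with rfl | hmT
          · simp [T0]; omega
          · simp [hm0, hmT, hother m hm0 hmT]
      rintro g (⟨i, hi, rfl⟩ | ⟨i, hi1, hi2, rfl⟩) γ hγ hdeg
      · rw [map_add, Finsupp.degree_single, Finsupp.degree_single] at hdeg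
        by_cases h0 : γ 0 = 0
        · by_cases hi0 : i = 0
          · subst hi0
            by_cases hτ : E (base n s) + γ ∈ exps (idl k n q s)
            · exact hB 0 (by simp; omega) γ hγ h0 hdeg
            · refine cfAt_rel_zero hI φ (δ := E (base n s)) (δ' := E 0) _ (genJ (base n s) hb2.2) (by abel) hτ ?_
              intro hle
              have := hle 0
              simp [b0.symm, h0] at this
          · exact hB i (by omega) γ hγ h0 hdeg
        · rw [hzero γ hγ h0, hdeg]
          exact cS (Sum.inl ⟨i, by omega⟩)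
      · rw [map_add, Finsupp.degree_single, Finsupp.degree_single] at hdeg
        by_cases h0 : γ 0 = 0
        · rcases hgt γ hγ h0 with h1 | ⟨h1, h1'⟩
          · rcases eq_or_ne i x2 with rfl | hix
            · exact hP2 γ h0 h1 hdeg
            · have hτ := hlow x2 (by omega) γ h0 h1
              by_cases hle : E i ≤ E x2 + γ
              · obtain ⟨γ', hγ'⟩ := le_iff_exists_add.1 hle
                rw [cfAt_rel hI φ (δ := E x2) (δ' := E i) _ (genH x2 (by omega) (by omega)) (by abel) hτ hγ']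
                have e0 := congrArg (fun f : Fin (n + 1) →₀ ℕ => f 0) hγ'
                have e1 := congrArg (fun f : Fin (n + 1) →₀ ℕ => f 1) hγ'
                have e := congrArg Finsupp.degree hγ'
                simp [h20.symm, (low0 i hi1).symm, h0] at e0
                simp [h21.symm] at e1
                rw [map_add, map_add, Finsupp.degree_single, Finsupp.degree_single] at e
                refine hP2 γ' e0.symm ?_ (by omega)
                omega
              · exact cfAt_rel_zero hI φ (δ := E x2) (δ' := E i) _ (genH x2 (by omega) (by omega)) (by abel) hτ hle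
          · obtain ⟨r, rfl⟩ := le_iff_exists_add.1 (Finsupp.single_le_iff.2 (show q ≤ γ 1 by omega))
            rw [map_add, Finsupp.degree_single] at hdeg
            obtain ⟨l, rfl⟩ := eq_single_of_degree_eq_one (show r.degree = 1 by omega)
            have hl0 : l ≠ 0 := fun e => by subst e; simp at h0
            have hl1 : l ≠ 1 := fun e => by subst e; simp at h1
            have hls : s < l.val := by
              by_contra hls
              have := h1' l (by have := val_pos hl0; have : l.val ≠ 1 := fun e => hl1 (Fin.ext (e.trans v1.symm)); omega) (by omega)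
              simp at this
            exact cS (Sum.inr (Sum.inr (Sum.inr (⟨i, hi1, hi2⟩, ⟨l, hls⟩))))
        · rw [hzero γ hγ h0, hdeg]
          exact cS (Sum.inr (Sum.inr (Sum.inl ⟨i, hi1, hi2⟩)))
    refine tgt_ext_span fun g hg => eq_of_cf hI fun γ hγ => ?_
    rw [LinearMap.zero_apply, map_zero]
    by_cases hd : γ.degree = g.degree
    · exact hgen g hg γ hγ hd
    · exact cfAt_eq_zero_of_degree_ne hI hM _ hd

theorem count_deg (n q : ℕ) :
    Nat.card {γ : Fin (n + 1) →₀ ℕ // γ.degree = q ∧ γ 0 = 0} = Nat.multichoose n q := by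
  rw [← card_deg_eq n q]
  refine Nat.card_congr ⟨fun γ => ⟨Finsupp.tail γ.1, ?_⟩, fun b => ⟨Finsupp.cons 0 b.1, ?_⟩, fun γ => ?_, fun b => ?_⟩
  · have h := γ.2.1
    rw [Finsupp.degree_eq_sum, Fin.sum_univ_succ, γ.2.2, zero_add] at h
    rw [Finsupp.degree_eq_sum]; simpa [Finsupp.tail_apply] using h
  · refine ⟨?_, Finsupp.cons_zero _ _⟩
    have h := b.2
    rw [Finsupp.degree_eq_sum] at h ⊢
    rw [Fin.sum_univ_succ, Finsupp.cons_zero, zero_add]; simpa [Finsupp.cons_succ] using h
  · refine Subtype.ext (Eq.trans ?_ (Finsupp.cons_tail γ.1))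
    show Finsupp.cons 0 _ = _
    rw [γ.2.2]
  · exact Subtype.ext (Finsupp.tail_cons _ _)

theorem card_midx (n q : ℕ) (hn : 1 ≤ n) : Nat.card (MIdx n q) + 1 = Nat.choose (n + q - 1) (n - 1) := by
  classical
  haveI : Finite {γ : Fin (n + 1) →₀ ℕ // γ.degree = q ∧ γ 0 = 0} :=
    ((Finsupp.finite_of_degree_le q).subset fun M (h : M.degree = q ∧ M 0 = 0) =>
      show M.degree ≤ q from h.1.le).to_subtype
  haveI := Fintype.ofFinite {γ : Fin (n + 1) →₀ ℕ // γ.degree = q ∧ γ 0 = 0}
  let z : {γ : Fin (n + 1) →₀ ℕ // γ.degree = q ∧ γ 0 = 0} :=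
    ⟨Finsupp.single 1 q, Finsupp.degree_single _ _, by
      rw [Finsupp.single_eq_of_ne]
      intro h
      have := congrArg Fin.val h
      rw [val_one hn] at this
      simp at this⟩
  have e : Nat.card (MIdx n q) = Nat.card {x : {γ : Fin (n + 1) →₀ ℕ // γ.degree = q ∧ γ 0 = 0} // x ≠ z} :=
    Nat.card_congr ⟨fun M => ⟨⟨M.1, M.2.1, M.2.2.1⟩, fun h => M.2.2.2 (congrArg Subtype.val h)⟩,
      fun x => ⟨x.1.1, x.1.2.1, x.1.2.2, fun h => x.2 (Subtype.ext h)⟩, fun M => rfl, fun x => rfl⟩
  have hc := count_deg n q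
  rw [Nat.multichoose_eq, Nat.choose_symm_of_eq_add (show n + q - 1 = n - 1 + q by omega) |>.symm] at hc
  have hpos : 0 < Nat.card {γ : Fin (n + 1) →₀ ℕ // γ.degree = q ∧ γ 0 = 0} := Nat.card_pos_iff.2 ⟨⟨z⟩, inferInstance⟩
  rw [e, ← hc, Nat.card_eq_fintype_card, Nat.card_eq_fintype_card, Fintype.card_subtype_compl, Fintype.card_subtype_eq]
  rw [Nat.card_eq_fintype_card] at hpos
  omega

theorem card_low (n m : ℕ) (hm : m ≤ n + 1) : Nat.card {j : Fin (n + 1) // j.val < m} = m := by
  refine (Nat.card_congr ?_).trans (Nat.card_fin m)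
  exact ⟨fun j => ⟨j.1.val, j.2⟩, fun i => ⟨⟨i.val, by omega⟩, i.isLt⟩, fun j => rfl, fun i => rfl⟩

theorem card_mid (n s : ℕ) (hs : s ≤ n) : Nat.card {i : Fin (n + 1) // 1 ≤ i.val ∧ i.val ≤ s} = s := by
  refine (Nat.card_congr ?_).trans (Nat.card_fin s)
  exact ⟨fun j => ⟨j.1.val - 1, by have := j.2; omega⟩, fun i => ⟨⟨i.val + 1, by omega⟩, by simp⟩,
    fun j => Subtype.ext (Fin.ext (by have := j.2; simp; omega)), fun i => Fin.ext (by simp)⟩

theorem card_high (n s : ℕ) (hs : s ≤ n) : Nat.card {y : Fin (n + 1) // s < y.val} = n - s := by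
  refine (Nat.card_congr ?_).trans (Nat.card_fin (n - s))
  exact ⟨fun j => ⟨j.1.val - (s + 1), by have := j.2; omega⟩, fun i => ⟨⟨i.val + (s + 1), by omega⟩, by simp; omega⟩,
    fun j => Subtype.ext (Fin.ext (by have := j.2; simp; omega)), fun i => Fin.ext (by simp)⟩

theorem card_single (n q s : ℕ) (hs : s ≤ n) : Nat.card (Single n q s) =
    n + (Nat.card {j : Fin (n + 1) // j.val < n ∧ q = 1 ∧ ∀ m : ℕ, s < m → m < n → m = j.val} + (s + s * (n - s))) := by
  rw [Nat.card_sum, Nat.card_sum, Nat.card_sum, Nat.card_prod, card_low n n (by omega), card_mid n s hs, card_high n s hs]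

theorem card_lidx (n q s : ℕ) (h : ¬ (q = 1 ∧ s + 1 = n)) : Nat.card (LIdx n q s) = n := by
  rw [Nat.card_congr (Equiv.subtypeEquivRight (q := fun l : Fin (n + 1) => l ≠ 0) fun l =>
    ⟨fun hl => hl.1, fun hl => ⟨hl, fun hc => h ⟨hc.1, hc.2.1⟩⟩⟩)]
  simp [Nat.card_eq_fintype_card, Fintype.card_subtype_compl]

theorem card_lidx' (n q s : ℕ) (hn : 2 ≤ n) (h : q = 1 ∧ s + 1 = n) : Nat.card (LIdx n q s) = n - 1 := by
  refine (Nat.card_congr ?_).trans (Nat.card_fin (n - 1))
  have v1 := val_one (n := n) (by omega)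
  exact ⟨fun l => ⟨l.1.val - 2, by
      have := val_pos l.2.1
      have : l.1.val ≠ 1 := fun e => l.2.2 ⟨h.1, h.2, Fin.ext (e.trans v1.symm)⟩
      omega⟩,
    fun i => ⟨⟨i.val + 2, by omega⟩, fun e => by have := congrArg Fin.val e; simp at this,
      fun e => by have := congrArg Fin.val e.2.2; rw [v1] at this; simp at this⟩,
    fun l => Subtype.ext (Fin.ext (by
      have := val_pos l.2.1
      have : l.1.val ≠ 1 := fun e => l.2.2 ⟨h.1, h.2, Fin.ext (e.trans v1.symm)⟩
      simp; omega)), fun i => Fin.ext (by simp)⟩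

theorem span_eq_idl (n q s : ℕ) :
    Ideal.span ({f : MvPolynomial (Fin (n + 1)) k | ∃ i : Fin (n + 1), i.val + 1 ≤ n ∧ f = X 0 * X i} ∪
      {f : MvPolynomial (Fin (n + 1)) k | ∃ i : Fin (n + 1), 1 ≤ i.val ∧ i.val ≤ s ∧ f = X 1 ^ q * X i}) = idl k n q s := by
  congr 1
  ext f
  constructor
  · rintro (⟨i, hi, rfl⟩ | ⟨i, hi, hi', rfl⟩)
    · exact ⟨_, Or.inl ⟨i, hi, rfl⟩, by rw [X, X, monomial_mul, one_mul]⟩
    · exact ⟨_, Or.inr ⟨i, hi, hi', rfl⟩, by rw [X_pow_eq_monomial, X, monomial_mul, one_mul]⟩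
  · rintro ⟨g, ⟨i, hi, rfl⟩ | ⟨i, hi, hi', rfl⟩, rfl⟩
    · exact Or.inl ⟨i, hi, by rw [X, X, monomial_mul, one_mul]⟩
    · exact Or.inr ⟨i, hi, hi', by rw [X_pow_eq_monomial, X, monomial_mul, one_mul]⟩

end Groth.Agent.HilbPnLib.TwoBlock
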